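import Groth.Agent.NeronA.FinFlatExt
import Mathlib

/-!
# A morphism of smooth schemes which is étale in depth at most one is étale
-/

set_option autoImplicit false
set_option linter.style.haveILetI false

universe u

open AlgebraicGeometry CategoryTheory Limits TensorProduct IsLocalRing
open scoped Pointwise

namespace Groth.Agent.NeronA.EtaleDepth

section Depth

variable {A : Type u} [CommRing A] {M N : Type u} [AddCommGroup M] [Module A M] [AddCommGroup N] [Module A N]

/-- Depth of a localisation is invariant under ring isomorphisms. -/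
theorem depth_ringEquiv {R S : Type u} [CommRing R] [IsLocalRing R] [CommRing S] [IsLocalRing S] (e : R ≃+* S) :
    LocCoh.depth R R = LocCoh.depth S S :=
  Alg6.depth_eq_of_semilinear e.toRingHom e.surjective e.toAddEquiv fun r z => map_mul e r z

theorem bijective_local [IsLocalRing A] [IsNoetherianRing A] [Module.Finite A M] [Module.Finite A N]
    [Module.Free A M] [Module.Free A N] (φ : M →ₗ[A] N)
    (H : ∀ (P : Ideal A) [P.IsPrime], LocCoh.depth (Localization.AtPrime P) (Localization.AtPrime P) ≤ 1 →
      Function.Bijective (φ.baseChange P.ResidueField)) : Function.Bijective φ := by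
  classical
  let bM := Module.Free.chooseBasis A M
  let bN := Module.Free.chooseBasis A N
  -- an associated prime has depth zero
  have hass : ∀ (P : Ideal A) [P.IsPrime], P ∈ associatedPrimes A A →
      LocCoh.depth (Localization.AtPrime P) (Localization.AtPrime P) ≤ 1 := by
    intro P _ hP
    have hmax : maximalIdeal (Localization.AtPrime P) ∈ associatedPrimes (Localization.AtPrime P) (Localization.AtPrime P) := by
      have hc : (maximalIdeal (Localization.AtPrime P)).comap (algebraMap A (Localization.AtPrime P)) = P :=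
        Localization.AtPrime.under_maximalIdeal
      exact Module.associatedPrimes.mem_associatedPrimes_of_comap_mem_associatedPrimes_of_isLocalizedModule
        P.primeCompl (Algebra.linearMap A (Localization.AtPrime P)) _ (by rw [hc]; exact hP)
    by_contra hd
    exact Alg6.one_le_depth_iff.1 (not_le.1 hd).le hmax
  obtain ⟨P, hP⟩ : (associatedPrimes A A).Nonempty := associatedPrimes.nonempty A A
  haveI := hP.isPrime
  have e := LinearEquiv.ofBijective _ (H P (hass P hP))
  have hcard : Fintype.card (Module.Free.ChooseBasisIndex A N) = Fintype.card (Module.Free.ChooseBasisIndex A M) := by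
    rw [← Module.finrank_eq_card_basis (Algebra.TensorProduct.basis P.ResidueField bN),
      ← Module.finrank_eq_card_basis (Algebra.TensorProduct.basis P.ResidueField bM)]
    exact e.finrank_eq.symm
  let bN' := bN.reindex (Fintype.equivOfCardEq hcard)
  let Mx := LinearMap.toMatrix bM bN' φ
  suffices IsUnit Mx.det by exact (LinearEquiv.ofIsUnitDet this).bijective
  have hnot : ∀ (Q : Ideal A) [Q.IsPrime],
      LocCoh.depth (Localization.AtPrime Q) (Localization.AtPrime Q) ≤ 1 → Mx.det ∉ Q := by
    intro Q _ hQ hd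
    have h1 : IsUnit (LinearMap.toMatrix (Algebra.TensorProduct.basis Q.ResidueField bM)
        (Algebra.TensorProduct.basis Q.ResidueField bN') (φ.baseChange Q.ResidueField)).det :=
      LinearEquiv.isUnit_det (LinearEquiv.ofBijective _ (H Q hQ)) _ _
    rw [LinearMap.toMatrix_baseChange, ← RingHom.mapMatrix_apply, ← RingHom.map_det] at h1
    refine h1.ne_zero ?_
    rw [← RingHom.mem_ker, Ideal.ker_algebraMap_residueField]
    exact hd
  by_contra hu
  obtain ⟨Q, hQ⟩ := (Ideal.span {Mx.det}).nonempty_minimalPrimes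
    (by simpa [Ideal.span_singleton_eq_top] using hu)
  haveI := hQ.isPrime
  set d := Mx.det with hd
  have hdQ : d ∈ Q := hQ.1.2 (Ideal.mem_span_singleton_self d)
  have hreg : IsSMulRegular A d := Alg6.isSMulRegular_iff_forall_ass.2 fun P' hP' hdP' => by
    haveI := hP'.isPrime
    exact hnot P' (hass P' hP') hdP'
  refine hnot Q ?_ hdQ
  set L := Localization.AtPrime Q
  by_contra hd2
  have h2 : (2 : ℕ∞) ≤ LocCoh.depth L L := by
    have := not_le.1 hd2
    exact Order.add_one_le_of_lt this
  have hdm : algebraMap A L d ∈ maximalIdeal L :=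
    (IsLocalization.AtPrime.to_map_mem_maximal_iff L Q d).2 hdQ
  have hregL : IsSMulRegular L (algebraMap A L d) := by
    haveI : Module.Flat A L := IsLocalization.flat L Q.primeCompl
    exact (hreg.of_flat (S := L))
  refine (Alg6.two_le_depth_iff hdm hregL).1 h2 ?_
  have hmin : maximalIdeal L ∈ (Ideal.span {algebraMap A L d}).minimalPrimes := by
    rw [← Set.image_singleton, ← Ideal.map_span, IsLocalization.minimalPrimes_map Q.primeCompl L,
      Set.mem_preimage, Localization.AtPrime.under_maximalIdeal]
    exact hQ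
  set x := algebraMap A L d
  haveI : Nontrivial (QuotSMulTop x L) := Submodule.Quotient.nontrivial_iff.2 fun h => by
    refine Alg6.maximal_smul_top_ne_top (R := L) (M := L) (eq_top_iff.2 fun z _ => ?_)
    obtain ⟨w, -, rfl⟩ := (Submodule.mem_smul_pointwise_iff_exists _ _ _).1
      (show z ∈ x • (⊤ : Submodule L L) by rw [h]; trivial)
    exact Submodule.smul_mem_smul hdm Submodule.mem_top
  obtain ⟨P', hP'⟩ : (associatedPrimes L (QuotSMulTop x L)).Nonempty := associatedPrimes.nonempty L _
  haveI := hP'.isPrime
  have hxP : x ∈ P' := by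
    refine IsAssociatedPrime.annihilator_le hP' ?_
    rw [Submodule.mem_annihilator]
    intro z _
    obtain ⟨z, rfl⟩ := Submodule.Quotient.mk_surjective _ z
    rw [← Submodule.Quotient.mk_smul, Submodule.Quotient.mk_eq_zero]
    exact Submodule.smul_mem_pointwise_smul z x ⊤ Submodule.mem_top
  have hle : maximalIdeal L ≤ P' :=
    hmin.2 ⟨inferInstance, (Ideal.span_singleton_le_iff_mem _).2 hxP⟩ (le_maximalIdeal hP'.isPrime.ne_top)
  rwa [le_antisymm hle (le_maximalIdeal hP'.isPrime.ne_top)]

/-- Bijectivity may be checked at the primes of depth at most one. -/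
theorem bijective_of_depth [IsNoetherianRing A] [Module.Finite A M] [Module.Finite A N]
    [Module.Flat A M] [Module.Flat A N] (φ : M →ₗ[A] N)
    (H : ∀ (P : Ideal A) [P.IsPrime], LocCoh.depth (Localization.AtPrime P) (Localization.AtPrime P) ≤ 1 →
      ∀ (K : Type u) [Field K] [Algebra A K], RingHom.ker (algebraMap A K) = P →
        Function.Bijective (φ.baseChange K)) : Function.Bijective φ := by
  refine bijective_of_isLocalized_maximal
    (fun (P : Ideal A) [P.IsMaximal] => Localization.AtPrime P ⊗[A] M)
    (fun P _ => TensorProduct.mk A (Localization.AtPrime P) M 1)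
    (fun (P : Ideal A) [P.IsMaximal] => Localization.AtPrime P ⊗[A] N)
    (fun P _ => TensorProduct.mk A (Localization.AtPrime P) N 1) φ fun P hP => ?_
  set L := Localization.AtPrime P
  haveI : Module.Free L (L ⊗[A] M) := Module.free_of_flat_of_isLocalRing
  haveI : Module.Free L (L ⊗[A] N) := Module.free_of_flat_of_isLocalRing
  have key : Function.Bijective (φ.baseChange L) := by
    refine bijective_local (φ.baseChange L) fun P' _ hd => ?_
    let K := P'.ResidueField
    have hK : RingHom.ker (algebraMap A K) = P'.comap (algebraMap A L) := by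
      rw [IsScalarTower.algebraMap_eq A L K, ← RingHom.comap_ker, Ideal.ker_algebraMap_residueField]
    have hd' : LocCoh.depth (Localization.AtPrime (P'.comap (algebraMap A L)))
        (Localization.AtPrime (P'.comap (algebraMap A L))) ≤ 1 := by
      rw [depth_ringEquiv (IsLocalization.localizationLocalizationAtPrimeIsoLocalization P.primeCompl P').toRingEquiv]
      exact hd
    have hbij := H _ hd' K hK
    let eM := AlgebraTensorModule.cancelBaseChange A L K K M
    let eN := AlgebraTensorModule.cancelBaseChange A L K K N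
    have comm : ∀ z, eN ((φ.baseChange L).baseChange K z) = φ.baseChange K (eM z) := by
      intro z
      induction z with
      | zero => simp
      | add a b ha hb => simp [ha, hb]
      | tmul k y =>
        induction y with
        | zero => simp
        | add a b ha hb => simp only [tmul_add, map_add, ha, hb]
        | tmul l m => simp [eM, eN]
    have : ((φ.baseChange L).baseChange K : K ⊗[L] (L ⊗[A] M) → K ⊗[L] (L ⊗[A] N)) =
        eN.symm ∘ φ.baseChange K ∘ eM := by
      funext z
      simp only [Function.comp_apply, ← comm, LinearEquiv.symm_apply_apply]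
    rw [this]
    exact eN.symm.bijective.comp (hbij.comp eM.bijective)
  have : IsLocalizedModule.map P.primeCompl (TensorProduct.mk A L M 1) (TensorProduct.mk A L N 1) φ =
      (φ.baseChange L).restrictScalars A := by
    refine IsLocalizedModule.linearMap_ext P.primeCompl (TensorProduct.mk A L M 1) (TensorProduct.mk A L N 1) ?_
    rw [IsLocalizedModule.map_comp]
    ext x
    simp
  rw [this]
  exact key

end Depth

section Alg

variable {R B A : Type u} [CommRing R] [CommRing B] [CommRing A] [Algebra R B] [Algebra R A] [Algebra B A]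
  [IsScalarTower R B A]

theorem formallyEtale_of_bijective [Algebra.FormallySmooth R A]
    (h : Function.Bijective (KaehlerDifferential.mapBaseChange R B A)) : Algebra.FormallyEtale B A := by
  refine ⟨⟨fun a b => ?_⟩, ⟨fun a b => ?_⟩⟩
  · obtain ⟨a, rfl⟩ := KaehlerDifferential.map_surjective R B A a
    obtain ⟨b, rfl⟩ := KaehlerDifferential.map_surjective R B A b
    rw [← sub_eq_zero, ← map_sub]
    exact (KaehlerDifferential.exact_mapBaseChange_map R B A _).2 (h.2 _)
  · have hz : ∀ x, x = (0 : Algebra.H1Cotangent B A) := fun x => by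
      have hδ : Algebra.H1Cotangent.δ R B A x = 0 := h.1 (((Algebra.H1Cotangent.exact_δ_mapBaseChange R B A _).2
        ⟨x, rfl⟩).trans (map_zero _).symm)
      obtain ⟨y, rfl⟩ := (Algebra.H1Cotangent.exact_map_δ R B A x).1 hδ
      rw [Subsingleton.elim y 0, map_zero]
    rw [hz a, hz b]

theorem etale_of_depth [IsNoetherianRing A] [Algebra.Smooth R B] [Algebra.Smooth R A]
    [Algebra.FinitePresentation B A]
    (H : ∀ (P : Ideal A) [P.IsPrime], LocCoh.depth (Localization.AtPrime P) (Localization.AtPrime P) ≤ 1 →
      ∃ g : A, g ∉ P ∧ Algebra.FormallyEtale B (Localization.Away g)) : Algebra.Etale B A := by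
  haveI : Algebra.FormallyEtale B A := formallyEtale_of_bijective (R := R) (bijective_of_depth _
    fun P _ hd K _ _ hK => ?_)
  · exact ⟨inferInstance, inferInstance⟩
  obtain ⟨g, hg, hE⟩ := H P hd
  let Ag := Localization.Away g
  have hgK : IsUnit (algebraMap A K g) := isUnit_iff_ne_zero.2 fun h0 => hg (hK ▸ h0)
  letI : Algebra Ag K := (IsLocalization.Away.lift g hgK : Ag →+* K).toAlgebra
  haveI : IsScalarTower A Ag K :=
    IsScalarTower.of_algebraMap_eq' (IsLocalization.Away.lift_comp g hgK).symm
  let φ := KaehlerDifferential.mapBaseChange R B A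
  let eL := AlgebraTensorModule.cancelBaseChange B A Ag Ag Ω[B⁄R]
  let eR := KaehlerDifferential.mapBaseChange R A Ag
  have hR : Function.Bijective eR := by
    haveI := Algebra.FormallyEtale.of_isLocalization (Rₘ := Ag) (Submonoid.powers g)
    exact (KaehlerDifferential.tensorKaehlerEquivOfFormallyEtale R A Ag).bijective
  have hB : Function.Bijective (KaehlerDifferential.mapBaseChange R B Ag) :=
    (KaehlerDifferential.tensorKaehlerEquivOfFormallyEtale R B Ag).bijective
  have comm : ∀ z, eR (φ.baseChange Ag z) = KaehlerDifferential.mapBaseChange R B Ag (eL z) := by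
    intro z
    induction z with
    | zero => simp
    | add a b ha hb => simp [ha, hb]
    | tmul x y =>
      induction y with
      | zero => simp
      | add a b ha hb => simp only [tmul_add, map_add, ha, hb]
      | tmul a w =>
        have hmap : ((KaehlerDifferential.map R R A Ag).restrictScalars B) ∘ₗ KaehlerDifferential.map R R B A =
            KaehlerDifferential.map R R B Ag := by
          refine Derivation.liftKaehlerDifferential_unique _ _ ?_
          ext b
          simp [← IsScalarTower.algebraMap_apply]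
        have hw := LinearMap.congr_fun hmap w
        simp only [LinearMap.comp_apply, LinearMap.restrictScalars_apply] at hw
        rw [LinearMap.baseChange_tmul, AlgebraTensorModule.cancelBaseChange_tmul]
        show KaehlerDifferential.mapBaseChange R A Ag (x ⊗ₜ KaehlerDifferential.mapBaseChange R B A (a ⊗ₜ w)) =
          KaehlerDifferential.mapBaseChange R B Ag ((a • x) ⊗ₜ w)
        rw [KaehlerDifferential.mapBaseChange_tmul, KaehlerDifferential.mapBaseChange_tmul,
          KaehlerDifferential.mapBaseChange_tmul, (KaehlerDifferential.map R R A Ag).map_smul, hw, smul_assoc,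
          smul_comm]
  have key : Function.Bijective (φ.baseChange Ag) := by
    refine (Function.Bijective.of_comp_iff' hR _).1 ?_
    rw [show eR ∘ φ.baseChange Ag = KaehlerDifferential.mapBaseChange R B Ag ∘ eL from funext comm]
    exact hB.comp eL.bijective
  let eq' := LinearEquiv.baseChange Ag K (Ag ⊗[A] (A ⊗[B] Ω[B⁄R])) (Ag ⊗[A] Ω[A⁄R]) (LinearEquiv.ofBijective _ key)
  let eM := AlgebraTensorModule.cancelBaseChange A Ag K K (A ⊗[B] Ω[B⁄R])
  let eN := AlgebraTensorModule.cancelBaseChange A Ag K K Ω[A⁄R]
  have comm2 : ∀ z, eN (eq' z) = φ.baseChange K (eM z) := by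
    intro z
    induction z with
    | zero => simp
    | add a b ha hb => simp [ha, hb]
    | tmul k y =>
      induction y with
      | zero => simp
      | add a b ha hb => simp only [tmul_add, map_add, ha, hb]
      | tmul l m => simp [eM, eN, eq']
  have : (φ.baseChange K : K ⊗[A] (A ⊗[B] Ω[B⁄R]) → K ⊗[A] Ω[A⁄R]) = eN ∘ eq' ∘ eM.symm := by
    funext z
    simp only [Function.comp_apply, comm2, LinearEquiv.apply_symm_apply]
  rw [this]
  exact eN.bijective.comp (eq'.bijective.comp eM.symm.bijective)

end Alg

section SchemeForm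

theorem etale_of_depth_scheme {S G H : Scheme.{u}} [IsLocallyNoetherian S] (f : G ⟶ H) (pG : G ⟶ S) (pH : H ⟶ S)
    [Smooth pG] [Smooth pH] (w : f ≫ pH = pG)
    (hdepth : ∀ x : G, LocCoh.depth (G.presheaf.stalk x) (G.presheaf.stalk x) ≤ 1 →
      ∃ O : G.Opens, x ∈ O ∧ Etale (O.ι ≫ f)) : Etale f := by
  haveI : IsLocallyNoetherian G := LocallyOfFiniteType.isLocallyNoetherian pG
  haveI : IsLocallyNoetherian H := LocallyOfFiniteType.isLocallyNoetherian pH
  haveI : LocallyOfFiniteType (f ≫ pH) := by rw [w]; infer_instance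
  haveI : LocallyOfFiniteType f := locallyOfFiniteType_of_comp f pH
  rw [HasRingHomProperty.iff_exists_appLE (P := @Etale) (RingHom.Etale.stableUnderComposition.stableUnderCompositionWithLocalizationAway
    (fun R S _ _ _ r _ => RingHom.etale_algebraMap.2 (Algebra.Etale.of_isLocalizationAway r))).1]
  intro x
  obtain ⟨V, hV, hxV, -⟩ := exists_isAffineOpen_mem_and_subset (x := pH.base (f.base x)) (U := ⊤) trivial
  obtain ⟨W, hW, hxW, hWV⟩ := exists_isAffineOpen_mem_and_subset (x := f.base x) (U := pH ⁻¹ᵁ V) hxV
  obtain ⟨U, hU, hxU, hUW⟩ := exists_isAffineOpen_mem_and_subset (x := x) (U := f ⁻¹ᵁ W) hxW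
  refine ⟨⟨W, hW⟩, ⟨U, hU⟩, hxU, hUW, ?_⟩
  have eGV : U ≤ pG ⁻¹ᵁ V := by rw [← w]; exact hUW.trans (f.preimage_mono hWV)
  let β := (pH.appLE V W hWV).hom
  let α := (f.appLE W U hUW).hom
  have hβ : β.Smooth := pH.smooth_appLE hV hW hWV
  have hαβ : (α.comp β).Smooth := by
    have h := pG.smooth_appLE hV hU eGV
    subst w
    rw [← Scheme.Hom.appLE_comp_appLE f pH V W U hWV hUW] at h
    exact h
  have hαp : α.FinitePresentation := by
    haveI : LocallyOfFinitePresentation f := inferInstance
    exact f.finitePresentation_appLE hW hU hUW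
  letI := β.toAlgebra
  letI := α.toAlgebra
  letI := (α.comp β).toAlgebra
  haveI : IsScalarTower Γ(S, V) Γ(H, W) Γ(G, U) := IsScalarTower.of_algebraMap_eq' rfl
  haveI : Algebra.Smooth Γ(S, V) Γ(H, W) := hβ
  haveI : Algebra.Smooth Γ(S, V) Γ(G, U) := hαβ
  haveI : Algebra.FinitePresentation Γ(H, W) Γ(G, U) := hαp
  haveI : IsNoetherianRing Γ(G, U) := IsLocallyNoetherian.component_noetherian ⟨U, hU⟩
  refine etale_of_depth (R := Γ(S, V)) fun P hPp hd => ?_
  let p : PrimeSpectrum Γ(G, U) := ⟨P, hPp⟩
  have hyU : hU.fromSpec p ∈ U := by rw [← SetLike.mem_coe, ← hU.range_fromSpec]; exact ⟨p, rfl⟩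
  have hp : hU.primeIdealOf ⟨hU.fromSpec p, hyU⟩ = p :=
    hU.fromSpec.isOpenEmbedding.injective (hU.fromSpec_primeIdealOf ⟨hU.fromSpec p, hyU⟩)
  set y := hU.fromSpec p
  have hdy : LocCoh.depth (G.presheaf.stalk y) (G.presheaf.stalk y) ≤ 1 := by
    letI := TopCat.Presheaf.algebra_section_stalk G.presheaf (⟨y, hyU⟩ : U)
    haveI : IsLocalization.AtPrime (G.presheaf.stalk y) P := by
      have := hU.isLocalization_stalk ⟨y, hyU⟩
      rwa [hp] at this
    rw [← depth_ringEquiv (IsLocalization.algEquiv P.primeCompl (Localization.AtPrime P) (G.presheaf.stalk y)).toRingEquiv]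
    exact hd
  obtain ⟨O, hyO, hO⟩ := hdepth y hdy
  obtain ⟨g, hgO, hyg⟩ := hU.exists_basicOpen_le ⟨y, hyO⟩ hyU
  have hgP : g ∉ P := by
    intro hgP
    have h1 : p ∈ hU.fromSpec ⁻¹ᵁ G.basicOpen g := hyg
    rw [hU.fromSpec_preimage_basicOpen] at h1
    exact h1 hgP
  refine ⟨g, hgP, ?_⟩
  have hDU : G.basicOpen g ≤ U := G.basicOpen_le g
  have hDA : IsAffineOpen (G.basicOpen g) := hU.basicOpen g
  have heq : O.ι ''ᵁ (O.ι ⁻¹ᵁ G.basicOpen g) = G.basicOpen g := by
    rw [Scheme.Hom.image_preimage_eq_opensRange_inf, Scheme.Opens.opensRange_ι, inf_eq_right]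
    exact hgO
  have hDA' : IsAffineOpen (O.ι ⁻¹ᵁ G.basicOpen g) := hDA.preimage_of_isOpenImmersion O.ι (by
    rw [Scheme.Opens.opensRange_ι]; exact hgO)
  have hle : O.ι ⁻¹ᵁ G.basicOpen g ≤ (O.ι ≫ f) ⁻¹ᵁ W := O.ι.preimage_mono (hDU.trans hUW)
  have hE := HasRingHomProperty.appLE @Etale (O.ι ≫ f) hO ⟨W, hW⟩ ⟨_, hDA'⟩ hle
  rw [← Scheme.Hom.appLE_comp_appLE O.ι f W (G.basicOpen g) _ (hDU.trans hUW) le_rfl, Scheme.Opens.ι_appLE] at hE
  have hiso : IsIso (G.presheaf.map (homOfLE (heq.le)).op) := by
    rw [Subsingleton.elim (homOfLE heq.le) (eqToHom heq)]; infer_instance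
  have hE' : (f.appLE W (G.basicOpen g) (hDU.trans hUW)).hom.Etale := by
    exact (RingHom.Etale.respectsIso.cancel_right_isIso _ (G.presheaf.map (homOfLE heq.le).op)).1 hE
  let res := (G.presheaf.map (homOfLE hDU).op).hom
  letI := res.toAlgebra
  haveI : IsLocalization.Away g Γ(G, G.basicOpen g) := hU.isLocalization_basicOpen g
  letI : Algebra Γ(H, W) Γ(G, G.basicOpen g) := (res.comp α).toAlgebra
  haveI : IsScalarTower Γ(H, W) Γ(G, U) Γ(G, G.basicOpen g) := IsScalarTower.of_algebraMap_eq' rfl
  haveI : Algebra.Etale Γ(H, W) Γ(G, G.basicOpen g) := by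
    have e : res.comp α = (f.appLE W (G.basicOpen g) (hDU.trans hUW)).hom := by
      rw [← f.appLE_map hUW (homOfLE hDU).op]; rfl
    change (res.comp α).Etale
    rw [e]; exact hE'
  exact Algebra.FormallyEtale.of_equiv
    ((IsLocalization.algEquiv (Submonoid.powers g) Γ(G, G.basicOpen g) (Localization.Away g)).restrictScalars Γ(H, W))

end SchemeForm

end Groth.Agent.NeronA.EtaleDepth
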