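import Mathlib

/-!
# Torsion of order prime to the residue characteristic on cubics with cuspidal reduction
-/

set_option autoImplicit false
set_option linter.style.haveILetI false

universe u

open IsLocalRing WeierstrassCurve

namespace Groth.Agent.NeronA.AddTorsion

variable {R : Type u} [CommRing R] [IsDomain R] [IsLocalRing R] {K : Type u} [Field K] [Algebra R K]

local notation "φ" => algebraMap R K

/-- All coefficients are in the maximal ideal. -/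
structure Cusp (E : WeierstrassCurve R) : Prop where
  h1 : E.a₁ ∈ maximalIdeal R
  h2 : E.a₂ ∈ maximalIdeal R
  h3 : E.a₃ ∈ maximalIdeal R
  h4 : E.a₄ ∈ maximalIdeal R
  h6 : E.a₆ ∈ maximalIdeal R

/-- Coordinates `t = x/y`, `w = 1/y` are integral and lie in the `k`th power of the maximal ideal. -/
structure Small (k : ℕ) (x y : K) (t w : R) : Prop where
  ht : t ∈ maximalIdeal R ^ k
  hw : w ∈ maximalIdeal R ^ k
  hx : φ t * y = x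
  hy : φ w * y = 1

theorem Small.y_ne {k : ℕ} {x y : K} {t w : R} (h : Small k x y t w) : y ≠ 0 := fun hy => by
  simpa [hy] using h.hy

theorem mul_pow_succ_mem {a z : R} {k : ℕ} (ha : a ∈ maximalIdeal R) (hz : z ∈ maximalIdeal R ^ k) :
    a * z ∈ maximalIdeal R ^ (k + 1) := by
  rw [pow_succ']; exact Ideal.mul_mem_mul ha hz

theorem isUnit_one_add {z : R} (hz : z ∈ maximalIdeal R) : IsUnit (1 + z) := by
  by_contra h
  have := sub_mem (show (1 : R) + z ∈ maximalIdeal R from h) hz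
  simp at this

variable {E : WeierstrassCurve R}

theorem eq_tw (hφ : Function.Injective (algebraMap R K)) {k : ℕ} {x y : K} {t w : R}
    (he : (E.map φ).toAffine.Equation x y) (h : Small k x y t w) :
    w = t ^ 3 - E.a₁ * t * w - E.a₃ * w ^ 2 + E.a₂ * t ^ 2 * w + E.a₄ * t * w ^ 2 + E.a₆ * w ^ 3 := by
  apply hφ
  rw [Affine.equation_iff] at he
  simp only [map_a₁, map_a₂, map_a₃, map_a₄, map_a₆] at he
  simp only [map_add, map_sub, map_mul, map_pow]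
  have hy := h.hy
  rw [← h.hx] at he
  linear_combination (φ w) ^ 3 * he + (-(φ w * ((φ w) * y + 1)) - φ E.a₁ * φ t * φ w * ((φ w) * y + 1) - φ E.a₃ * (φ w) ^ 2
    + (φ t) ^ 3 * ((φ w) ^ 2 * y ^ 2 + φ w * y + 1) + φ E.a₂ * (φ t) ^ 2 * φ w * ((φ w) * y + 1) + φ E.a₄ * φ t * (φ w) ^ 2) * hy

theorem w_mem (hφ : Function.Injective (algebraMap R K)) (hE : Cusp E) {k : ℕ} {x y : K} {t w : R}
    (he : (E.map φ).toAffine.Equation x y) (h : Small 0 x y t w) (ht : t ∈ maximalIdeal R ^ k) :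
    Small k x y t w := by
  refine ⟨ht, ?_, h.hx, h.hy⟩
  have e := eq_tw hφ he h
  set z := E.a₁ * t + E.a₃ * w - E.a₂ * t ^ 2 - E.a₄ * t * w - E.a₆ * w ^ 2 with hz
  have hzm : z ∈ maximalIdeal R := by
    refine sub_mem (sub_mem (sub_mem (add_mem ?_ ?_) ?_) ?_) ?_
    · exact Ideal.mul_mem_right _ _ hE.h1
    · exact Ideal.mul_mem_right _ _ hE.h3
    · exact Ideal.mul_mem_right _ _ hE.h2
    · exact Ideal.mul_mem_right _ _ (Ideal.mul_mem_right _ _ hE.h4)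
    · exact Ideal.mul_mem_right _ _ hE.h6
  refine (Ideal.unit_mul_mem_iff_mem _ (isUnit_one_add hzm)).1 ?_
  rw [show (1 + z) * w = t ^ 2 * t by rw [hz]; linear_combination e]
  exact Ideal.mul_mem_left _ _ ht

theorem negY_small (hE : Cusp E) {k : ℕ} {x y : K} {t w : R} (h : Small k x y t w) :
    ∃ t' w', Small k x ((E.map φ).toAffine.negY x y) t' w' ∧ t' + t ∈ maximalIdeal R ^ (k + 1) := by
  have hzm : E.a₁ * t + E.a₃ * w ∈ maximalIdeal R :=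
    add_mem (Ideal.mul_mem_right _ _ hE.h1) (Ideal.mul_mem_right _ _ hE.h3)
  obtain ⟨u, hu⟩ := isUnit_one_add hzm
  have hy' : (E.map φ).toAffine.negY x y = -(y * φ u) := by
    rw [hu, Affine.negY]
    simp only [map_a₁, map_a₃, map_add, map_mul, map_one]
    linear_combination φ E.a₁ * h.hx + φ E.a₃ * h.hy
  have hinv : φ ((u⁻¹ : Rˣ) : R) * φ (u : R) = 1 := by rw [← map_mul, Units.inv_mul, map_one]
  refine ⟨-(t * ((u⁻¹ : Rˣ) : R)), -(w * ((u⁻¹ : Rˣ) : R)), ⟨?_, ?_, ?_, ?_⟩, ?_⟩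
  · exact neg_mem (Ideal.mul_mem_right _ _ h.ht)
  · exact neg_mem (Ideal.mul_mem_right _ _ h.hw)
  · rw [hy', map_neg, map_mul]; linear_combination h.hx + φ t * y * hinv
  · rw [hy', map_neg, map_mul]; linear_combination h.hy + φ w * y * hinv
  · have : -(t * ((u⁻¹ : Rˣ) : R)) + t = ((u⁻¹ : Rˣ) : R) * (E.a₁ * t + E.a₃ * w) * t := by
      have : ((u⁻¹ : Rˣ) : R) * (1 + (E.a₁ * t + E.a₃ * w)) = 1 := by rw [← hu, Units.inv_mul]
      linear_combination (-t) * this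
    rw [this]
    exact mul_pow_succ_mem (Ideal.mul_mem_left _ _ hzm) h.ht

/-- The third point of intersection of a line with the cubic. -/
theorem third (hE : Cusp E) {k : ℕ} {x₁ y₁ x₂ y₂ x₃ ℓ c : K} {t₁ w₁ t₂ w₂ lam : R}
    (h₁ : Small k x₁ y₁ t₁ w₁) (h₂ : Small k x₂ y₂ t₂ w₂) (hlam : lam ∈ maximalIdeal R ^ k)
    (hc₁ : y₁ = ℓ * x₁ + c) (hc₂ : y₂ = ℓ * x₂ + c)
    (e₁ : x₁ + x₂ + x₃ = ℓ ^ 2 + φ E.a₁ * ℓ - φ E.a₂)
    (e₂ : x₁ * x₂ + x₁ * x₃ + x₂ * x₃ = φ E.a₄ - 2 * ℓ * c - φ E.a₁ * c - φ E.a₃ * ℓ)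
    (e₃ : x₁ * x₂ * x₃ = c ^ 2 + φ E.a₃ * c - φ E.a₆)
    (hν : φ (w₁ - lam * t₁) * c = 1) (hl : φ lam = -ℓ * φ (w₁ - lam * t₁)) :
    ∃ t₃ w₃, Small k x₃ (ℓ * x₃ + c) t₃ w₃ ∧ t₁ + t₂ + t₃ ∈ maximalIdeal R ^ (k + 1) := by
  set nu := w₁ - lam * t₁
  have hnu : nu ∈ maximalIdeal R ^ k := sub_mem h₁.hw (Ideal.mul_mem_left _ _ h₁.ht)
  set A := 1 + (E.a₂ * lam + E.a₄ * lam ^ 2 + E.a₆ * lam ^ 3) with hA
  set B := E.a₂ * nu + 2 * E.a₄ * lam * nu + 3 * E.a₆ * lam ^ 2 * nu - E.a₁ * lam - E.a₃ * lam ^ 2 with hB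
  have hBm : B ∈ maximalIdeal R ^ (k + 1) := by
    refine sub_mem (sub_mem (add_mem (add_mem ?_ ?_) ?_) ?_) ?_
    · exact mul_pow_succ_mem hE.h2 hnu
    · exact mul_pow_succ_mem (Ideal.mul_mem_right _ _ (Ideal.mul_mem_left _ _ hE.h4)) hnu
    · exact mul_pow_succ_mem (Ideal.mul_mem_right _ _ (Ideal.mul_mem_left _ _ hE.h6)) hnu
    · exact mul_pow_succ_mem hE.h1 hlam
    · rw [pow_two, ← mul_assoc]
      exact mul_pow_succ_mem (Ideal.mul_mem_right _ _ hE.h3) hlam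
  obtain ⟨uA, huA⟩ := isUnit_one_add (show E.a₂ * lam + E.a₄ * lam ^ 2 + E.a₆ * lam ^ 3 ∈ maximalIdeal R from
    add_mem (add_mem (Ideal.mul_mem_right _ _ hE.h2) (Ideal.mul_mem_right _ _ hE.h4))
      (Ideal.mul_mem_right _ _ hE.h6))
  rw [← hA] at huA
  set n := φ nu
  set y₃ := ℓ * x₃ + c
  have keyA : φ A = n ^ 3 * (y₁ * y₂ * y₃) := by
    simp only [hA, map_add, map_mul, map_pow, map_one, hl, hc₁, hc₂, y₃]
    linear_combination -(ℓ * n) * (n * c) ^ 0 * (n ^ 2 * c ^ 2) * e₁ - (ℓ ^ 2 * n ^ 2) * (n * c) * e₂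
      - (ℓ ^ 3 * n ^ 3) * e₃ + (-(1 + n * c + n ^ 2 * c ^ 2) + ℓ * n * φ E.a₂ * (1 + n * c)
      - ℓ ^ 2 * n ^ 2 * φ E.a₄) * hν
  have keyB : φ B = -(n ^ 3) * (x₁ * y₂ * y₃ + y₁ * x₂ * y₃ + y₁ * y₂ * x₃) := by
    simp only [hB, map_add, map_sub, map_mul, map_pow, map_ofNat, hl, hc₁, hc₂, y₃]
    linear_combination (n ^ 3 * c ^ 2) * e₁ + (2 * ℓ * n ^ 3 * c) * e₂ + (3 * ℓ ^ 2 * n ^ 3) * e₃
      + (-(φ E.a₂ * n) * (n * c + 1) + φ E.a₁ * ℓ * n * (-(n * c) - 1) + φ E.a₁ * ℓ * n * 0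
        + φ E.a₃ * ℓ ^ 2 * n ^ 2 + 2 * φ E.a₄ * ℓ * n ^ 2) * hν
  have hA0 : φ A ≠ 0 := by
    intro h0
    have hh : φ A * φ ((uA⁻¹ : Rˣ) : R) = 1 := by rw [← map_mul, ← huA, Units.mul_inv, map_one]
    rw [h0, zero_mul] at hh
    exact zero_ne_one hh
  have hy3 : y₃ ≠ 0 := fun h0 => hA0 (by rw [keyA, h0]; ring)
  set t₃ := -(B * ((uA⁻¹ : Rˣ) : R)) - t₁ - t₂
  have ht₃ : t₁ + t₂ + t₃ ∈ maximalIdeal R ^ (k + 1) := by
    rw [show t₁ + t₂ + t₃ = -(B * ((uA⁻¹ : Rˣ) : R)) by ring]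
    exact neg_mem (Ideal.mul_mem_right _ _ hBm)
  have ht₃k : t₃ ∈ maximalIdeal R ^ k :=
    sub_mem (sub_mem (neg_mem (Ideal.mul_mem_right _ _ (Ideal.pow_le_pow_right (Nat.le_succ k) hBm))) h₁.ht) h₂.ht
  have hxt : φ t₃ * y₃ = x₃ := by
    have e : φ t₃ * φ A = -φ B - φ t₁ * φ A - φ t₂ * φ A := by
      have hh : φ A * φ ((uA⁻¹ : Rˣ) : R) = 1 := by rw [← map_mul, ← huA, Units.mul_inv, map_one]
      simp only [t₃, map_sub, map_neg, map_mul]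
      linear_combination -φ B * hh
    rw [keyA, keyB] at e
    have hne : n ^ 3 * (y₁ * y₂) ≠ 0 := fun h0 => hA0 (by rw [keyA, ← mul_assoc, h0, zero_mul])
    refine mul_left_cancel₀ hne ?_
    linear_combination e + (-(n ^ 3 * y₂ * y₃)) * h₁.hx + (-(n ^ 3 * y₁ * y₃)) * h₂.hx
  refine ⟨t₃, lam * t₃ + nu, ⟨ht₃k, add_mem (Ideal.mul_mem_left _ _ ht₃k) hnu, hxt, ?_⟩, ht₃⟩
  rw [map_add, map_mul]
  linear_combination φ lam * hxt + x₃ * hl + hν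


theorem mu_mem (hE : Cusp E) (p q r : R) :
    -(E.a₁ * p) + E.a₂ * (p * p) - E.a₃ * q + E.a₄ * (p * q) + E.a₆ * r ∈ maximalIdeal R :=
  add_mem (add_mem (sub_mem (add_mem (neg_mem (Ideal.mul_mem_right _ _ hE.h1))
    (Ideal.mul_mem_right _ _ hE.h2)) (Ideal.mul_mem_right _ _ hE.h3)) (Ideal.mul_mem_right _ _ hE.h4))
    (Ideal.mul_mem_right _ _ hE.h6)

set_option maxHeartbeats 1000000 in
theorem tangent (hE : Cusp E) {k : ℕ} {x₁ y₁ ℓ c x₃ : K} {t₁ w₁ : R} (hs₁ : Small k x₁ y₁ t₁ w₁)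
    (q₁ : w₁ = t₁ ^ 3 - E.a₁ * t₁ * w₁ - E.a₃ * w₁ ^ 2 + E.a₂ * t₁ ^ 2 * w₁ + E.a₄ * t₁ * w₁ ^ 2 + E.a₆ * w₁ ^ 3)
    (he₁ : y₁ ^ 2 + φ E.a₁ * x₁ * y₁ + φ E.a₃ * y₁ = x₁ ^ 3 + φ E.a₂ * x₁ ^ 2 + φ E.a₄ * x₁ + φ E.a₆)
    (hD : 2 * y₁ + φ E.a₁ * x₁ + φ E.a₃ ≠ 0)
    (hℓ : ℓ * (2 * y₁ + φ E.a₁ * x₁ + φ E.a₃) = 3 * x₁ ^ 2 + 2 * φ E.a₂ * x₁ + φ E.a₄ - φ E.a₁ * y₁)
    (e1 : x₃ = ℓ ^ 2 + φ E.a₁ * ℓ - φ E.a₂ - x₁ - x₁) (hc : c = y₁ - ℓ * x₁) :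
    ∃ t₃ w₃, Small k x₃ (ℓ * x₃ + c) t₃ w₃ ∧ t₁ + t₁ + t₃ ∈ maximalIdeal R ^ (k + 1) := by
  have hμm := mu_mem hE
  obtain ⟨v, hv⟩ := isUnit_one_add (neg_mem (hμm t₁ (2 * w₁) (3 * w₁ ^ 2)))
  set N := 3 * t₁ ^ 2 - E.a₁ * w₁ + 2 * E.a₂ * t₁ * w₁ + E.a₄ * w₁ ^ 2 with hN
  obtain ⟨lam, hlam'⟩ : ∃ l, l = N * ((v⁻¹ : Rˣ) : R) := ⟨_, rfl⟩
  have hlam : lam ∈ maximalIdeal R ^ k := by
    rw [hlam']
    refine Ideal.mul_mem_right _ _ (add_mem (add_mem (sub_mem ?_ ?_) ?_) ?_)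
    · rw [pow_two, ← mul_assoc]; exact Ideal.mul_mem_left _ _ hs₁.ht
    · exact Ideal.mul_mem_left _ _ hs₁.hw
    · exact Ideal.mul_mem_left _ _ hs₁.hw
    · rw [pow_two, ← mul_assoc]; exact Ideal.mul_mem_left _ _ hs₁.hw
  have hlv : lam * (v : R) = N := by rw [hlam', mul_assoc, Units.inv_mul, mul_one]
  have key : lam * (w₁ * (2 + E.a₁ * t₁ + E.a₃ * w₁) - t₁ * N) = -(w₁ * N) := by
    have : w₁ * (2 + E.a₁ * t₁ + E.a₃ * w₁) - t₁ * N = -(w₁ * (v : R)) := by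
      rw [hv, hN]; linear_combination (3 : R) * q₁
    rw [this]; linear_combination -w₁ * hlv
  have keyK := congrArg φ key
  simp only [hN, map_add, map_sub, map_neg, map_mul, map_pow, map_ofNat] at keyK
  have hlD : φ lam * (2 * y₁ + φ E.a₁ * x₁ + φ E.a₃) =
      -(φ (w₁ - lam * t₁)) * (3 * x₁ ^ 2 + 2 * φ E.a₂ * x₁ + φ E.a₄ - φ E.a₁ * y₁) := by
    rw [map_sub, map_mul]
    have hy0 := hs₁.y_ne
    have hX := hs₁.hx
    have hY := hs₁.hy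
    rw [← hX]
    linear_combination y₁ ^ 2 * keyK
      - (φ lam * (2 * y₁ + φ E.a₁ * φ t₁ * y₁ + φ E.a₃ * (1 + φ w₁ * y₁))
        + (φ w₁ - φ lam * φ t₁) * (2 * φ E.a₂ * φ t₁ * y₁ + φ E.a₄ * (1 + φ w₁ * y₁) - φ E.a₁ * y₁)) * hY
  have hl : φ lam = -ℓ * φ (w₁ - lam * t₁) := mul_right_cancel₀ hD (by
    rw [hlD]; linear_combination φ (w₁ - lam * t₁) * hℓ)
  have hν : φ (w₁ - lam * t₁) * c = 1 := by
    rw [hc]
    have := hs₁.hy
    have := hs₁.hx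
    simp only [map_sub, map_mul] at hl ⊢
    linear_combination hs₁.hy - x₁ * hl - φ lam * hs₁.hx
  refine third hE hs₁ hs₁ hlam (by rw [hc]; ring) (by rw [hc]; ring) (by rw [e1]; ring) ?_ ?_ hν hl
  · rw [e1, hc]; linear_combination hℓ
  · rw [e1, hc]; linear_combination x₁ * hℓ - he₁

set_option maxHeartbeats 1000000 in
theorem secant (hE : Cusp E) {k : ℕ} {x₁ y₁ x₂ y₂ ℓ c x₃ : K} {t₁ w₁ t₂ w₂ : R}
    (hs₁ : Small k x₁ y₁ t₁ w₁) (hs₂ : Small k x₂ y₂ t₂ w₂)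
    (q₁ : w₁ = t₁ ^ 3 - E.a₁ * t₁ * w₁ - E.a₃ * w₁ ^ 2 + E.a₂ * t₁ ^ 2 * w₁ + E.a₄ * t₁ * w₁ ^ 2 + E.a₆ * w₁ ^ 3)
    (q₂ : w₂ = t₂ ^ 3 - E.a₁ * t₂ * w₂ - E.a₃ * w₂ ^ 2 + E.a₂ * t₂ ^ 2 * w₂ + E.a₄ * t₂ * w₂ ^ 2 + E.a₆ * w₂ ^ 3)
    (he₁ : y₁ ^ 2 + φ E.a₁ * x₁ * y₁ + φ E.a₃ * y₁ = x₁ ^ 3 + φ E.a₂ * x₁ ^ 2 + φ E.a₄ * x₁ + φ E.a₆)
    (he₂ : y₂ ^ 2 + φ E.a₁ * x₂ * y₂ + φ E.a₃ * y₂ = x₂ ^ 3 + φ E.a₂ * x₂ ^ 2 + φ E.a₄ * x₂ + φ E.a₆)
    (hx : x₁ ≠ x₂) (hℓ : ℓ * (x₁ - x₂) = y₁ - y₂)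
    (e1 : x₃ = ℓ ^ 2 + φ E.a₁ * ℓ - φ E.a₂ - x₁ - x₂) (hc : c = y₁ - ℓ * x₁) :
    ∃ t₃ w₃, Small k x₃ (ℓ * x₃ + c) t₃ w₃ ∧ t₁ + t₂ + t₃ ∈ maximalIdeal R ^ (k + 1) := by
  have hμm := mu_mem hE
  obtain ⟨v, hv⟩ := isUnit_one_add (neg_mem (hμm t₁ (w₁ + w₂) (w₁ ^ 2 + w₁ * w₂ + w₂ ^ 2)))
  set N := t₁ ^ 2 + t₁ * t₂ + t₂ ^ 2 - E.a₁ * w₂ + E.a₂ * w₂ * (t₁ + t₂) + E.a₄ * w₂ ^ 2 with hN
  have hwt : (w₁ - w₂) * (v : R) = (t₁ - t₂) * N := by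
    rw [hv, hN]; linear_combination q₁ - q₂
  have htne : t₁ ≠ t₂ := by
    intro h0
    rw [h0, sub_self, zero_mul] at hwt
    have hw : w₁ = w₂ := sub_eq_zero.1 (v.isUnit.mul_left_eq_zero.1 hwt)
    have hyy : y₁ = y₂ := mul_left_cancel₀ (left_ne_zero_of_mul_eq_one hs₁.hy)
      (hs₁.hy.trans (by rw [hw]; exact hs₂.hy.symm))
    exact hx (by rw [← hs₁.hx, ← hs₂.hx, h0, hyy])
  obtain ⟨lam, hlam'⟩ : ∃ l, l = N * ((v⁻¹ : Rˣ) : R) := ⟨_, rfl⟩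
  have hlam : lam ∈ maximalIdeal R ^ k := by
    rw [hlam']
    refine Ideal.mul_mem_right _ _ (add_mem (add_mem (sub_mem (add_mem (add_mem ?_ ?_) ?_) ?_) ?_) ?_)
    · rw [pow_two]; exact Ideal.mul_mem_left _ _ hs₁.ht
    · exact Ideal.mul_mem_left _ _ hs₂.ht
    · rw [pow_two]; exact Ideal.mul_mem_left _ _ hs₂.ht
    · exact Ideal.mul_mem_left _ _ hs₂.hw
    · exact Ideal.mul_mem_right _ _ (Ideal.mul_mem_left _ _ hs₂.hw)
    · rw [pow_two, ← mul_assoc]; exact Ideal.mul_mem_left _ _ hs₂.hw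
  have hlt : w₁ - w₂ = lam * (t₁ - t₂) := by
    rw [hlam']
    calc w₁ - w₂ = (w₁ - w₂) * (v : R) * ((v⁻¹ : Rˣ) : R) := by rw [mul_assoc, Units.mul_inv, mul_one]
      _ = _ := by rw [hwt]; ring
  have p₁ : φ lam * x₁ + φ (w₁ - lam * t₁) * y₁ = 1 := by
    rw [map_sub, map_mul]; linear_combination hs₁.hy - φ lam * hs₁.hx
  have p₂ : φ lam * x₂ + φ (w₁ - lam * t₁) * y₂ = 1 := by
    rw [show w₁ - lam * t₁ = w₂ - lam * t₂ by linear_combination hlt, map_sub, map_mul]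
    linear_combination hs₂.hy - φ lam * hs₂.hx
  have hl : φ lam = -ℓ * φ (w₁ - lam * t₁) := mul_right_cancel₀ (sub_ne_zero.2 hx) (by
    linear_combination p₁ - p₂ + φ (w₁ - lam * t₁) * hℓ)
  have hν : φ (w₁ - lam * t₁) * c = 1 := by
    rw [hc]; linear_combination p₁ - x₁ * hl
  refine third hE hs₁ hs₂ hlam (by rw [hc]; ring) (by rw [hc]; linear_combination hℓ) (by rw [e1]; ring) ?_ ?_ hν hl
  · refine mul_left_cancel₀ (sub_ne_zero.2 hx) ?_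
    rw [e1, hc]
    have hy₂ : y₂ = y₁ - ℓ * (x₁ - x₂) := by linear_combination hℓ
    rw [hy₂] at he₂
    linear_combination he₁ - he₂
  · refine mul_left_cancel₀ (sub_ne_zero.2 hx) ?_
    rw [e1, hc]
    have hy₂ : y₂ = y₁ - ℓ * (x₁ - x₂) := by linear_combination hℓ
    rw [hy₂] at he₂
    linear_combination x₂ * he₁ - x₁ * he₂

variable [DecidableEq K]

/-- `P` is either the origin or small with parameter congruent to `a`. -/
def Near (E : WeierstrassCurve R) (k : ℕ) (P : (E.map (algebraMap R K)).toAffine.Point) (a : R) : Prop :=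
  (P = 0 ∧ a ∈ maximalIdeal R ^ (k + 1)) ∨
    ∃ x y h t w, P = Affine.Point.some x y h ∧ Small k x y t w ∧ t - a ∈ maximalIdeal R ^ (k + 1)

set_option maxHeartbeats 1000000 in
theorem near_add (hφ : Function.Injective (algebraMap R K)) (hE : Cusp E) {k : ℕ}
    {P Q : (E.map φ).toAffine.Point} {a b : R} (hP : Near E k P a) (hQ : Near E k Q b) :
    Near E k (P + Q) (a + b) := by
  rcases hP with ⟨rfl, ha⟩ | ⟨x₁, y₁, h₁, t₁, w₁, rfl, hs₁, ha⟩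
  · rw [zero_add]
    rcases hQ with ⟨rfl, hb⟩ | ⟨x, y, h, t, w, rfl, hs, hb⟩
    · exact Or.inl ⟨rfl, add_mem ha hb⟩
    · exact Or.inr ⟨x, y, h, t, w, rfl, hs, by rw [show t - (a + b) = (t - b) - a by ring]; exact sub_mem hb ha⟩
  rcases hQ with ⟨rfl, hb⟩ | ⟨x₂, y₂, h₂, t₂, w₂, rfl, hs₂, hb⟩
  · rw [add_zero]
    exact Or.inr ⟨x₁, y₁, h₁, t₁, w₁, rfl, hs₁, by rw [show t₁ - (a + b) = (t₁ - a) - b by ring]; exact sub_mem ha hb⟩
  have q₁ := eq_tw hφ h₁.1 hs₁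
  have q₂ := eq_tw hφ h₂.1 hs₂
  have he₁ := h₁.1
  have he₂ := h₂.1
  rw [Affine.equation_iff] at he₁ he₂
  simp only [map_a₁, map_a₂, map_a₃, map_a₄, map_a₆] at he₁ he₂
  by_cases hxy : x₁ = x₂ ∧ y₁ = (E.map φ).toAffine.negY x₂ y₂
  · refine Or.inl ⟨Affine.Point.add_of_Y_eq hxy.1 hxy.2, ?_⟩
    obtain ⟨t', w', hs', ht'⟩ := negY_small hE hs₂
    have : t₁ = t' := hφ (mul_right_cancel₀ hs₁.y_ne (by
      rw [hs₁.hx, hxy.1, hxy.2]; exact hs'.hx.symm))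
    have h3 : a + b = (t' + t₂) - (t₁ - a) - (t₂ - b) := by rw [this]; ring
    rw [h3]
    exact sub_mem (sub_mem ht' ha) hb
  set ℓ := (E.map φ).toAffine.slope x₁ x₂ y₁ y₂
  have hsum : Affine.Point.some _ _ h₁ + Affine.Point.some _ _ h₂ =
      Affine.Point.some _ _ (Affine.nonsingular_add h₁ h₂ hxy) := Affine.Point.add_some hxy
  suffices H : ∃ t₃ w₃, Small k ((E.map φ).toAffine.addX x₁ x₂ ℓ) ((E.map φ).toAffine.negAddY x₁ x₂ y₁ ℓ) t₃ w₃ ∧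
      t₁ + t₂ + t₃ ∈ maximalIdeal R ^ (k + 1) by
    obtain ⟨t₃, w₃, hs₃, ht₃⟩ := H
    obtain ⟨t', w', hs', ht'⟩ := negY_small hE hs₃
    refine Or.inr ⟨_, _, _, t', w', hsum, hs', ?_⟩
    rw [show t' - (a + b) = (t' + t₃) - (t₁ + t₂ + t₃) + (t₁ - a) + (t₂ - b) by ring]
    exact add_mem (add_mem (sub_mem ht' ht₃) ha) hb
  have e1 : (E.map φ).toAffine.addX x₁ x₂ ℓ = ℓ ^ 2 + φ E.a₁ * ℓ - φ E.a₂ - x₁ - x₂ := by
    simp [Affine.addX]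
  have hneg : (E.map φ).toAffine.negAddY x₁ x₂ y₁ ℓ = ℓ * (E.map φ).toAffine.addX x₁ x₂ ℓ + (y₁ - ℓ * x₁) := by
    simp [Affine.negAddY]; ring
  rw [hneg]
  set x₃ := (E.map φ).toAffine.addX x₁ x₂ ℓ
  set c := y₁ - ℓ * x₁ with hc
  by_cases hx : x₁ = x₂
  · have hy : y₁ ≠ (E.map φ).toAffine.negY x₂ y₂ := fun h => hxy ⟨hx, h⟩
    have hyy : y₁ = y₂ := Affine.Y_eq_of_Y_ne h₁.1 h₂.1 hx hy
    subst hx hyy
    have htt : t₂ = t₁ := hφ (mul_right_cancel₀ hs₁.y_ne (hs₂.hx.trans hs₁.hx.symm))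
    subst htt
    have hD : 2 * y₁ + φ E.a₁ * x₁ + φ E.a₃ ≠ 0 := fun h0 => hy (by
      simp only [Affine.negY, map_a₁, map_a₃]; linear_combination h0)
    refine tangent hE hs₁ q₁ he₁ hD ?_ e1 hc
    simp only [ℓ, Affine.slope_of_Y_ne rfl hy, Affine.negY, map_a₁, map_a₂, map_a₃, map_a₄]
    rw [show y₁ - (-y₁ - φ E.a₁ * x₁ - φ E.a₃) = 2 * y₁ + φ E.a₁ * x₁ + φ E.a₃ by ring, div_mul_cancel₀ _ hD]
  · refine secant hE hs₁ hs₂ q₁ q₂ he₁ he₂ hx ?_ e1 hc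
    simp only [ℓ, Affine.slope_of_X_ne hx]
    exact div_mul_cancel₀ _ (sub_ne_zero.2 hx)

theorem near_nsmul (hφ : Function.Injective (algebraMap R K)) (hE : Cusp E) {k : ℕ}
    {P : (E.map φ).toAffine.Point} {a : R} (hP : Near E k P a) (j : ℕ) : Near E k (j • P) ((j : R) * a) := by
  induction j with
  | zero => exact Or.inl ⟨zero_smul _ _, by simp⟩
  | succ j ih =>
    rw [succ_nsmul, Nat.cast_succ, add_mul, one_mul]
    exact near_add hφ hE ih hP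

/-- A point with nonsingular reduction has no torsion prime to the residue characteristic. -/
theorem not_small_of_torsion [IsNoetherianRing R] (hφ : Function.Injective (algebraMap R K)) (hE : Cusp E)
    {x y : K} (h : (E.map φ).toAffine.Nonsingular x y) {n : ℕ} (hn : IsUnit (n : R))
    (hP : n • (Affine.Point.some x y h) = 0) {t w : R} : ¬ Small 0 x y t w := by
  intro hs
  by_cases hall : ∀ k, t ∈ maximalIdeal R ^ k
  · have ht : t ∈ ⨅ k, maximalIdeal R ^ k := Submodule.mem_iInf _ |>.2 hall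
    rw [Ideal.iInf_pow_eq_bot_of_isLocalRing _ (maximalIdeal.isMaximal R).ne_top, Ideal.mem_bot] at ht
    have hw : w ∈ ⨅ k, maximalIdeal R ^ k := Submodule.mem_iInf _ |>.2 fun k => (w_mem hφ hE h.1 hs (hall k)).hw
    rw [Ideal.iInf_pow_eq_bot_of_isLocalRing _ (maximalIdeal.isMaximal R).ne_top, Ideal.mem_bot] at hw
    simpa [hw] using hs.hy
  push Not at hall
  classical
  obtain ⟨k, hk, hk'⟩ : ∃ k, t ∈ maximalIdeal R ^ k ∧ t ∉ maximalIdeal R ^ (k + 1) := by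
    have h0 : Nat.find hall ≠ 0 := fun h0 => by
      have := Nat.find_spec hall
      rw [h0, pow_zero, Ideal.one_eq_top] at this
      exact this trivial
    obtain ⟨k, hk⟩ := Nat.exists_eq_succ_of_ne_zero h0
    exact ⟨k, not_not.1 (Nat.find_min hall (by omega)), by rw [← Nat.succ_eq_add_one, ← hk]; exact Nat.find_spec hall⟩
  have hN := near_nsmul hφ hE (Or.inr ⟨x, y, h, t, w, rfl, w_mem hφ hE h.1 hs hk,
    by simp⟩ : Near E k (Affine.Point.some x y h) t) n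
  rw [hP] at hN
  rcases hN with ⟨-, hm⟩ | ⟨x', y', h', -, -, he, -, -⟩
  · exact hk' ((Ideal.unit_mul_mem_iff_mem _ hn).1 hm)
  · exact (Affine.Point.some_ne_zero h') he.symm

theorem exists_of_quadratic [IsFractionRing R K] [IsIntegrallyClosed R] {z : K} {b c : R}
    (h : z ^ 2 + φ b * z + φ c = 0) : ∃ r, φ r = z :=
  IsIntegrallyClosed.isIntegral_iff.1 ⟨Polynomial.X ^ 2 + Polynomial.C b * Polynomial.X + Polynomial.C c,
    by monicity!, by simpa [Polynomial.eval₂_add, Polynomial.eval₂_mul] using h⟩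

theorem exists_of_cubic [IsFractionRing R K] [IsIntegrallyClosed R] {z : K} {b c d : R}
    (h : z ^ 3 + φ b * z ^ 2 + φ c * z + φ d = 0) : ∃ r, φ r = z :=
  IsIntegrallyClosed.isIntegral_iff.1 ⟨Polynomial.X ^ 3 + Polynomial.C b * Polynomial.X ^ 2
    + Polynomial.C c * Polynomial.X + Polynomial.C d,
    by monicity!, by simpa [Polynomial.eval₂_add, Polynomial.eval₂_mul] using h⟩

/-- A point is either small or reduces to the cusp. -/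
theorem small_or_mem [IsFractionRing R K] [IsIntegrallyClosed R] [ValuationRing R]
    (hE : Cusp E) {x y : K} (he : (E.map φ).toAffine.Equation x y) :
    (∃ t w : R, Small 0 x y t w) ∨ ∃ a ∈ maximalIdeal R, ∃ b ∈ maximalIdeal R, φ a = x ∧ φ b = y := by
  rw [Affine.equation_iff] at he
  simp only [map_a₁, map_a₂, map_a₃, map_a₄, map_a₆] at he
  by_cases hxR : ∃ a, φ a = x
  · obtain ⟨a, rfl⟩ := hxR
    obtain ⟨b, rfl⟩ : ∃ b, φ b = y := exists_of_quadratic (R := R) (b := E.a₁ * a + E.a₃)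
      (c := -(a ^ 3 + E.a₂ * a ^ 2 + E.a₄ * a + E.a₆)) (by
        simp only [map_add, map_mul, map_neg, map_pow]; linear_combination he)
    by_cases hb : IsUnit b
    · obtain ⟨u, rfl⟩ := hb
      refine Or.inl ⟨a * ((u⁻¹ : Rˣ) : R), ((u⁻¹ : Rˣ) : R), ⟨by simp, by simp, ?_, ?_⟩⟩
      · rw [← map_mul, mul_assoc, Units.inv_mul, mul_one]
      · rw [← map_mul, Units.inv_mul, map_one]
    · refine Or.inr ⟨a, ?_, b, hb, rfl, rfl⟩
      have eR : a ^ 3 = b * (b + E.a₁ * a + E.a₃) - E.a₂ * a ^ 2 - E.a₄ * a - E.a₆ := by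
        apply IsFractionRing.injective R K
        simp only [map_add, map_sub, map_mul, map_pow]; linear_combination -he
      refine (maximalIdeal.isMaximal R).isPrime.mem_of_pow_mem 3 ?_
      rw [eR]
      exact sub_mem (sub_mem (sub_mem (Ideal.mul_mem_right _ _ hb) (Ideal.mul_mem_right _ _ hE.h2))
        (Ideal.mul_mem_right _ _ hE.h4)) hE.h6
  · have hx0 : x ≠ 0 := fun h0 => hxR ⟨0, by rw [h0, map_zero]⟩
    obtain ⟨ξ, hξ⟩ : ∃ ξ, φ ξ = x⁻¹ := (ValuationRing.isInteger_or_isInteger R x).resolve_left hxR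
    have hξx : φ ξ * x = 1 := by rw [hξ, inv_mul_cancel₀ hx0]
    have hξm : ξ ∈ maximalIdeal R := fun hu => hxR ⟨((hu.unit⁻¹ : Rˣ) : R), by
      have h1 : φ ((hu.unit⁻¹ : Rˣ) : R) * φ ξ = 1 := by rw [← map_mul, IsUnit.val_inv_mul, map_one]
      linear_combination (φ ((hu.unit⁻¹ : Rˣ) : R)) * (-hξx) + x * h1⟩
    have hy0 : y ≠ 0 := fun h0 => hxR (exists_of_cubic (R := R) (b := E.a₂) (c := E.a₄) (d := E.a₆) (by
      rw [h0] at he; linear_combination -he))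
    rcases ValuationRing.isInteger_or_isInteger R (x / y) with ⟨t, ht⟩ | ⟨η, hη⟩
    · refine Or.inl ⟨t, t * ξ, ⟨by simp, by simp, by rw [ht, div_mul_cancel₀ _ hy0], ?_⟩⟩
      rw [map_mul, ht]
      field_simp
      linear_combination hξx
    · exfalso
      rw [inv_div] at hη
      have hyx : y = φ η * x := by rw [hη, div_mul_cancel₀ _ hx0]
      have eR : η ^ 2 * ξ + E.a₁ * η * ξ + E.a₃ * η * ξ ^ 2 =
          1 + E.a₂ * ξ + E.a₄ * ξ ^ 2 + E.a₆ * ξ ^ 3 := by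
        apply IsFractionRing.injective R K
        simp only [map_add, map_mul, map_pow, map_one]
        rw [hyx] at he
        rw [hξ]
        field_simp
        linear_combination he
      have h1 : (1 : R) = η ^ 2 * ξ + E.a₁ * η * ξ + E.a₃ * η * ξ ^ 2 - E.a₂ * ξ - E.a₄ * ξ ^ 2 - E.a₆ * ξ ^ 3 := by
        linear_combination -eR
      apply (maximalIdeal.isMaximal R).ne_top
      rw [Ideal.eq_top_iff_one, h1]
      exact sub_mem (sub_mem (sub_mem (add_mem (add_mem (Ideal.mul_mem_left _ _ hξm) (Ideal.mul_mem_left _ _ hξm))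
        (Ideal.mul_mem_right _ _ (Ideal.mul_mem_right _ _ hE.h3))) (Ideal.mul_mem_right _ _ hE.h2))
        (Ideal.mul_mem_right _ _ hE.h4)) (Ideal.mul_mem_right _ _ hE.h6)

/-- All multiples of a torsion point of order prime to the residue characteristic reduce to the cusp. -/
theorem multiples_mem [IsNoetherianRing R] [IsFractionRing R K] [IsIntegrallyClosed R] [ValuationRing R]
    (hE : Cusp E) {P : (E.map φ).toAffine.Point} {n : ℕ} (hn : IsUnit (n : R)) (hP : n • P = 0)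
    {x y : K} {h : (E.map φ).toAffine.Nonsingular x y} {j : ℕ} (hj : j • P = Affine.Point.some x y h) :
    ∃ a ∈ maximalIdeal R, ∃ b ∈ maximalIdeal R, φ a = x ∧ φ b = y := by
  refine (small_or_mem hE h.1).resolve_left ?_
  rintro ⟨t, w, hs⟩
  exact not_small_of_torsion (IsFractionRing.injective R K) hE h hn
    (by rw [← hj, smul_comm, hP, smul_zero]) hs

end Groth.Agent.NeronA.AddTorsion
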