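import Groth.Agent.SchDenseLib.Hom
import Groth.Agent.SchDenseLib.FlatNoeth
import Groth.Agent.FlatLocus.Basic
import Mathlib

/-!
# Étale, flat and sections for a morphism which is an isomorphism over a dense open
-/

set_option autoImplicit false
set_option linter.style.haveILetI false

universe u

open CategoryTheory Limits AlgebraicGeometry TopologicalSpace

namespace Groth.Agent.NeronA.BiratTfae

variable {X S : Scheme.{u}} (f : X ⟶ S) (U : S.Opens)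

theorem eq_of_comp_eq (hiso : IsIso (f ∣_ U)) {T : Scheme.{u}} (a b : T ⟶ X) (hab : a ≫ f = b ≫ f)
    (hT : ∀ t, (a ≫ f).base t ∈ U) : a = b := by
  have ha : Set.range a.base ⊆ Set.range (f ⁻¹ᵁ U).ι.base := by
    rintro _ ⟨t, rfl⟩; rw [Scheme.Opens.range_ι]; exact hT t
  have hb : Set.range b.base ⊆ Set.range (f ⁻¹ᵁ U).ι.base := by
    rintro _ ⟨t, rfl⟩; rw [Scheme.Opens.range_ι]
    show (b ≫ f).base t ∈ U
    rw [← hab]; exact hT t
  have h : IsOpenImmersion.lift (f ⁻¹ᵁ U).ι a ha = IsOpenImmersion.lift (f ⁻¹ᵁ U).ι b hb := by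
    rw [← cancel_mono (f ∣_ U), ← cancel_mono U.ι, Category.assoc, Category.assoc, morphismRestrict_ι,
      IsOpenImmersion.lift_fac_assoc, IsOpenImmersion.lift_fac_assoc, hab]
  rw [← IsOpenImmersion.lift_fac (f ⁻¹ᵁ U).ι a ha, h, IsOpenImmersion.lift_fac]

theorem isSeparated_affine_source {W : Scheme.{u}} [IsAffine W] (h : W ⟶ S) : IsSeparated h := by
  haveI : IsSeparated (h ≫ terminal.from S) := by
    rw [Subsingleton.elim (h ≫ terminal.from S) (terminal.from W)]; infer_instance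
  exact IsSeparated.of_comp h (terminal.from S)

variable [IsLocallyNoetherian S] [LocallyOfFiniteType f]

/-- Near a flat point the morphism is an open immersion. -/
theorem exists_openImmersion_of_flat (hiso : IsIso (f ∣_ U)) (hdense : CInt.IsSchematicallyDense (f ⁻¹ᵁ U))
    (x : X) (hx : (f.stalkMap x).hom.Flat) : ∃ W : X.Opens, x ∈ W ∧ IsOpenImmersion (W.ι ≫ f) := by
  haveI : IsLocallyNoetherian X := LocallyOfFiniteType.isLocallyNoetherian f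
  haveI : LocallyOfFinitePresentation f := inferInstance
  obtain ⟨W, hW, hxW, hWO⟩ := exists_isAffineOpen_mem_and_subset
    (U := ⟨_, Groth.Agent.FlatLocus.isOpen_flat_locus f⟩) (x := x) hx
  refine ⟨W, hxW, ?_⟩
  haveI : IsAffine W := hW
  haveI := isSeparated_affine_source (W.ι ≫ f)
  haveI : Flat (W.ι ≫ f) := by
    rw [Flat.iff_flat_stalkMap]
    intro w
    rw [Scheme.Hom.stalkMap_comp]
    exact RingHom.Flat.comp (hWO w.2) (Flat.stalkMap W.ι w)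
  let h : (W : Scheme.{u}) ⟶ S := W.ι ≫ f
  have hd0 : CInt.IsSchematicallyDense (W.ι ⁻¹ᵁ (f ⁻¹ᵁ U)) :=
    Groth.Agent.SchDenseLib.preimage_of_isLocallyNoetherian W.ι _ hdense
  have hd : CInt.IsSchematicallyDense (pullback.fst h h ⁻¹ᵁ (W.ι ⁻¹ᵁ (f ⁻¹ᵁ U))) :=
    Groth.Agent.SchDenseLib.preimage_of_isLocallyNoetherian (pullback.fst h h) _ hd0
  have hfs : pullback.fst h h = pullback.snd h h := by
    refine Groth.Agent.SchDenseLib.hom_ext hd h _ _ pullback.condition ?_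
    rw [← cancel_mono W.ι, Category.assoc, Category.assoc]
    refine eq_of_comp_eq f U hiso _ _ ?_ fun t => t.2
    simp only [Category.assoc]
    exact congrArg ((pullback.fst h h ⁻¹ᵁ (W.ι ⁻¹ᵁ (f ⁻¹ᵁ U))).ι ≫ ·) pullback.condition
  haveI : Mono h := ⟨fun a b hab => by
    rw [← pullback.lift_fst a b hab, hfs, pullback.lift_snd]⟩
  exact IsOpenImmersion.of_flat_of_mono h

theorem openImmersion_of_section (hiso : IsIso (f ∣_ U)) (hdense : CInt.IsSchematicallyDense (f ⁻¹ᵁ U))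
    (x : X) (V : S.Opens) (hV : f.base x ∈ V) (σ : (V : Scheme.{u}) ⟶ X) (hσ : σ ≫ f = V.ι)
    (hσx : σ.base ⟨f.base x, hV⟩ = x) : ∃ W : X.Opens, x ∈ W ∧ IsOpenImmersion (W.ι ≫ f) := by
  haveI : IsLocallyNoetherian X := LocallyOfFiniteType.isLocallyNoetherian f
  obtain ⟨W0, hW0, hxW0, hW0V⟩ := exists_isAffineOpen_mem_and_subset (U := f ⁻¹ᵁ V) (x := x) hV
  haveI : IsAffine W0 := hW0
  haveI := isSeparated_affine_source (W0.ι ≫ f)
  have hr : Set.range (W0.ι ≫ f).base ⊆ Set.range V.ι.base := by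
    rintro _ ⟨w, rfl⟩; rw [Scheme.Opens.range_ι]; exact hW0V w.2
  let τ := IsOpenImmersion.lift V.ι (W0.ι ≫ f) hr
  have hτ : τ ≫ V.ι = W0.ι ≫ f := IsOpenImmersion.lift_fac _ _ _
  let m := τ ≫ σ
  let O : (W0 : Scheme.{u}).Opens := m ⁻¹ᵁ W0
  have hxO : (⟨x, hxW0⟩ : W0) ∈ O := by
    show m.base ⟨x, hxW0⟩ ∈ W0
    have : τ.base ⟨x, hxW0⟩ = ⟨f.base x, hV⟩ := V.ι.isOpenEmbedding.injective
      (congrArg (fun k : (W0 : Scheme.{u}) ⟶ S => k.base ⟨x, hxW0⟩) hτ)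
    show σ.base (τ.base ⟨x, hxW0⟩) ∈ W0
    rw [this, hσx]; exact hxW0
  have hr2 : Set.range (O.ι ≫ m).base ⊆ Set.range W0.ι.base := by
    rintro _ ⟨w, rfl⟩; rw [Scheme.Opens.range_ι]; exact w.2
  have hd : CInt.IsSchematicallyDense ((O.ι ≫ W0.ι) ⁻¹ᵁ (f ⁻¹ᵁ U)) :=
    Groth.Agent.SchDenseLib.preimage_of_isLocallyNoetherian (O.ι ≫ W0.ι) _ hdense
  have hfix : O.ι ≫ m = O.ι ≫ W0.ι := by
    rw [← IsOpenImmersion.lift_fac W0.ι (O.ι ≫ m) hr2]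
    refine congrArg (· ≫ W0.ι) (Groth.Agent.SchDenseLib.hom_ext hd (W0.ι ≫ f) _ _ ?_ ?_)
    · rw [IsOpenImmersion.lift_fac_assoc, Category.assoc]
      exact congrArg (O.ι ≫ ·) ((Category.assoc τ σ f).trans ((congrArg (τ ≫ ·) hσ).trans hτ))
    · rw [← cancel_mono W0.ι, Category.assoc, Category.assoc, IsOpenImmersion.lift_fac]
      refine eq_of_comp_eq f U hiso _ _ ?_ fun t => ?_
      · simp only [Category.assoc, m, hσ, hτ]
      · have e : (((O.ι ≫ W0.ι) ⁻¹ᵁ (f ⁻¹ᵁ U)).ι ≫ O.ι ≫ m) ≫ f =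
            ((O.ι ≫ W0.ι) ⁻¹ᵁ (f ⁻¹ᵁ U)).ι ≫ O.ι ≫ W0.ι ≫ f := by
          simp only [Category.assoc, m, hσ, hτ]
        rw [e]; exact t.2
  let W : X.Opens := W0.ι ''ᵁ O
  have hxW : x ∈ W := ⟨⟨x, hxW0⟩, hxO, rfl⟩
  have hWW0 : W ≤ W0 := by rintro _ ⟨w, -, rfl⟩; exact w.2
  let j : (W : Scheme.{u}) ⟶ O := IsOpenImmersion.lift (O.ι ≫ W0.ι) W.ι (by
    rintro _ ⟨⟨_, ⟨v, hv, rfl⟩⟩, rfl⟩; exact ⟨⟨v, hv⟩, rfl⟩)
  have hj : j ≫ O.ι ≫ W0.ι = W.ι := IsOpenImmersion.lift_fac _ _ _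
  let V' : (V : Scheme.{u}).Opens := σ ⁻¹ᵁ W
  have hWm : (j ≫ O.ι ≫ τ) ≫ σ = W.ι := by
    calc (j ≫ O.ι ≫ τ) ≫ σ = j ≫ O.ι ≫ m := by simp [m]
      _ = W.ι := by rw [hfix, hj]
  have hWf : (j ≫ O.ι ≫ τ) ≫ V.ι = W.ι ≫ f := by
    rw [← hj]; simp only [Category.assoc, hτ]
  refine ⟨W, hxW, ?_⟩
  have hr3 : Set.range (j ≫ O.ι ≫ τ).base ⊆ Set.range V'.ι.base := by
    rintro _ ⟨w, rfl⟩; rw [Scheme.Opens.range_ι]
    show ((j ≫ O.ι ≫ τ) ≫ σ).base w ∈ W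
    rw [hWm]; exact w.2
  have hr4 : Set.range (V'.ι ≫ σ).base ⊆ Set.range W.ι.base := by
    rintro _ ⟨w, rfl⟩; rw [Scheme.Opens.range_ι]; exact w.2
  let e : (W : Scheme.{u}) ⟶ V' := IsOpenImmersion.lift V'.ι _ hr3
  let e' : (V' : Scheme.{u}) ⟶ W := IsOpenImmersion.lift W.ι _ hr4
  haveI : IsIso e := ⟨e', by
      rw [← cancel_mono W.ι, Category.assoc, IsOpenImmersion.lift_fac, ← Category.assoc,
        IsOpenImmersion.lift_fac, hWm, Category.id_comp], by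
      rw [← cancel_mono V'.ι, Category.id_comp, ← cancel_mono V.ι, Category.assoc, Category.assoc,
        IsOpenImmersion.lift_fac_assoc, hWf, IsOpenImmersion.lift_fac_assoc, Category.assoc, hσ]⟩
  have : W.ι ≫ f = e ≫ V'.ι ≫ V.ι := by
    rw [← Category.assoc, IsOpenImmersion.lift_fac, hWf]
  rw [this]
  infer_instance

theorem tfae (hiso : IsIso (f ∣_ U)) (hdense : CInt.IsSchematicallyDense (f ⁻¹ᵁ U)) (x : X) :
    List.TFAE [
      ∃ W : X.Opens, x ∈ W ∧ Etale (W.ι ≫ f),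
      (f.stalkMap x).hom.Flat,
      ∃ (V : S.Opens) (hV : f.base x ∈ V) (σ : (V : Scheme.{u}) ⟶ X),
        σ ≫ f = V.ι ∧ σ.base ⟨f.base x, hV⟩ = x] := by
  tfae_have 1 → 2 := by
    rintro ⟨W, hxW, he⟩
    obtain ⟨w, rfl⟩ : ∃ w : (W : Scheme.{u}), W.ι.base w = x := ⟨⟨x, hxW⟩, rfl⟩
    have h := Flat.stalkMap (W.ι ≫ f) w
    rw [Scheme.Hom.stalkMap_comp] at h
    exact (RingHom.Flat.respectsIso.cancel_right_isIso (f.stalkMap (W.ι.base w))
      (W.ι.stalkMap w)).1 h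
  tfae_have 2 → 3 := by
    intro hx
    obtain ⟨W, hxW, hW⟩ := exists_openImmersion_of_flat f U hiso hdense x hx
    refine ⟨(W.ι ≫ f).opensRange, ⟨⟨x, hxW⟩, rfl⟩, (W.ι ≫ f).isoOpensRange.inv ≫ W.ι, ?_, ?_⟩
    · rw [Category.assoc, Scheme.Hom.isoOpensRange_inv_comp]
    · have h1 : (W.ι ≫ f).isoOpensRange.hom.base ⟨x, hxW⟩ = ⟨f.base x, ⟨⟨x, hxW⟩, rfl⟩⟩ :=
        (W.ι ≫ f).opensRange.ι.isOpenEmbedding.injective
          (congrArg (fun k : (W : Scheme.{u}) ⟶ S => k.base ⟨x, hxW⟩) (Scheme.Hom.isoOpensRange_hom_ι (W.ι ≫ f)))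
      rw [← h1]
      show (((W.ι ≫ f).isoOpensRange.hom ≫ (W.ι ≫ f).isoOpensRange.inv) ≫ W.ι).base
        (⟨x, hxW⟩ : (W : Scheme.{u})) = x
      rw [Iso.hom_inv_id, Category.id_comp]
      rfl
  tfae_have 3 → 1 := by
    rintro ⟨V, hV, σ, hσ, hσx⟩
    obtain ⟨W, hxW, hW⟩ := openImmersion_of_section f U hiso hdense x V hV σ hσ hσx
    exact ⟨W, hxW, inferInstance⟩
  tfae_finish

end Groth.Agent.NeronA.BiratTfae
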