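import Groth.Agent.S0248
import Groth.Agent.RegLoc6.Serre
import Mathlib.RingTheory.Etale.Locus
import Mathlib.RingTheory.Localization.Finiteness

/-!
# Purity of the branch locus, localised form
-/

set_option autoImplicit false

universe u

open IsLocalRing

namespace Groth.Agent.NeronA

theorem etale_of_etale_codimOne (R B : Type u) [CommRing R] [IsRegularLocalRing R] [CommRing B]
    [IsDomain B] [IsIntegrallyClosed B] [Algebra R B] [Module.Finite R B]
    (hinj : Function.Injective (algebraMap R B))
    (h1 : ∀ (q : Ideal B) [q.IsPrime], (q.comap (algebraMap R B)).height ≤ 1 → Algebra.IsEtaleAt R q) :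
    Algebra.Etale R B := by
  haveI := RegLoc6.isDomain_of_isRegularLocalRing R
  haveI : Algebra.FinitePresentation R B := Algebra.FinitePresentation.of_finiteType.mp inferInstance
  rw [← Algebra.etaleLocus_eq_univ_iff_etale]
  refine Set.eq_univ_of_forall fun q => ?_
  show Algebra.IsEtaleAt R q.asIdeal
  obtain ⟨n, hn⟩ : ∃ n : ℕ, (q.asIdeal.comap (algebraMap R B)).height = n :=
    ⟨_, (ENat.natCast_toNat (Ideal.height_ne_top_of_isPrime)).symm⟩
  induction n using Nat.strong_induction_on generalizing q with
  | _ n ih =>
    by_cases hle : n ≤ 1
    · exact h1 q.asIdeal (by rw [hn]; exact_mod_cast hle)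
    let p := q.asIdeal.comap (algebraMap R B)
    let A' := Localization.AtPrime p
    let M := Algebra.algebraMapSubmonoid B p.primeCompl
    have hM : M ≤ nonZeroDivisors B := by
      rintro _ ⟨x, hx, rfl⟩
      refine mem_nonZeroDivisors_of_ne_zero fun h0 => hx ?_
      rw [show x = 0 from hinj (h0.trans (map_zero _).symm)]
      exact zero_mem _
    let B' := Localization M
    haveI : IsDomain B' := IsLocalization.isDomain_localization hM
    haveI : IsIntegrallyClosed B' := isIntegrallyClosed_of_isLocalization B' M hM
    haveI : Module.Finite A' B' := Module.Finite.of_isLocalization R B p.primeCompl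
    haveI : IsRegularLocalRing A' := RegLoc6.isRegularLocalRing_localization R p
    have hdim : (2 : WithBot ℕ∞) ≤ ringKrullDim A' := by
      rw [IsLocalization.AtPrime.ringKrullDim_eq_height p A', hn]
      exact WithBot.coe_le_coe.2 (Nat.cast_le.2 (by omega : 2 ≤ n))
    have hinj' : Function.Injective (algebraMap A' B') := by
      rw [injective_iff_map_eq_zero]
      intro z hz
      obtain ⟨x, s, rfl⟩ := IsLocalization.exists_mk'_eq p.primeCompl z
      have : algebraMap A' B' (algebraMap R A' x) = 0 := by
        rw [← IsLocalization.mk'_spec A' x s, map_mul, hz, zero_mul]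
      rw [← IsScalarTower.algebraMap_apply, IsScalarTower.algebraMap_apply R B B',
        map_eq_zero_iff _ (IsLocalization.injective B' hM), map_eq_zero_iff _ hinj] at this
      rw [this, IsLocalization.mk'_zero]
    have het : Algebra.Etale A' B' := by
      refine S0248.result A' B' hdim hinj' fun q' hq' hne => ?_
      haveI := hq'
      let q'' : PrimeSpectrum B := ⟨q'.comap (algebraMap B B'), inferInstance⟩
      let P := q'.comap (algebraMap A' B')
      have hlt : P.comap (algebraMap R A') < p := by
        refine lt_of_le_of_ne ?_ ?_
        · exact (Ideal.comap_mono (le_maximalIdeal (Ideal.IsPrime.ne_top inferInstance))).trans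
            Localization.AtPrime.under_maximalIdeal.le
        · intro he
          apply hne
          show P = maximalIdeal A'
          exact (IsLocalization.map_comap p.primeCompl A' P).symm.trans
            ((congrArg (Ideal.map _) he).trans Localization.AtPrime.map_eq_maximalIdeal)
      have hq'' : q''.asIdeal.comap (algebraMap R B) = P.comap (algebraMap R A') := by
        simp only [q'', P, Ideal.comap_comap, ← IsScalarTower.algebraMap_eq]
      have hh := Ideal.height_strict_mono_of_isPrime hlt
      obtain ⟨m, hm⟩ : ∃ m : ℕ, (P.comap (algebraMap R A')).height = m :=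
        ⟨_, (ENat.natCast_toNat (Ideal.height_ne_top_of_isPrime)).symm⟩
      rw [hm, hn] at hh
      haveI := ih m (by exact_mod_cast hh) q'' (by rw [hq'', hm])
      let C := Localization.AtPrime q'
      haveI : IsLocalization.AtPrime C q''.asIdeal :=
        IsLocalization.isLocalization_isLocalization_atPrime_isLocalization M C q'
      haveI : Algebra.FormallyEtale R C := Algebra.FormallyEtale.of_equiv
        ((IsLocalization.algEquiv q''.asIdeal.primeCompl (Localization.AtPrime q''.asIdeal) C).restrictScalars R)
      exact Algebra.FormallyEtale.localization_base (R := R) (Rₘ := A') (Sₘ := C) p.primeCompl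
    haveI := het
    have hd : Disjoint (M : Set B) q.asIdeal := by
      rw [Set.disjoint_left]
      rintro _ ⟨x, hx, rfl⟩ hxq
      exact hx hxq
    let Q := q.asIdeal.map (algebraMap B B')
    haveI : Q.IsPrime := IsLocalization.isPrime_of_isPrime_disjoint M B' _ q.2 hd
    have hQ : Q.comap (algebraMap B B') = q.asIdeal :=
      IsLocalization.comap_map_of_isPrime_disjoint M B' inferInstance hd
    let C := Localization.AtPrime Q
    haveI : IsLocalization.AtPrime C q.asIdeal := by
      have := IsLocalization.isLocalization_isLocalization_atPrime_isLocalization M C Q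
      simpa only [hQ] using this
    haveI : Algebra.FormallyEtale R A' := Algebra.FormallyEtale.of_isLocalization p.primeCompl
    haveI : Algebra.FormallyEtale B' C := Algebra.FormallyEtale.of_isLocalization Q.primeCompl
    haveI : Algebra.FormallyEtale A' C := Algebra.FormallyEtale.comp A' B' C
    haveI : Algebra.FormallyEtale R C := Algebra.FormallyEtale.comp R A' C
    exact Algebra.FormallyEtale.of_equiv
      ((IsLocalization.algEquiv q.asIdeal.primeCompl C (Localization.AtPrime q.asIdeal)).restrictScalars R)

end Groth.Agent.NeronA
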