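import Groth.Agent.S11468
import Mathlib

/-!
# Global sections of a proper flat scheme over a complete local ring
-/

set_option autoImplicit false
set_option linter.style.haveILetI false

universe u

open CategoryTheory Limits AlgebraicGeometry IsLocalRing

namespace Groth.Agent.NeronA.CompleteH0

variable {R : Type u} [CommRing R] {X : Scheme.{u}} (g : X ⟶ Spec (CommRingCat.of R))

/-- The structure ring map to sections on an open. -/
noncomputable def strMap (U : X.Opens) : R →+* Γ(X, U) :=
  ((Scheme.ΓSpecIso (CommRingCat.of R)).inv ≫ g.appTop ≫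
    X.presheaf.map (homOfLE (le_top : U ≤ ⊤)).op).hom

theorem res_strMap {U V : X.Opens} (e : U ≤ V) (c : R) :
    X.presheaf.map (homOfLE e).op (strMap g V c) = strMap g U c := by
  show (X.presheaf.map _ ≫ X.presheaf.map _) (g.appTop _) = _
  rw [← Functor.map_comp]
  rfl

theorem ker_app (I : Ideal R) {Y : Scheme.{u}} (i : Y ⟶ X) (f : Y ⟶ Spec (CommRingCat.of (R ⧸ I)))
    (hsq : IsPullback i f g (Spec.map (CommRingCat.ofHom (Ideal.Quotient.mk I)))) (U : X.affineOpens) :
    RingHom.ker (i.app U.1).hom = I.map (strMap g U.1) := by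
  have : IsClosedImmersion (Spec.map (CommRingCat.ofHom (Ideal.Quotient.mk I))) :=
    IsClosedImmersion.spec_of_surjective _ Ideal.Quotient.mk_surjective
  have : IsClosedImmersion i :=
    MorphismProperty.of_isPullback (P := @IsClosedImmersion) hsq.flip inferInstance
  rw [← Scheme.Hom.ker_apply i U, Groth.Agent.FComplLib.ker_of_isPullback hsq,
    ModPairLib.ideal_comap _ g ⟨⊤, isAffineOpen_top _⟩ U le_top, Scheme.Hom.ker_apply]
  have hk : RingHom.ker ((Spec.map (CommRingCat.ofHom (Ideal.Quotient.mk I))).app ⊤).hom =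
      I.map (Scheme.ΓSpecIso (CommRingCat.of R)).inv.hom := by
    let e := (Scheme.ΓSpecIso (CommRingCat.of R)).symm.commRingCatIsoToRingEquiv
    let e' := (Scheme.ΓSpecIso (CommRingCat.of (R ⧸ I))).symm.commRingCatIsoToRingEquiv
    show RingHom.ker (Spec.map (CommRingCat.ofHom (Ideal.Quotient.mk I))).appTop.hom = I.map (e : R →+* _)
    rw [Ideal.map_comap_of_equiv e]
    ext z
    have e2 := congr($(Scheme.ΓSpecIso_inv_naturality (CommRingCat.ofHom (Ideal.Quotient.mk I))) (e.symm z))
    rw [RingHom.mem_ker, Ideal.mem_comap]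
    show (Spec.map (CommRingCat.ofHom (Ideal.Quotient.mk I))).appTop z = 0 ↔ e.symm z ∈ I
    rw [← Ideal.Quotient.eq_zero_iff_mem, ← map_eq_zero_iff e'.toRingHom e'.injective,
      show (Spec.map (CommRingCat.ofHom (Ideal.Quotient.mk I))).appTop z =
        (Spec.map (CommRingCat.ofHom (Ideal.Quotient.mk I))).appTop (e (e.symm z)) by rw [e.apply_symm_apply]]
    exact Eq.congr_left e2.symm
  rw [hk, Ideal.map_map]
  rfl

theorem bijective_of_complete [IsLocalRing R] [IsNoetherianRing R] [IsAdicComplete (maximalIdeal R) R]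
    [IsProper g] [Flat g] (X₀ : Scheme.{u}) (i : X₀ ⟶ X)
    (f₀ : X₀ ⟶ Spec (CommRingCat.of (R ⧸ maximalIdeal R)))
    (hsq : IsPullback i f₀ g (Spec.map (CommRingCat.ofHom (Ideal.Quotient.mk (maximalIdeal R)))))
    (h0 : Function.Bijective ((Scheme.ΓSpecIso (CommRingCat.of (R ⧸ maximalIdeal R))).inv ≫ f₀.appTop)) :
    Function.Bijective ((Scheme.ΓSpecIso (CommRingCat.of R)).inv ≫ g.appTop) := by
  haveI : IsLocallyNoetherian X := LocallyOfFiniteType.isLocallyNoetherian g
  let m := maximalIdeal R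
  let I : ℕ → Ideal R := fun n => m ^ (n + 1)
  let q : ∀ n, R →+* R ⧸ I n := fun n => Ideal.Quotient.mk (I n)
  have hle : ∀ n, I n ≤ m := fun n => Ideal.pow_le_self (Nat.succ_ne_zero n)
  have hloc : ∀ n, IsLocalRing (R ⧸ I n) := fun n => by
    haveI : Nontrivial (R ⧸ I n) := Ideal.Quotient.nontrivial_iff.2
      (ne_top_of_le_ne_top (maximalIdeal.isMaximal R).ne_top (hle n))
    exact IsLocalRing.of_surjective' _ Ideal.Quotient.mk_surjective
  let Xn : ℕ → Scheme.{u} := fun n => pullback g (Spec.map (CommRingCat.ofHom (q n)))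
  have hbij : ∀ n, Function.Bijective
      ((Scheme.ΓSpecIso (CommRingCat.of (R ⧸ I n))).inv ≫
        (pullback.snd g (Spec.map (CommRingCat.ofHom (q n)))).appTop) := by
    intro n
    haveI := hloc n
    haveI : IsArtinianRing (R ⧸ I n) :=
      IsLocalRing.quotient_artinian_of_mem_minimalPrimes_of_isLocalRing (I n)
        ⟨⟨inferInstance, hle n⟩, fun p hp _ => hp.1.le_of_pow_le hp.2⟩
    have hmax : maximalIdeal (R ⧸ I n) = m.map (q n) :=
      ((Ideal.map_eq_top_or_isMaximal_of_surjective (q n) Ideal.Quotient.mk_surjective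
        (maximalIdeal.isMaximal R)).resolve_left fun h => by
          have h' := congrArg (Ideal.comap (q n)) h
          rw [Ideal.comap_map_of_surjective _ Ideal.Quotient.mk_surjective, Ideal.comap_top,
            ← RingHom.ker_eq_comap_bot, Ideal.mk_ker, sup_eq_left.2 (hle n)] at h'
          exact (maximalIdeal.isMaximal R).ne_top h') |> IsLocalRing.eq_maximalIdeal |>.symm
    let e : (R ⧸ I n) ⧸ maximalIdeal (R ⧸ I n) ≃+* R ⧸ m :=
      (Ideal.quotEquivOfEq hmax).trans (DoubleQuot.quotQuotEquivQuotOfLE (hle n))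
    let s : Spec (CommRingCat.of ((R ⧸ I n) ⧸ maximalIdeal (R ⧸ I n))) ⟶ Spec (CommRingCat.of (R ⧸ I n)) :=
      Spec.map (CommRingCat.ofHom (Ideal.Quotient.mk (maximalIdeal (R ⧸ I n))))
    let es : CommRingCat.of ((R ⧸ I n) ⧸ maximalIdeal (R ⧸ I n)) ≅ CommRingCat.of (R ⧸ m) := e.toCommRingCatIso
    have hs : Spec.map es.hom ≫ s ≫ Spec.map (CommRingCat.ofHom (q n)) =
        Spec.map (CommRingCat.ofHom (Ideal.Quotient.mk m)) := by
      rw [← Spec.map_comp, ← Spec.map_comp]
      congr 1
    let j : X₀ ⟶ Xn n := pullback.lift i (f₀ ≫ Spec.map es.hom ≫ s) (by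
      rw [hsq.w, Category.assoc, Category.assoc, hs])
    have hj : IsPullback j (f₀ ≫ Spec.map es.hom) (pullback.snd g (Spec.map (CommRingCat.ofHom (q n)))) s := by
      have h1 : IsPullback i (f₀ ≫ Spec.map es.hom) g (s ≫ Spec.map (CommRingCat.ofHom (q n))) := by
        refine hsq.of_iso (Iso.refl _) (Iso.refl _) (asIso (Spec.map es.hom)) (Iso.refl _) (by simp) (by simp)
          (by simp) ?_
        simp [hs]
      have hp : pullback.lift i (f₀ ≫ Spec.map es.hom ≫ s) (by rw [hsq.w, Category.assoc, Category.assoc, hs]) ≫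
          pullback.fst g (Spec.map (CommRingCat.ofHom (q n))) = i := pullback.lift_fst _ _ _
      exact IsPullback.of_right (hp.symm ▸ h1) (by rw [pullback.lift_snd, Category.assoc])
        (IsPullback.of_hasPullback _ _)
    refine Groth.Agent.S11468.result (R ⧸ I n) (Xn n) X₀ _ j _ hj ?_
    have e1 : (Scheme.ΓSpecIso (CommRingCat.of ((R ⧸ I n) ⧸ maximalIdeal (R ⧸ I n)))).inv ≫
        (f₀ ≫ Spec.map es.hom).appTop =
        es.hom ≫ (Scheme.ΓSpecIso (CommRingCat.of (R ⧸ m))).inv ≫ f₀.appTop := by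
      rw [Scheme.Hom.comp_appTop, ← Category.assoc, ← Scheme.ΓSpecIso_inv_naturality, Category.assoc]
    rw [e1]
    exact h0.comp (ConcreteCategory.bijective_of_isIso es.hom)
  have hψ : ∀ n (c : R), (pullback.fst g (Spec.map (CommRingCat.ofHom (q n)))).appTop
      (((Scheme.ΓSpecIso (CommRingCat.of R)).inv ≫ g.appTop) c) =
      ((Scheme.ΓSpecIso (CommRingCat.of (R ⧸ I n))).inv ≫
        (pullback.snd g (Spec.map (CommRingCat.ofHom (q n)))).appTop) (q n c) := by
    intro n c
    show (pullback.fst g (Spec.map (CommRingCat.ofHom (q n))) ≫ g).appTop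
      ((Scheme.ΓSpecIso (CommRingCat.of R)).inv c) = _
    rw [show (pullback.fst g (Spec.map (CommRingCat.ofHom (q n))) ≫ g).appTop =
      (pullback.snd g (Spec.map (CommRingCat.ofHom (q n))) ≫ Spec.map (CommRingCat.ofHom (q n))).appTop by
        rw [pullback.condition], Scheme.Hom.comp_appTop, ConcreteCategory.comp_apply]
    have e2 := congr($(Scheme.ΓSpecIso_inv_naturality (CommRingCat.ofHom (q n))) c)
    exact congrArg (pullback.snd g (Spec.map (CommRingCat.ofHom (q n)))).appTop e2.symm
  constructor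
  · rw [injective_iff_map_eq_zero]
    intro c hc
    have h : c ∈ ⨅ n, m ^ n := Submodule.mem_iInf _ |>.2 fun n => by
      have h1 := hψ n c
      rw [hc, map_zero] at h1
      have h2 : q n c = 0 := (hbij n).1 (h1.symm.trans (map_zero _).symm)
      exact Ideal.pow_le_pow_right (Nat.le_succ n) (Ideal.Quotient.eq_zero_iff_mem.1 h2)
    rwa [Ideal.iInf_pow_eq_bot_of_isLocalRing m (maximalIdeal.isMaximal R).ne_top, Ideal.mem_bot] at h
  · intro a
    have hc : ∀ n, ∃ c : R, (pullback.fst g (Spec.map (CommRingCat.ofHom (q n)))).appTop a =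
        (pullback.fst g (Spec.map (CommRingCat.ofHom (q n)))).appTop
          (((Scheme.ΓSpecIso (CommRingCat.of R)).inv ≫ g.appTop) c) := fun n => by
      obtain ⟨z, hz⟩ := (hbij n).2 ((pullback.fst g (Spec.map (CommRingCat.ofHom (q n)))).appTop a)
      obtain ⟨c, rfl⟩ := Ideal.Quotient.mk_surjective z
      exact ⟨c, hz.symm.trans (hψ n c).symm⟩
    choose c hc using hc
    have hU : ∀ n (U : X.affineOpens), X.presheaf.map (homOfLE (le_top : U.1 ≤ ⊤)).op a -
        strMap g U.1 (c n) ∈ (I n).map (strMap g U.1) := fun n U => by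
      rw [← ker_app g (I n) _ _ (IsPullback.of_hasPullback g (Spec.map (CommRingCat.ofHom (q n)))) U,
        RingHom.mem_ker, map_sub, sub_eq_zero]
      have e := (pullback.fst g (Spec.map (CommRingCat.ofHom (q n)))).naturality (homOfLE (le_top : U.1 ≤ ⊤)).op
      exact (congr($e a)).trans ((congrArg _ (hc n)).trans
        (congr($e (((Scheme.ΓSpecIso (CommRingCat.of R)).inv ≫ g.appTop) (c n)))).symm)
    have hcauchy : ∀ {k n}, k ≤ n → c k ≡ c n [SMOD (m ^ k • ⊤ : Submodule R R)] := by
      intro k n hkn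
      rw [SModEq.sub_mem, smul_eq_mul, Ideal.mul_top]
      refine Ideal.pow_le_pow_right (Nat.le_succ k) (Ideal.Quotient.eq.1 ((hbij k).1 ?_))
      refine (hψ k (c k)).symm.trans ((hc k).symm.trans (Eq.trans ?_ (hψ k (c n))))
      have hU' : ∀ U : X.affineOpens, (pullback.fst g (Spec.map (CommRingCat.ofHom (q k)))).app U.1
          (X.presheaf.map (homOfLE (le_top : U.1 ≤ ⊤)).op a) =
          (pullback.fst g (Spec.map (CommRingCat.ofHom (q k)))).app U.1 (strMap g U.1 (c n)) := fun U => by
        rw [← sub_eq_zero, ← map_sub, ← RingHom.mem_ker,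
          ker_app g (I k) _ _ (IsPullback.of_hasPullback g (Spec.map (CommRingCat.ofHom (q k)))) U]
        exact Ideal.map_mono (Ideal.pow_le_pow_right (Nat.succ_le_succ hkn)) (hU n U)
      refine (Xn k).sheaf.eq_of_locally_eq'
        (fun U : X.affineOpens => pullback.fst g (Spec.map (CommRingCat.ofHom (q k))) ⁻¹ᵁ U.1) _
        (fun U => homOfLE le_top) (fun y _ => ?_) _ _ fun U => ?_
      · obtain ⟨W, hW, hyW, -⟩ := exists_isAffineOpen_mem_and_subset
          (x := (pullback.fst g (Spec.map (CommRingCat.ofHom (q k)))).base y) (U := ⊤) trivial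
        exact TopologicalSpace.Opens.mem_iSup.mpr ⟨⟨W, hW⟩, hyW⟩
      · have e := (pullback.fst g (Spec.map (CommRingCat.ofHom (q k)))).naturality (homOfLE (le_top : U.1 ≤ ⊤)).op
        exact (congr($e a)).symm.trans ((hU' U).trans (congr($e (((Scheme.ΓSpecIso (CommRingCat.of R)).inv ≫ g.appTop) (c n)))))
    obtain ⟨L, hL⟩ := IsPrecomplete.prec (I := m) inferInstance (f := c) hcauchy
    refine ⟨L, sub_eq_zero.1 ?_⟩
    refine TopCat.Presheaf.section_ext X.sheaf ⊤ _ _ fun y _ => ?_
    show X.presheaf.germ ⊤ y _ _ = X.presheaf.germ ⊤ y _ (0 : Γ(X, ⊤))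
    rw [map_zero]
    obtain ⟨z, hyz, hz⟩ : ∃ z : X, y ⤳ z ∧ g.base z = closedPoint R := by
      have himg : IsClosed (g.base '' closure {y}) := g.isClosedMap _ isClosed_closure
      have hsp : g.base y ⤳ closedPoint R := IsLocalRing.specializes_closedPoint (g.base y)
      obtain ⟨z, hz, hz'⟩ := hsp.mem_closed himg ⟨y, subset_closure rfl, rfl⟩
      exact ⟨z, specializes_iff_mem_closure.2 hz, hz'⟩
    obtain ⟨W, hW, hzW, -⟩ := exists_isAffineOpen_mem_and_subset (x := z) (U := ⊤) trivial
    have hyW : y ∈ W := hyz.mem_open W.isOpen hzW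
    set d := X.presheaf.map (homOfLE (le_top : W ≤ ⊤)).op
      (((Scheme.ΓSpecIso (CommRingCat.of R)).inv ≫ g.appTop) L - a) with hd
    have hdm : ∀ n, d ∈ (m ^ n).map (strMap g W) := fun n => by
      have h1 : L - c n ∈ m ^ n := by
        have := hL n
        rw [SModEq.sub_mem, smul_eq_mul, Ideal.mul_top] at this
        simpa using neg_mem this
      have : d = strMap g W (L - c n) - (X.presheaf.map (homOfLE (le_top : W ≤ ⊤)).op a - strMap g W (c n)) := by
        rw [hd, map_sub, map_sub]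
        show strMap g W L - _ = _
        ring
      rw [this]
      exact sub_mem (Ideal.mem_map_of_mem _ h1)
        (Ideal.map_mono (Ideal.pow_le_pow_right (Nat.le_succ n)) (hU n ⟨W, hW⟩))
    have hmz : ∀ r ∈ m, X.presheaf.germ W z hzW (strMap g W r) ∈ maximalIdeal (X.presheaf.stalk z) := by
      intro r hr hu
      have h2 : z ∈ X.basicOpen (strMap g W r) := (X.mem_basicOpen _ z hzW).2 hu
      change z ∈ X.basicOpen (X.presheaf.map (homOfLE (le_top : W ≤ ⊤)).op
        (g.appTop ((Scheme.ΓSpecIso (CommRingCat.of R)).inv r))) at h2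
      rw [Scheme.basicOpen_res] at h2
      have h3 : z ∈ g ⁻¹ᵁ (Spec (CommRingCat.of R)).basicOpen ((Scheme.ΓSpecIso (CommRingCat.of R)).inv r) := by
        rw [Scheme.preimage_basicOpen]; exact h2.2
      have h4 : closedPoint R ∈ PrimeSpectrum.basicOpen r := by
        rw [← hz]
        rw [← basicOpen_eq_of_affine (R := CommRingCat.of R) r]
        exact h3
      exact h4 hr
    have hgz : X.presheaf.germ W z hzW d = 0 := by
      have h1 : X.presheaf.germ W z hzW d ∈ ⨅ n, maximalIdeal (X.presheaf.stalk z) ^ n :=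
        Submodule.mem_iInf _ |>.2 fun n => by
          have h2 := Ideal.mem_map_of_mem (X.presheaf.germ W z hzW).hom (hdm n)
          rw [Ideal.map_map, Ideal.map_pow] at h2
          exact Ideal.pow_right_mono (Ideal.map_le_iff_le_comap.2 fun r hr => Ideal.mem_comap.2 (hmz r hr)) n h2
      haveI : IsNoetherianRing (X.presheaf.stalk z) := inferInstance
      rwa [Ideal.iInf_pow_eq_bot_of_isLocalRing _ (maximalIdeal.isMaximal _).ne_top, Ideal.mem_bot] at h1
    obtain ⟨V, hzV, i₁, i₂, hV⟩ := X.presheaf.germ_eq z hzW hzW d 0 (hgz.trans (map_zero _).symm)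
    have hyV : y ∈ V := hyz.mem_open V.isOpen hzV
    rw [map_zero] at hV
    have h3 := congrArg (X.presheaf.germ V y hyV) hV
    rw [map_zero, X.presheaf.germ_res_apply, hd, X.presheaf.germ_res_apply] at h3
    exact h3

end Groth.Agent.NeronA.CompleteH0
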