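import Groth.Agent.SGA7X.ComponentPow
import Groth.Agent.GrpSchLib.HomClosedRange
import Mathlib

/-!
Component groups of smooth commutative group schemes over an algebraically closed field:
torsion lifts.
-/

set_option autoImplicit false
set_option linter.style.haveILetI false
set_option backward.isDefEq.respectTransparency.types false

universe u

open CategoryTheory CategoryTheory.Limits AlgebraicGeometry MonoidalCategory CartesianMonoidalCategory MonObj IsLocalRing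
open Groth.Agent.SGA7X

namespace Groth.Agent.NeronA.ComponentLift

theorem isMonHom_pow {S : Scheme.{u}} (G : Over S) [GrpObj G] [IsCommMonObj G] (n : ℕ) :
    IsMonHom (𝟙 G ^ n : G ⟶ G) where
  one_hom := by
    rw [MonObj.comp_pow, Category.comp_id]
    have : η[G] = 1 := by rw [Hom.one_def, toUnit_unique (toUnit (𝟙_ _)) (𝟙 _), Category.id_comp]
    rw [this, _root_.one_pow]
  mul_hom := by
    have h : μ[G] = fst G G * snd G G := by rw [Hom.mul_def, lift_fst_snd, Category.id_comp]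
    rw [h, MonObj.comp_pow, Category.comp_id, _root_.mul_pow, MonObj.comp_mul,
      tensorHom_fst, tensorHom_snd, MonObj.comp_pow, MonObj.comp_pow, Category.comp_id, Category.comp_id]

theorem rearrange {α : Type*} [CommGroup α] (y A B w x : α) :
    y * (B * w⁻¹) * x⁻¹ = y * A⁻¹ * w⁻¹ * (A * B * x⁻¹) := by
  apply Additive.ofMul.injective
  simp only [ofMul_mul, ofMul_inv]
  abel

variable {k : Type u} [Field k] [IsAlgClosed k] (G : Over (Spec (CommRingCat.of k))) [GrpObj G] [IsCommMonObj G]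

theorem specialFibreSet_eq_univ {N : Over (Spec (CommRingCat.of k))} : SGA7.specialFibreSet k N = Set.univ :=
  Set.eq_univ_of_forall fun z => Subsingleton.elim (α := PrimeSpectrum k) _ _

theorem mem_component_iff (x y : 𝟙_ (Over (Spec (CommRingCat.of k))) ⟶ G) :
    secPt x ∈ connectedComponent (secPt y) ↔ x * y⁻¹ ∈ SGA7.secUnitComp k G := by
  rw [← secComp_eq_iff, secComp_eq_iff_mem, SGA7.secComp, specialFibreSet_eq_univ, connectedComponentIn_univ]

theorem mem_secUnitComp_iff' (x : 𝟙_ (Over (Spec (CommRingCat.of k))) ⟶ G) :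
    x ∈ SGA7.secUnitComp k G ↔ x.left.base (closedPoint k) ∈ connectedComponent (η[G].left.base (closedPoint k)) := by
  show _ ∈ connectedComponentIn _ _ ↔ _
  rw [specialFibreSet_eq_univ, connectedComponentIn_univ]

theorem one_mem : (1 : 𝟙_ (Over (Spec (CommRingCat.of k))) ⟶ G) ∈ SGA7.secUnitComp k G :=
  (SGA7X.mem_secUnitComp_iff _).2 rfl

theorem inv_mem {x : 𝟙_ (Over (Spec (CommRingCat.of k))) ⟶ G} (hx : x ∈ SGA7.secUnitComp k G) :
    x⁻¹ ∈ SGA7.secUnitComp k G := by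
  have h := (secComp_eq_iff (N := G) 1 x).1 ((SGA7X.mem_secUnitComp_iff x).1 hx).symm
  rwa [_root_.one_mul] at h

theorem pow_mem {x : 𝟙_ (Over (Spec (CommRingCat.of k))) ⟶ G} (hx : x ∈ SGA7.secUnitComp k G) :
    ∀ n : ℕ, x ^ n ∈ SGA7.secUnitComp k G
  | 0 => by rw [pow_zero]; exact one_mem G
  | n + 1 => by rw [pow_succ]; exact mul_mem_secUnitComp (pow_mem hx n) hx

variable [LocallyOfFiniteType G.hom] [QuasiCompact G.hom]

/-- Every rational point has a positive multiple in the identity component. -/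
theorem exists_pow_mem (x : 𝟙_ (Over (Spec (CommRingCat.of k))) ⟶ G) :
    ∃ n, 0 < n ∧ x ^ n ∈ SGA7.secUnitComp k G := by
  obtain ⟨i, j, hij, h⟩ : ∃ i j : ℕ, i < j ∧ SGA7.secComp k G (x ^ i) = SGA7.secComp k G (x ^ j) := by
    have hfin := finite_components (N := G)
    haveI : Finite (Set.range (SGA7.secComp k G)) := hfin.to_subtype
    obtain ⟨i, j, hne, h⟩ := Finite.exists_ne_map_eq_of_infinite
      (fun i : ℕ => (⟨_, x ^ i, rfl⟩ : Set.range (SGA7.secComp k G)))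
    have h' := congrArg Subtype.val h
    rcases lt_or_gt_of_ne hne with hl | hl
    · exact ⟨i, j, hl, h'⟩
    · exact ⟨j, i, hl, h'.symm⟩
  refine ⟨j - i, by omega, ?_⟩
  have := (secComp_eq_iff _ _).1 h.symm
  rwa [← pow_sub x hij.le] at this

/-- The images of the iterated powers on rational points stabilise. -/
theorem exists_stable [IsSeparated G.hom] (p : ℕ) :
    ∃ s₀, ∀ (z : 𝟙_ (Over (Spec (CommRingCat.of k))) ⟶ G) (t : ℕ),
      ∃ w : 𝟙_ (Over (Spec (CommRingCat.of k))) ⟶ G, w ^ p ^ (s₀ + t) = z ^ p ^ s₀ := by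
  let f : ℕ → (G.left ⟶ G.left) := fun s => (𝟙 G ^ p ^ s : G ⟶ G).left
  have hf : ∀ s, f s ≫ G.hom = G.hom := fun s => Over.w _
  have hqc : ∀ s, QuasiCompact (f s) := fun s => by
    haveI : QuasiCompact (f s ≫ G.hom) := by rw [hf]; infer_instance
    exact QuasiCompact.of_comp (f s) G.hom
  let Z : ℕ → TopologicalSpace.Closeds G.left := fun s => ⟨Set.range (f s).base, by
    haveI := isMonHom_pow G (p ^ s)
    haveI := hqc s
    exact GrpSchLib.HomClosedRange.isClosed_range (𝟙 G ^ p ^ s)⟩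
  haveI : IsLocallyNoetherian G.left := LocallyOfFiniteType.isLocallyNoetherian G.hom
  haveI : CompactSpace G.left := QuasiCompact.compactSpace_of_compactSpace G.hom
  haveI : IsNoetherian G.left := {}
  obtain ⟨_, ⟨s₀, rfl⟩, hmin⟩ := wellFounded_lt.has_min (Set.range Z) ⟨_, 0, rfl⟩
  refine ⟨s₀, fun z t => ?_⟩
  have hcomp : (f t) ≫ f s₀ = f (s₀ + t) := by
    show ((𝟙 G ^ p ^ t : G ⟶ G) ≫ (𝟙 G ^ p ^ s₀)).left = _
    rw [MonObj.comp_pow, Category.comp_id, ← pow_mul, ← pow_add, Nat.add_comm]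
  have hle : Z (s₀ + t) ≤ Z s₀ := by
    rintro _ ⟨a, rfl⟩
    exact ⟨(f t).base a, by rw [← Scheme.Hom.comp_apply, hcomp]⟩
  have heq : Z (s₀ + t) = Z s₀ := (eq_or_lt_of_le hle).resolve_right (hmin _ ⟨_, rfl⟩)
  have hzl : ∀ (w : 𝟙_ (Over (Spec (CommRingCat.of k))) ⟶ G) (n : ℕ),
      (w ^ n).left = w.left ≫ (𝟙 G ^ n : G ⟶ G).left := fun w n => by
    rw [← Over.comp_left, MonObj.comp_pow, Category.comp_id]
  let c : G.left := (z ^ p ^ s₀).left.base (closedPoint k)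
  have hc : c ∈ Set.range (f (s₀ + t)).base := by
    show c ∈ (Z (s₀ + t) : Set G.left)
    rw [heq]
    exact ⟨z.left.base (closedPoint k), by rw [← Scheme.Hom.comp_apply, ← hzl]⟩
  have hcc : IsClosed ({c} : Set G.left) :=
    (pointEquivClosedPoint G.hom ⟨(z ^ p ^ s₀).left, Over.w _⟩).2
  haveI : JacobsonSpace G.left := LocallyOfFiniteType.jacobsonSpace G.hom
  obtain ⟨b, hb, hbc⟩ := nonempty_inter_closedPoints (Z := (f (s₀ + t)).base ⁻¹' {c})
    (by obtain ⟨a, ha⟩ := hc; exact ⟨a, ha⟩) (hcc.preimage (f _).continuous).isLocallyClosed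
  let w : 𝟙_ (Over (Spec (CommRingCat.of k))) ⟶ G :=
    Over.homMk (pointOfClosedPoint G.hom b hbc) (pointOfClosedPoint_comp G.hom b hbc)
  refine ⟨w, Over.OverMorphism.ext (AlgebraicGeometry.ext_of_apply_closedPoint_eq G.hom (Over.w _) (Over.w _) ?_)⟩
  rw [hzl]
  show (w.left ≫ f (s₀ + t)).base (closedPoint k) = c
  rw [Scheme.Hom.comp_apply]
  show (f (s₀ + t)).base ((pointOfClosedPoint G.hom b hbc).base (closedPoint k)) = c
  rw [pointOfClosedPoint_apply]
  exact hb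

/-- `p`-power torsion components lift to `p`-power torsion points. -/
theorem exists_pTorsion_lift [IsSeparated G.hom] (p : ℕ) (hp : p.Prime) (x : 𝟙_ (Over (Spec (CommRingCat.of k))) ⟶ G)
    (r : ℕ) (hx : x ^ p ^ r ∈ SGA7.secUnitComp k G) :
    ∃ y, x * y⁻¹ ∈ SGA7.secUnitComp k G ∧ ∃ s : ℕ, y ^ p ^ s = 1 := by
  obtain ⟨s₀, hs₀⟩ := exists_stable G p
  -- a common exponent for all components
  have hfin := finite_components (N := G)
  obtain ⟨T, hT⟩ : ∃ T, ∀ z, ∀ m, z ^ p ^ m ∈ SGA7.secUnitComp k G → z ^ p ^ T ∈ SGA7.secUnitComp k G := by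
    choose n hn0 hn using exists_pow_mem G
    classical
    let g : Set G.left → ℕ := fun C =>
      if h : ∃ z m, SGA7.secComp k G z = C ∧ z ^ p ^ m ∈ SGA7.secUnitComp k G then h.choose_spec.choose else 0
    refine ⟨hfin.toFinset.sup g, fun z m hm => ?_⟩
    have h : ∃ z' m, SGA7.secComp k G z' = SGA7.secComp k G z ∧ z' ^ p ^ m ∈ SGA7.secUnitComp k G := ⟨z, m, rfl, hm⟩
    obtain ⟨he, hmem⟩ := h.choose_spec.choose_spec
    have hg : g (SGA7.secComp k G z) = h.choose_spec.choose := by simp only [g, dif_pos h]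
    have h1 : z ^ p ^ g (SGA7.secComp k G z) ∈ SGA7.secUnitComp k G := by
      have h2 := pow_mem G (inv_mem G ((secComp_eq_iff _ _).1 he)) (p ^ g (SGA7.secComp k G z))
      rw [inv_pow, _root_.mul_pow, inv_pow, mul_inv_rev, inv_inv] at h2
      rw [hg] at h2 ⊢
      have := mul_mem_secUnitComp h2 hmem
      rwa [inv_mul_cancel_right] at this
    obtain ⟨e, he'⟩ := Nat.exists_eq_add_of_le (Finset.le_sup (f := g) (hfin.mem_toFinset.2 ⟨z, rfl⟩))
    rw [he', pow_add, pow_mul]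
    exact pow_mem G h1 _
  obtain ⟨w, hw⟩ := hs₀ (x ^ p ^ r) (r + T)
  let z := w ^ p ^ T
  have hz : z ^ p ^ (r + s₀) = (x ^ p ^ r) ^ p ^ s₀ := by
    rw [← hw, ← pow_mul, ← pow_add]
    congr 2
    omega
  have hwm : w ^ p ^ (s₀ + (r + T)) ∈ SGA7.secUnitComp k G := hw ▸ pow_mem G hx _
  refine ⟨x * z⁻¹, ?_, r + s₀, ?_⟩
  · rw [mul_inv_rev, inv_inv, ← _root_.mul_assoc, mul_comm x z, _root_.mul_assoc, mul_inv_cancel, _root_.mul_one]
    exact hT w _ hwm
  · rw [_root_.mul_pow, inv_pow, hz, ← pow_mul, ← pow_add, mul_inv_cancel]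

/-- If the `p`-primary components split, all of them do. -/
theorem exists_exact_lift [Smooth G.hom] (p : ℕ) [Fact p.Prime] [CharP k p]
    (hP : ∀ x : 𝟙_ (Over (Spec (CommRingCat.of k))) ⟶ G, (∃ r : ℕ, x ^ p ^ r ∈ SGA7.secUnitComp k G) →
      ∃ y, y * x⁻¹ ∈ SGA7.secUnitComp k G ∧ ∀ n : ℕ, y ^ n = 1 ↔ x ^ n ∈ SGA7.secUnitComp k G)
    (x : 𝟙_ (Over (Spec (CommRingCat.of k))) ⟶ G) :
    ∃ y, y * x⁻¹ ∈ SGA7.secUnitComp k G ∧ ∀ n : ℕ, y ^ n = 1 ↔ x ^ n ∈ SGA7.secUnitComp k G := by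
  classical
  let m := Nat.find (exists_pow_mem G x)
  obtain ⟨hm0, hm⟩ := Nat.find_spec (exists_pow_mem G x)
  have hdvd : ∀ n : ℕ, x ^ n ∈ SGA7.secUnitComp k G ↔ m ∣ n := by
    intro n
    constructor
    · intro hn
      by_contra hnd
      have hmod : x ^ (n % m) ∈ SGA7.secUnitComp k G := by
        have h1 := mul_mem_secUnitComp hn (inv_mem G (pow_mem G hm (n / m)))
        rw [← pow_mul, ← pow_sub x (Nat.mul_div_le n m)] at h1
        have : n - m * (n / m) = n % m := by have := Nat.div_add_mod n m; omega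
        rwa [this] at h1
      have hpos : 0 < n % m := Nat.pos_of_ne_zero fun h => hnd (Nat.dvd_of_mod_eq_zero h)
      exact absurd (Nat.find_le (h := exists_pow_mem G x) ⟨hpos, hmod⟩) (not_le.2 (Nat.mod_lt n hm0))
    · rintro ⟨d, rfl⟩
      rw [pow_mul]; exact pow_mem G hm d
  obtain ⟨a, m', hm', hmeq⟩ := Nat.exists_eq_pow_mul_and_not_dvd hm0.ne' p (Fact.out : p.Prime).ne_one
  change m = p ^ a * m' at hmeq
  have hm'0 : 0 < m' := Nat.pos_of_ne_zero fun h => hm' (h ▸ dvd_zero p)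
  have hco : Nat.Coprime (p ^ a) m' := ((Fact.out : p.Prime).coprime_iff_not_dvd.2 hm').pow_left a
  obtain ⟨v, hv⟩ := Nat.chineseRemainder hco 0 1
  -- `v ≡ 0 [p^a]`, `v ≡ 1 [m']`; `u` is the complementary idempotent
  obtain ⟨u, hu⟩ := Nat.chineseRemainder hco 1 0
  have huv : m ∣ (u + v) - 1 ∧ 1 ≤ u + v ∨ m = 1 := by
    by_cases h1 : m = 1
    · exact Or.inr h1
    have hmod : u + v ≡ 1 [MOD m] := by
      rw [hmeq]
      exact (Nat.modEq_and_modEq_iff_modEq_mul hco).1 ⟨hu.1.add hv.1, hu.2.add hv.2⟩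
    have h0 : 1 ≤ u + v := by
      by_contra h
      have : u + v = 0 := by omega
      rw [this] at hmod
      exact h1 (Nat.dvd_one.1 ((Nat.modEq_zero_iff_dvd).1 hmod.symm))
    exact Or.inl ⟨(Nat.modEq_iff_dvd' h0).1 hmod.symm, h0⟩
  have hsum : x ^ (u + v) * x⁻¹ ∈ SGA7.secUnitComp k G := by
    rcases huv with ⟨hd, h0⟩ | h1
    · have := (hdvd _).2 hd
      rwa [pow_sub x h0, pow_one] at this
    · exact mul_mem_secUnitComp ((hdvd _).2 (by rw [h1]; exact one_dvd _))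
        (inv_mem G (by simpa using (hdvd 1).2 (by rw [h1])))
  have hua : m ∣ u * p ^ a := by
    rw [hmeq, mul_comm u]; exact Nat.mul_dvd_mul_left _ ((Nat.modEq_zero_iff_dvd).1 hu.2)
  have hvm : m ∣ v * m' := by
    rw [hmeq]; exact Nat.mul_dvd_mul_right ((Nat.modEq_zero_iff_dvd).1 hv.1) _
  obtain ⟨yp, hyp, hypn⟩ := hP (x ^ u) ⟨a, by rw [← pow_mul]; exact (hdvd _).2 hua⟩
  -- the prime-to-`p` part
  have hm'k : IsUnit (m' : k) := isUnit_iff_ne_zero.2 fun h => hm' ((CharP.cast_eq_zero_iff k p m').1 h)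
  haveI : IsAlgClosed (ResidueField k) :=
    IsAlgClosed.of_ringEquiv k _ (RingEquiv.ofBijective (residue k) ⟨(residue k).injective, residue_surjective⟩)
  obtain ⟨w, hw, hwp⟩ := exists_root_mem_secUnitComp G m' hm'k ((x ^ v) ^ m') (by
    rw [← pow_mul]; exact (hdvd _).2 hvm)
  refine ⟨yp * (x ^ v * w⁻¹), ?_, fun n => ⟨fun hn => ?_, fun hn => ?_⟩⟩
  · have e : yp * (x ^ v * w⁻¹) * x⁻¹ = (yp * (x ^ u)⁻¹) * w⁻¹ * (x ^ (u + v) * x⁻¹) := by
      rw [pow_add]; exact rearrange _ _ _ _ _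
    rw [e]
    exact mul_mem_secUnitComp (mul_mem_secUnitComp hyp (inv_mem G hw)) hsum
  · have h1 : (yp * (x ^ v * w⁻¹) * x⁻¹) ^ n ∈ SGA7.secUnitComp k G := by
      refine pow_mem G ?_ n
      have e : yp * (x ^ v * w⁻¹) * x⁻¹ = (yp * (x ^ u)⁻¹) * w⁻¹ * (x ^ (u + v) * x⁻¹) := by
        rw [pow_add]; exact rearrange _ _ _ _ _
      rw [e]
      exact mul_mem_secUnitComp (mul_mem_secUnitComp hyp (inv_mem G hw)) hsum
    rw [_root_.mul_pow, hn, _root_.one_mul, inv_pow] at h1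
    have := inv_mem G h1
    rwa [inv_inv] at this
  · have hd := (hdvd n).1 hn
    have h1 : yp ^ n = 1 := (hypn n).2 (by rw [← pow_mul]; exact (hdvd _).2 (dvd_mul_of_dvd_right hd u))
    have h2 : (x ^ v * w⁻¹) ^ n = 1 := by
      obtain ⟨d, rfl⟩ := (dvd_trans ⟨p ^ a, by rw [hmeq]; ring⟩ hd : m' ∣ n)
      rw [pow_mul, _root_.mul_pow, inv_pow, hwp, mul_inv_cancel, one_pow]
    rw [_root_.mul_pow, h1, h2, _root_.one_mul]

end Groth.Agent.NeronA.ComponentLift
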