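import Mathlib

/-!
A smooth morphism which is etale on a dense open is etale.
-/

set_option autoImplicit false

universe u

open CategoryTheory AlgebraicGeometry

namespace Groth.Agent.NeronA.EtaleDense

theorem dim_eq_zero {R S : Type u} [CommRing R] [CommRing S] [Algebra R S] [Nontrivial S] (n : ℕ)
    [Algebra.IsStandardSmoothOfRelativeDimension n R S] [Algebra.Etale R S] : n = 0 := by
  haveI : Algebra.IsStandardSmoothOfRelativeDimension 0 R S :=
    Algebra.Etale.iff_isStandardSmoothOfRelativeDimension_zero.1 ‹_›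
  exact_mod_cast (Algebra.IsStandardSmoothOfRelativeDimension.rank_kaehlerDifferential (R := R) (S := S) n).symm.trans
    (Algebra.IsStandardSmoothOfRelativeDimension.rank_kaehlerDifferential (R := R) (S := S) 0)

theorem etale_of_smooth_of_dense {X Y : Scheme.{u}} (f : X ⟶ Y) [Smooth f] (O : X.Opens)
    (hO : Dense (O : Set X)) [Etale (O.ι ≫ f)] : Etale f := by
  rw [Etale.iff_smoothOfRelativeDimension_zero]
  refine ⟨fun x => ?_⟩
  obtain ⟨U, hU, V, hV, hx, e, hf⟩ := Smooth.exists_isStandardSmooth f x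
  refine ⟨U, hU, V, hV, hx, e, ?_⟩
  algebraize [(f.appLE U V e).hom]
  obtain ⟨ι, σ, _, _, ⟨P⟩⟩ := ‹Algebra.IsStandardSmooth Γ(Y, U) Γ(X, V)›.out
  have hn : Algebra.IsStandardSmoothOfRelativeDimension P.dimension Γ(Y, U) Γ(X, V) :=
    ⟨ι, σ, inferInstance, inferInstance, P, rfl⟩
  obtain ⟨w, hwV, hwO⟩ := hO.inter_open_nonempty V V.2 ⟨x, hx⟩
  obtain ⟨b, hbO, hwb⟩ := hV.exists_basicOpen_le (V := O) ⟨w, hwO⟩ hwV
  let D := X.basicOpen b
  have hD : IsAffineOpen D := hV.basicOpen b
  have eD : D ≤ f ⁻¹ᵁ U := (X.basicOpen_le b).trans e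
  let alg2 : Algebra Γ(Y, U) Γ(X, D) := (f.appLE U D eD).hom.toAlgebra
  haveI := hV.isLocalization_basicOpen b
  haveI : IsScalarTower Γ(Y, U) Γ(X, V) Γ(X, D) := IsScalarTower.of_algebraMap_eq fun r => by
    show (f.appLE U D eD).hom r = (X.presheaf.map (homOfLE (X.basicOpen_le b)).op).hom ((f.appLE U V e).hom r)
    rw [← CommRingCat.comp_apply, Scheme.Hom.appLE_map]
  haveI : Nontrivial Γ(X, D) :=
    (hD.primeIdealOf ⟨w, hwb⟩).nontrivial
  haveI : Algebra.IsStandardSmoothOfRelativeDimension 0 Γ(X, V) Γ(X, D) :=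
    Algebra.IsStandardSmoothOfRelativeDimension.localization_away b
  haveI : Algebra.IsStandardSmoothOfRelativeDimension P.dimension Γ(Y, U) Γ(X, D) := by
    have := Algebra.IsStandardSmoothOfRelativeDimension.trans P.dimension 0 Γ(Y, U) Γ(X, V) Γ(X, D)
    simpa using this
  haveI : Algebra.Etale Γ(Y, U) Γ(X, D) := by
    rw [← RingHom.etale_algebraMap]
    show RingHom.Etale (f.appLE U D eD).hom
    rw [← HasRingHomProperty.Spec_iff (P := @Etale)]
    have : Etale (Spec.map (f.appLE U D eD) ≫ hU.fromSpec) := by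
      rw [IsAffineOpen.SpecMap_appLE_fromSpec f hU hD eD,
        ← IsAffineOpen.isoSpec_inv_ι, Category.assoc,
        ← Scheme.homOfLE_ι X hbO, Category.assoc]
      infer_instance
    exact MorphismProperty.of_postcomp (W := @Etale) (W' := @Etale) _ hU.fromSpec inferInstance this
  have h0 := dim_eq_zero (R := Γ(Y, U)) (S := Γ(X, D)) P.dimension
  rw [h0] at hn
  exact hn

end Groth.Agent.NeronA.EtaleDense
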