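import Groth.Agent.NeronA.NormalSmooth
import Groth.Agent.IntBC.Normal
import Groth.Agent.S2102
import Mathlib

/-!
The relative normalization of a normal Noetherian scheme in an etale scheme over it is finite and normal.
-/

set_option autoImplicit false
set_option linter.style.haveILetI false
set_option backward.isDefEq.respectTransparency.types false

universe u

open CategoryTheory Limits AlgebraicGeometry TopologicalSpace

namespace Groth.Agent.NeronA.EtaleNormalization

section Algebra

theorem idemSep_pi {ι : Type u} [Finite ι] (D : ι → Type u) [∀ i, CommRing (D i)] [∀ i, IsDomain (D i)] :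
    IntBC.IdemSep (∀ i, D i) := by
  classical
  intro a b hab
  refine ⟨fun i => if a i = 0 then 1 else 0, ?_, ?_, ?_⟩
  · funext i
    show (if a i = 0 then (1 : D i) else 0) * (if a i = 0 then 1 else 0) = _
    split_ifs <;> simp
  · funext i
    show (if a i = 0 then (1 : D i) else 0) * a i = 0
    split_ifs with h <;> simp [h]
  · funext i
    show (if a i = 0 then (1 : D i) else 0) * b i = b i
    split_ifs with h
    · simp
    · rw [zero_mul, ((mul_eq_zero.1 (congrFun hab i)).resolve_left h)]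

theorem isNormalRing_pi {ι : Type u} [Finite ι] (D : ι → Type u) [∀ i, CommRing (D i)] [∀ i, IsDomain (D i)]
    [∀ i, IsIntegrallyClosed (D i)] : EGA4.IsNormalRing (∀ i, D i) := by
  classical
  refine IntBC.isNormalRing_of_cover fun Q hQ => ?_
  have : ∃ i, (Pi.single i 1 : ∀ a, D a) ∉ Q := by
    by_contra h
    push Not at h
    refine hQ.ne_top (top_le_iff.1 ?_)
    rw [← Ideal.span_single_eq_top D, Ideal.span_le]
    rintro _ ⟨i, rfl⟩
    exact h i
  obtain ⟨i, hi⟩ := this
  letI : Algebra (∀ a, D a) (D i) := (Pi.evalRingHom D i).toAlgebra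
  have he : IsIdempotentElem (Pi.single i 1 : ∀ a, D a) := by simp [IsIdempotentElem, ← Pi.single_mul_left]
  refine ⟨D i, inferInstance, inferInstance, Submonoid.powers (Pi.single i 1 : ∀ a, D a), ?_, ?_, ?_⟩
  · exact IsLocalization.away_of_isIdempotentElem he (RingHom.ker_evalRingHom _ _)
      ((Pi.evalRingHom D i).surjective)
  · exact (Ideal.disjoint_powers_iff_notMem _ (hQ.isRadical)).2 hi
  · intro p _
    exact ⟨IsLocalization.isDomain_of_le_nonZeroDivisors (R := D i) _ p.primeCompl_le_nonZeroDivisors,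
      isIntegrallyClosed_of_isLocalization _ p.primeCompl p.primeCompl_le_nonZeroDivisors⟩

/-- the integral closure in a finite product of integrally closed domains is normal -/
theorem isNormalRing_integralClosure {ι : Type u} [Finite ι] (D : ι → Type u) [∀ i, CommRing (D i)]
    [∀ i, IsDomain (D i)] [∀ i, IsIntegrallyClosed (D i)] {A B : Type u} [CommRing A] [CommRing B]
    [Algebra A B] (e : B ≃+* ∀ i, D i) : EGA4.IsNormalRing (integralClosure A B) := by
  let f : integralClosure A B →+* ∀ i, D i := e.toRingHom.comp (integralClosure A B).val.toRingHom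
  have hf : Function.Injective f := e.injective.comp Subtype.val_injective
  obtain ⟨h1, h2⟩ := IntBC.of_integrallyClosed_sub f hf (isNormalRing_pi D) (idemSep_pi D) fun t ht => by
    obtain ⟨b, rfl⟩ := e.surjective t
    have hb : _root_.IsIntegral (integralClosure A B) b := by
      obtain ⟨p, hp, hp0⟩ := ht
      refine ⟨p, hp, e.injective ?_⟩
      rw [map_zero, ← hp0]
      exact Polynomial.hom_eval₂ p _ e.toRingHom b
    exact ⟨⟨b, isIntegral_trans (R := A) b hb⟩, rfl⟩
  exact IntBC.isNormalRing_of h1 h2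

theorem finite_separable_of_unramified {A K L : Type u} [CommRing A] [Field K] [Field L] [Algebra A K]
    [Algebra A L] [Algebra K L] [IsScalarTower A K L] [Algebra.FormallyUnramified A L]
    [Algebra.EssFiniteType A L] : Module.Finite K L ∧ Algebra.IsSeparable K L := by
  haveI : Algebra.FormallyUnramified K L := Algebra.FormallyUnramified.of_restrictScalars A K L
  haveI : Algebra.EssFiniteType K L := Algebra.EssFiniteType.of_comp A K L
  exact ⟨Algebra.FormallyUnramified.finite_of_free K L, Algebra.FormallyUnramified.isSeparable K L⟩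

end Algebra

variable {X S : Scheme.{u}}

/-- the sections of a noetherian normal scheme split into the sections of its components -/
theorem exists_components (hX : Pi1.IsNormalScheme X) [IsLocallyNoetherian X] [CompactSpace X] :
    ∃ (ι : Type u) (_ : Finite ι) (W : ι → X.Opens), (∀ i, IsIntegral (W i).toScheme) ∧
      (⨆ i, W i) = ⊤ ∧ Pairwise fun i j => W i ⊓ W j = ⊥ := by
  classical
  choose W hxW hW hWc using fun x : X => NormalSmooth.exists_component hX x
  obtain ⟨t, ht⟩ := isCompact_univ.elim_finite_subcover (fun x => (W x : Set X)) (fun x => (W x).2)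
    (fun x _ => Set.mem_iUnion.2 ⟨x, hxW x⟩)
  let R : Set X.Opens := W '' (t : Set X)
  have hR : R.Finite := (t.finite_toSet).image W
  haveI := hR.to_subtype
  refine ⟨R, inferInstance, fun i => i.1, fun ⟨_, x, _, rfl⟩ => hW x, ?_, ?_⟩
  · refine top_le_iff.1 fun y _ => ?_
    obtain ⟨x, hx⟩ := Set.mem_iUnion.1 (ht (Set.mem_univ y))
    obtain ⟨hxt, hyx⟩ := Set.mem_iUnion.1 hx
    exact Opens.mem_iSup.2 ⟨⟨W x, x, hxt, rfl⟩, hyx⟩
  · intro i j hne
    obtain ⟨_, x, _, rfl⟩ := i
    obtain ⟨_, y, _, rfl⟩ := j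
    refine le_bot_iff.1 fun z hz => (hne (Subtype.ext ?_)).elim
    obtain ⟨hzx, hzy⟩ := hz
    have key : ∀ a b : X, z ∈ W a → z ∈ W b → W a ≤ W b := by
      intro a b ha hb w hw
      haveI := hW a
      have h1 : (W a).ι (genericPoint (W a).toScheme) ⤳ z :=
        (genericPoint_specializes (α := (W a).toScheme) ⟨z, ha⟩).map (W a).ι.continuous
      have h2 : (W a).ι (genericPoint (W a).toScheme) ⤳ w :=
        (genericPoint_specializes (α := (W a).toScheme) ⟨w, hw⟩).map (W a).ι.continuous
      exact h2.mem_closed (hWc b) (h1.mem_open (W b).2 hb)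
    exact le_antisymm (key x y hzx hzy) (key y x hzy hzx)

theorem pi_bijective {ι : Type u} (W : ι → X.Opens) (O : X.Opens) (hle : ∀ i, W i ≤ O) (htop : O ≤ ⨆ i, W i)
    (hd : Pairwise fun i j => W i ⊓ W j = ⊥) :
    Function.Bijective (RingHom.pi fun i => (X.presheaf.map (homOfLE (hle i)).op).hom) := by
  constructor
  · intro a b h
    refine X.IsSheaf.section_ext fun y hy => ?_
    obtain ⟨i, hi⟩ := Opens.mem_iSup.1 (htop hy)
    exact ⟨W i, hle i, hi, congrFun h i⟩
  · intro c
    have hc : TopCat.Presheaf.IsCompatible X.sheaf.1 W c := by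
      intro i j
      rcases eq_or_ne i j with rfl | hij
      · rfl
      · haveI : Subsingleton Γ(X, W i ⊓ W j) := by rw [hd hij]; infer_instance
        exact Subsingleton.elim (α := Γ(X, W i ⊓ W j)) _ _
    obtain ⟨s, hs, -⟩ := X.sheaf.existsUnique_gluing' W O (fun i => homOfLE (hle i)) htop c hc
    exact ⟨s, funext hs⟩

variable (f : X ⟶ S) [QuasiCompact f] [QuasiSeparated f]

theorem isNormalScheme_normalization (hX : Pi1.IsNormalScheme X) [IsLocallyNoetherian X] :
    Pi1.IsNormalScheme f.normalization := by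
  intro y
  obtain ⟨U, hU, hyU, -⟩ := exists_isAffineOpen_mem_and_subset (x := f.fromNormalization y) (U := (⊤ : S.Opens)) trivial
  letI := (f.app U).hom.toAlgebra
  have hW : IsAffineOpen (f.fromNormalization ⁻¹ᵁ U) := hU.preimage _
  haveI : CompactSpace (f ⁻¹ᵁ U).toScheme := isCompact_iff_compactSpace.mp (f.isCompact_preimage hU.isCompact)
  haveI : IsLocallyNoetherian (f ⁻¹ᵁ U).toScheme := isLocallyNoetherian_of_isOpenImmersion (f ⁻¹ᵁ U).ι
  obtain ⟨ι, _, W, hW', htop, hd⟩ := exists_components (NormalSmooth.isNormalScheme_opens hX (f ⁻¹ᵁ U))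
  let V : ι → X.Opens := fun i => (f ⁻¹ᵁ U).ι ''ᵁ W i
  have hle : ∀ i, V i ≤ f ⁻¹ᵁ U := fun i => by rintro _ ⟨w, -, rfl⟩; exact w.2
  have hbij := pi_bijective V (f ⁻¹ᵁ U) hle (fun x hx => by
    have : (⟨x, hx⟩ : (f ⁻¹ᵁ U).toScheme) ∈ ⨆ i, W i := htop ▸ trivial
    obtain ⟨i, hi⟩ := Opens.mem_iSup.1 this
    exact Opens.mem_iSup.2 ⟨i, ⟨x, hx⟩, hi, rfl⟩) (fun i j hij => le_bot_iff.1 (by
    rintro _ ⟨⟨a, ha, rfl⟩, ⟨b, hb, hab⟩⟩
    obtain rfl : b = a := (f ⁻¹ᵁ U).ι.isOpenEmbedding.injective hab
    exact (hd hij).le ⟨ha, hb⟩))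
  haveI : ∀ i, IsIntegral (V i).toScheme := fun i => by
    haveI := hW' i
    haveI : Nonempty (V i).toScheme := ⟨((f ⁻¹ᵁ U).ι.isoImage (W i)).hom (genericPoint (W i).toScheme)⟩
    exact isIntegral_of_isOpenImmersion ((f ⁻¹ᵁ U).ι.isoImage (W i)).inv
  let D : ι → Type u := fun i => Γ((V i).toScheme, ⊤)
  haveI : ∀ i, IsDomain (D i) := fun i => inferInstanceAs (IsDomain Γ((V i).toScheme, ⊤))
  haveI : ∀ i, IsIntegrallyClosed (D i) := fun i =>
    Groth.Agent.S2102.result _ (NormalSmooth.isNormalScheme_opens hX (V i))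
  let e : Γ(X, f ⁻¹ᵁ U) ≃+* ∀ i, D i := (RingEquiv.ofBijective _ hbij).trans
    (RingEquiv.piCongrRight fun i => (V i).topIso.commRingCatIsoToRingEquiv.symm)
  have hC : EGA4.IsNormalRing Γ(f.normalization, f.fromNormalization ⁻¹ᵁ U) :=
    FlatLoc6.isNormalRing_of_ringEquiv (f.normalizationObjIso hU).commRingCatIsoToRingEquiv.symm
      (isNormalRing_integralClosure D e)
  let q := hW.primeIdealOf ⟨y, hyU⟩
  letI := TopCat.Presheaf.algebra_section_stalk f.normalization.presheaf (⟨y, hyU⟩ : f.fromNormalization ⁻¹ᵁ U)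
  haveI : IsLocalization.AtPrime (f.normalization.presheaf.stalk y) q.asIdeal :=
    hW.isLocalization_stalk ⟨y, hyU⟩
  let e' := (IsLocalization.algEquiv q.asIdeal.primeCompl (f.normalization.presheaf.stalk y)
    (Localization.AtPrime q.asIdeal)).toRingEquiv
  obtain ⟨_, _⟩ := hC q.asIdeal
  exact ⟨e'.toMulEquiv.isDomain, IsIntegrallyClosed.of_equiv (R := Localization.AtPrime q.asIdeal) e'.symm⟩

theorem isFinite_fromNormalization [IsNoetherian S] (hS : Pi1.IsNormalScheme S) [Etale f] :
    IsFinite f.fromNormalization := by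
  have hX := NormalSmooth.isNormalScheme_of_smooth hS f
  haveI : IsLocallyNoetherian X := LocallyOfFiniteType.isLocallyNoetherian f
  haveI := HTopAwn.isReduced_of_isNormal hX
  choose W hxW hW _hWc using fun s : S => NormalSmooth.exists_component hS s
  choose U hU hxU hUW using fun s : S => exists_isAffineOpen_mem_and_subset (x := s) (U := W s) (hxW s)
  have hcov : (⨆ s, U s) = ⊤ := top_le_iff.1 fun s _ => Opens.mem_iSup.2 ⟨s, hxU s⟩
  rw [IsZariskiLocalAtTarget.iff_of_iSup_eq_top (P := @IsFinite) (fun s => U s) hcov]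
  intro s
  haveI : IsAffine (U s).toScheme := hU s
  suffices h : (f.fromNormalization.app (U s)).hom.Finite by
    rw [HasAffineProperty.iff_of_isAffine (P := @IsFinite)]
    refine ⟨isAffine_of_isAffineHom (f.fromNormalization ∣_ U s), ?_⟩
    have h' : ∀ V : S.Opens, V = U s → (f.fromNormalization.app V).hom.Finite := by rintro V rfl; exact h
    rw [morphismRestrict_appTop]
    refine RingHom.Finite.comp (RingHom.Finite.of_surjective _ ?_) (h' _ (U s).ι_image_top)
    exact (f.normalization.presheaf.mapIso (eqToIso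
      (image_morphismRestrict_preimage f.fromNormalization (U s) ⊤)).op).commRingCatIsoToRingEquiv.surjective
  letI := (f.app (U s)).hom.toAlgebra
  suffices h : Module.Finite Γ(S, U s) (integralClosure Γ(S, U s) Γ(X, f ⁻¹ᵁ U s)) by
    rw [Scheme.Hom.fromNormalization_app f (hU s), CommRingCat.hom_comp]
    exact RingHom.Finite.comp
      (RingHom.Finite.of_surjective _ (ConcreteCategory.bijective_of_isIso (f.normalizationObjIso (hU s)).inv).2)
      ((RingHom.finite_algebraMap).mpr h)
  haveI : IsNoetherianRing Γ(S, U s) := IsLocallyNoetherian.component_noetherian ⟨U s, hU s⟩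
  haveI := hW s
  haveI : Nonempty (U s).toScheme := ⟨⟨s, hxU s⟩⟩
  haveI : IsIntegral (U s).toScheme := isIntegral_of_isOpenImmersion (S.homOfLE (hUW s))
  haveI : IsDomain Γ(S, U s) :=
    ((U s).topIso.commRingCatIsoToRingEquiv.toMulEquiv.symm).isDomain
  haveI : IsIntegrallyClosed Γ(S, U s) := by
    haveI := Groth.Agent.S2102.result _ (NormalSmooth.isNormalScheme_opens hS (U s))
    exact IsIntegrallyClosed.of_equiv (U s).topIso.commRingCatIsoToRingEquiv
  obtain ⟨t, htfin, e⟩ := isCompact_iff_finite_and_eq_biUnion_affineOpens.mp (f.isCompact_preimage (hU s).isCompact)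
  choose W' hxW' hW' _hW'c using fun x : X => NormalSmooth.exists_component hX x
  haveI : CompactSpace (f ⁻¹ᵁ U s).toScheme := isCompact_iff_compactSpace.mp (f.isCompact_preimage (hU s).isCompact)
  haveI : IsLocallyNoetherian (f ⁻¹ᵁ U s).toScheme := isLocallyNoetherian_of_isOpenImmersion (f ⁻¹ᵁ U s).ι
  obtain ⟨ι, _, C, hC, htop, hd⟩ := exists_components (NormalSmooth.isNormalScheme_opens hX (f ⁻¹ᵁ U s))
  let V : ι → X.Opens := fun i => (f ⁻¹ᵁ U s).ι ''ᵁ C i
  have hle : ∀ i, V i ≤ f ⁻¹ᵁ U s := fun i => by rintro _ ⟨w, -, rfl⟩; exact w.2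
  haveI : ∀ i, IsIntegral (V i).toScheme := fun i => by
    haveI := hC i
    haveI : Nonempty (V i).toScheme := ⟨((f ⁻¹ᵁ U s).ι.isoImage (C i)).hom (genericPoint (C i).toScheme)⟩
    exact isIntegral_of_isOpenImmersion ((f ⁻¹ᵁ U s).ι.isoImage (C i)).inv
  choose P hP hxP hPV using fun i => exists_isAffineOpen_mem_and_subset
    (x := (V i).ι (genericPoint (V i).toScheme)) (U := V i) (genericPoint (V i).toScheme).2
  haveI : ∀ i, Nonempty (P i).toScheme := fun i => ⟨⟨_, hxP i⟩⟩
  haveI : ∀ i, IsIntegral (P i).toScheme := fun i => isIntegral_of_isOpenImmersion (X.homOfLE (hPV i))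
  haveI : ∀ i, IsDomain Γ(X, P i) := fun i => (P i).topIso.commRingCatIsoToRingEquiv.toMulEquiv.symm.isDomain
  have eP : ∀ i, P i ≤ f ⁻¹ᵁ U s := fun i => (hPV i).trans (hle i)
  letI : ∀ i, Algebra Γ(S, U s) Γ(X, P i) := fun i => (f.appLE (U s) (P i) (eP i)).hom.toAlgebra
  haveI : ∀ i, Algebra.Etale Γ(S, U s) Γ(X, P i) := fun i => f.etale_appLE (hU s) (hP i) (eP i)
  haveI : ∀ i, Algebra.EssFiniteType Γ(S, U s) (FractionRing Γ(X, P i)) := fun i =>
    haveI : Algebra.EssFiniteType Γ(X, P i) (FractionRing Γ(X, P i)) :=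
      Algebra.EssFiniteType.of_isLocalization _ (nonZeroDivisors _)
    Algebra.EssFiniteType.comp _ Γ(X, P i) _
  haveI : ∀ i, Algebra.FormallyUnramified Γ(S, U s) (FractionRing Γ(X, P i)) := fun i =>
    haveI : Algebra.FormallyUnramified Γ(X, P i) (FractionRing Γ(X, P i)) :=
      Algebra.FormallyUnramified.of_isLocalization (nonZeroDivisors Γ(X, P i))
    Algebra.FormallyUnramified.comp _ Γ(X, P i) _
  have hinj : ∀ i, Function.Injective (algebraMap Γ(S, U s) (FractionRing Γ(X, P i))) := fun i => by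
    haveI : Nontrivial Γ(X, P i) := inferInstance
    haveI : Module.Flat Γ(S, U s) (FractionRing Γ(X, P i)) := Module.Flat.trans _ Γ(X, P i) _
    exact FaithfulSMul.algebraMap_injective Γ(S, U s) (FractionRing Γ(X, P i))
  haveI : ∀ i, Module.Finite Γ(S, U s) (integralClosure Γ(S, U s) (FractionRing Γ(X, P i))) := fun i => by
    let K := FractionRing Γ(S, U s)
    letI : Algebra K (FractionRing Γ(X, P i)) := (IsFractionRing.lift (hinj i)).toAlgebra
    haveI : IsScalarTower Γ(S, U s) K (FractionRing Γ(X, P i)) :=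
      IsScalarTower.of_algebraMap_eq fun a => (IsFractionRing.lift_algebraMap (hinj i) a).symm
    obtain ⟨_, _⟩ := finite_separable_of_unramified (A := Γ(S, U s)) (K := K) (L := FractionRing Γ(X, P i))
    exact IsIntegralClosure.finite Γ(S, U s) K (FractionRing Γ(X, P i)) _
  haveI : IsNoetherian Γ(S, U s) ((i : ι) → integralClosure Γ(S, U s) (FractionRing Γ(X, P i))) :=
    isNoetherian_of_isNoetherianRing_of_finite _ _
  let res : ∀ i, Γ(X, f ⁻¹ᵁ U s) →ₐ[Γ(S, U s)] FractionRing Γ(X, P i) := fun i =>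
    (IsScalarTower.toAlgHom _ Γ(X, P i) _).comp
      { (X.presheaf.map (homOfLE (eP i)).op).hom with commutes' := fun a => rfl }
  let L : integralClosure Γ(S, U s) Γ(X, f ⁻¹ᵁ U s) →ₗ[Γ(S, U s)]
      ((i : ι) → integralClosure Γ(S, U s) (FractionRing Γ(X, P i))) :=
    LinearMap.pi fun i => ((res i).comp (integralClosure Γ(S, U s) Γ(X, f ⁻¹ᵁ U s)).val).toLinearMap.codRestrict
      (integralClosure Γ(S, U s) (FractionRing Γ(X, P i))).toSubmodule fun z => z.2.map (res i)
  refine Module.Finite.of_injective L fun a b h => Subtype.ext ?_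
  have hV : ∀ i, X.presheaf.map (homOfLE (hle i)).op a.1 = X.presheaf.map (homOfLE (hle i)).op b.1 := fun i => by
    have h1 : X.presheaf.map (homOfLE (eP i)).op a.1 = X.presheaf.map (homOfLE (eP i)).op b.1 :=
      IsFractionRing.injective Γ(X, P i) (FractionRing Γ(X, P i)) (congrArg Subtype.val (congrFun h i))
    rw [← sub_eq_zero]
    set c := X.presheaf.map (homOfLE (hle i)).op a.1 - X.presheaf.map (homOfLE (hle i)).op b.1
    have hc : X.presheaf.map (homOfLE (hPV i)).op c = 0 := by
      rw [map_sub, sub_eq_zero, ← CommRingCat.comp_apply, ← CommRingCat.comp_apply, ← Functor.map_comp]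
      exact h1
    refine (AlgebraicGeometry.basicOpen_eq_bot_iff c).1 (le_bot_iff.1 fun w hw => ?_)
    have hwV : w ∈ V i := X.basicOpen_le c hw
    have hgen : (V i).ι (genericPoint (V i).toScheme) ∈ X.basicOpen c :=
      ((genericPoint_specializes (α := (V i).toScheme) ⟨w, hwV⟩).map (V i).ι.continuous).mem_open
        (X.basicOpen c).2 hw
    have : (V i).ι (genericPoint (V i).toScheme) ∈ X.basicOpen (X.presheaf.map (homOfLE (hPV i)).op c) := by
      rw [Scheme.basicOpen_res]; exact ⟨hxP i, hgen⟩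
    rw [hc, Scheme.basicOpen_zero] at this
    exact this
  refine X.IsSheaf.section_ext fun y hy => ?_
  have : (⟨y, hy⟩ : (f ⁻¹ᵁ U s).toScheme) ∈ ⨆ i, C i := htop ▸ trivial
  obtain ⟨i, hi⟩ := Opens.mem_iSup.1 this
  exact ⟨V i, hle i, ⟨_, hi, rfl⟩, hV i⟩

end Groth.Agent.NeronA.EtaleNormalization
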