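import Groth.Agent.SmoothSecLib.Basic
import Groth.Agent.AlgSpDec.SchDenseFacts
import Groth.Agent.Neron6.Over
import Mathlib.RingTheory.Jacobson.Ring
import Mathlib

/-!
Smooth morphisms have sections over etale neighbourhoods through prescribed points whose residue
field is separable over that of the image.
-/

set_option autoImplicit false
set_option backward.isDefEq.respectTransparency false
set_option backward.isDefEq.respectTransparency.types false

universe u

open CategoryTheory Limits AlgebraicGeometry TensorProduct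

namespace Groth.Agent.NeronA.EtalePoint

theorem exists_etale_section_of_point (R A : Type u) [CommRing R] [CommRing A] [Algebra R A]
    [Algebra.IsStandardSmooth R A] (p : Ideal R) [p.IsPrime]
    (a : A →ₐ[R] SeparableClosure p.ResidueField) :
    ∃ (R' : Type u) (_ : CommRing R') (_ : Algebra R R'), Algebra.Etale R R' ∧
      ∃ P : Ideal R', P.IsPrime ∧ ∃ α : A →ₐ[R] R',
        P.comap (algebraMap R R') = p ∧ P.comap α = RingHom.ker a := by
  classical
  let k := p.ResidueField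
  let K := SeparableClosure k
  obtain ⟨ι, σ, _, _, ⟨P⟩⟩ := ‹Algebra.IsStandardSmooth R A›.out
  have : Algebra.IsStandardSmoothOfRelativeDimension P.dimension R A :=
    ⟨ι, σ, inferInstance, inferInstance, P, rfl⟩
  obtain ⟨g, hg⟩ := Algebra.IsStandardSmoothOfRelativeDimension.exists_etale_mvPolynomial
    (n := P.dimension) R A
  let M := MvPolynomial (Fin P.dimension) R
  let c : Fin P.dimension → K := fun i => a (g (MvPolynomial.X i))
  let L : IntermediateField k K := IntermediateField.adjoin k (Set.range c)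
  have : Module.Finite k L := IntermediateField.finiteDimensional_adjoin fun x _ =>
    (Algebra.IsAlgebraic.isAlgebraic x).isIntegral
  obtain ⟨R₁, _, _, _, ψ, hψ⟩ := S9435.result R p L
  -- clear the denominators
  have hfrac : ∀ i, ∃ y z : R₁, ψ z ≠ 0 ∧ (ψ y : K) = c i * (ψ z : K) := by
    intro i
    have hmem : (⟨c i, IntermediateField.subset_adjoin k _ ⟨i, rfl⟩⟩ : L) ∈
        Subfield.closure (Set.range ψ) := hψ ▸ trivial
    obtain ⟨y, hy, z, hz, hyz⟩ := Subfield.mem_closure_iff.1 hmem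
    rw [← ψ.coe_toRingHom, ← RingHom.coe_range, Subring.closure_eq] at hy hz
    obtain ⟨y, rfl⟩ := hy
    obtain ⟨z, rfl⟩ := hz
    by_cases hz0 : ψ z = 0
    · refine ⟨0, 1, by simp, ?_⟩
      have : (⟨c i, IntermediateField.subset_adjoin k _ ⟨i, rfl⟩⟩ : L) = 0 := by
        rw [← hyz]; simp [hz0]
      have h0 : c i = 0 := congrArg Subtype.val this
      simp [h0]
    · refine ⟨y, z, hz0, ?_⟩
      have h1 : ψ y = (⟨c i, IntermediateField.subset_adjoin k _ ⟨i, rfl⟩⟩ : L) * ψ z :=
        (div_eq_iff hz0).1 hyz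
      exact congrArg Subtype.val h1
  choose y z hz hyz using hfrac
  let t : R₁ := ∏ i, z i
  have ht : ψ t ≠ 0 := by
    rw [map_prod]
    exact Finset.prod_ne_zero_iff.2 fun i _ => hz i
  let R₂ := Localization.Away t
  have hunit : ∀ w : Submonoid.powers t, IsUnit ((L.val.restrictScalars R).comp ψ w) := by
    rintro ⟨_, n, rfl⟩
    rw [map_pow]
    refine IsUnit.pow _ (IsUnit.mk0 _ fun h => ht ?_)
    exact Subtype.ext h
  let ψ₂ : R₂ →ₐ[R] K := IsLocalization.liftAlgHom hunit
  have hψ₂ : ∀ r : R₁, ψ₂ (algebraMap R₁ R₂ r) = (ψ r : K) := fun r => IsLocalization.lift_eq _ r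
  have hzu : ∀ i, IsUnit (algebraMap R₁ R₂ (z i)) := fun i =>
    isUnit_of_dvd_unit (map_dvd _ (Finset.dvd_prod_of_mem z (Finset.mem_univ i)))
      (IsLocalization.map_units R₂ (⟨t, Submonoid.mem_powers t⟩ : Submonoid.powers t))
  let b : Fin P.dimension → R₂ := fun i => algebraMap R₁ R₂ (y i) * ↑(hzu i).unit⁻¹
  have hb : ∀ i, ψ₂ (b i) = c i := by
    intro i
    have h1 : ψ₂ (b i) * ψ₂ (algebraMap R₁ R₂ (z i)) = ψ₂ (algebraMap R₁ R₂ (y i)) := by
      rw [← map_mul, mul_assoc, IsUnit.val_inv_mul, mul_one]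
    rw [hψ₂, hψ₂, hyz] at h1
    exact mul_right_cancel₀ (fun h => hz i (Subtype.ext h)) h1
  -- base change the étale map along the coordinates
  let : Algebra M A := g.toRingHom.toAlgebra
  have : IsScalarTower R M A := IsScalarTower.of_algebraMap_eq fun r => (g.commutes r).symm
  have : Algebra.Etale M A := hg
  let β : M →ₐ[R] R₂ := MvPolynomial.aeval b
  let : Algebra M R₂ := β.toRingHom.toAlgebra
  have : IsScalarTower R M R₂ := IsScalarTower.of_algebraMap_eq fun r => (β.commutes r).symm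
  let : Algebra M K := (ψ₂.comp β).toRingHom.toAlgebra
  have : IsScalarTower R M K := IsScalarTower.of_algebraMap_eq fun r => ((ψ₂.comp β).commutes r).symm
  have : Algebra.Etale R R₁ := ‹_›
  have : Algebra.Etale R₁ R₂ := Algebra.Etale.of_isLocalizationAway t
  have : Algebra.Etale R R₂ := Algebra.Etale.comp R R₁ R₂
  let R₃ := R₂ ⊗[M] A
  have : Algebra.Etale R R₃ := Algebra.Etale.comp R R₂ R₃
  have hga : a.comp g = ψ₂.comp β := MvPolynomial.algHom_ext fun i => by
    show c i = ψ₂ (β (MvPolynomial.X i))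
    rw [show β (MvPolynomial.X i) = b i from MvPolynomial.aeval_X b i, hb]
  let χ : R₃ →ₐ[M] K := Algebra.TensorProduct.lift (S := M)
    ({ ψ₂.toRingHom with commutes' := fun _ => rfl } : R₂ →ₐ[M] K)
    ({ a.toRingHom with commutes' := fun m => AlgHom.congr_fun hga m } : A →ₐ[M] K)
    fun _ _ => Commute.all _ _
  refine ⟨R₃, inferInstance, inferInstance, inferInstance, RingHom.ker χ.toRingHom,
    RingHom.ker_isPrime _,
    (Algebra.TensorProduct.includeRight : A →ₐ[M] R₃).restrictScalars R, ?_, ?_⟩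
  swap
  · ext z
    rw [Ideal.mem_comap, RingHom.mem_ker, RingHom.mem_ker]
    show χ ((1 : R₂) ⊗ₜ[M] z) = 0 ↔ a z = 0
    rw [Algebra.TensorProduct.lift_tmul, map_one, one_mul]
    rfl
  ext r
  have hr : χ (algebraMap R R₃ r) = algebraMap R K r := by
    exact (χ.restrictScalars R).commutes r
  rw [Ideal.mem_comap, RingHom.mem_ker]
  change χ (algebraMap R R₃ r) = 0 ↔ r ∈ p
  rw [hr, IsScalarTower.algebraMap_apply R k K, map_eq_zero,
    Ideal.algebraMap_residueField_eq_zero]


theorem exists_etale_section_zeroLocus (R A : Type u) [CommRing R] [CommRing A] [Algebra R A]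
    [Algebra.IsStandardSmooth R A] (p : Ideal R) [p.IsPrime] [CharZero p.ResidueField]
    (q₀ : Ideal A) [q₀.IsPrime] (hq₀ : q₀.comap (algebraMap R A) = p) :
    ∃ (R' : Type u) (_ : CommRing R') (_ : Algebra R R'), Algebra.Etale R R' ∧
      ∃ P : Ideal R', P.IsPrime ∧ ∃ α : A →ₐ[R] R', q₀ ≤ P.comap α := by
  let k := p.ResidueField
  let B := k ⊗[R] A
  let i : A →ₐ[R] B := Algebra.TensorProduct.includeRight
  let e : k →ₐ[R] q₀.ResidueField := Ideal.ResidueField.mapₐ p q₀ (Algebra.ofId R A) hq₀.symm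
  let ev : B →ₐ[R] q₀.ResidueField :=
    Algebra.TensorProduct.lift e (IsScalarTower.toAlgHom R A _) fun _ _ => Commute.all _ _
  have hne : q₀.map i ≠ ⊤ := fun h => by
    have h1 : q₀.map i ≤ RingHom.ker ev := Ideal.map_le_iff_le_comap.2 fun z hz => by
      show ev (1 ⊗ₜ z) = 0
      rw [Algebra.TensorProduct.lift_tmul, map_one, one_mul]
      exact Ideal.algebraMap_residueField_eq_zero.2 hz
    exact RingHom.ker_ne_top _ (top_le_iff.1 (h ▸ h1))
  obtain ⟨m, hm, hle⟩ := Ideal.exists_le_maximal _ hne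
  letI : Field (B ⧸ m) := Ideal.Quotient.field m
  haveI : Algebra.FiniteType k (B ⧸ m) := inferInstance
  haveI : Module.Finite k (B ⧸ m) := finite_of_finite_type_of_isJacobsonRing k (B ⧸ m)
  haveI : CharZero k := ‹_›
  let iK : (B ⧸ m) →ₐ[k] SeparableClosure k := IsSepClosed.lift
  let a : A →ₐ[R] SeparableClosure k :=
    (iK.restrictScalars R).comp (((Ideal.Quotient.mkₐ k m).restrictScalars R).comp i)
  obtain ⟨R', _, _, het, P, hP, α, -, hPα⟩ := exists_etale_section_of_point R A p a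
  refine ⟨R', inferInstance, inferInstance, het, P, hP, α, fun z hz => ?_⟩
  rw [hPα, RingHom.mem_ker]
  show iK (Ideal.Quotient.mk m (i z)) = 0
  rw [Ideal.Quotient.eq_zero_iff_mem.2 (hle (Ideal.mem_map_of_mem _ hz)), map_zero]

/-- Over a base of characteristic zero, every nonempty closed subset of a smooth scheme meets the
image of a section over an etale neighbourhood. -/
theorem exists_etale_section_closed {k : Type u} [Field k] [CharZero k] {Z S : Scheme.{u}}
    (σ : S ⟶ Spec (CommRingCat.of k)) (f : Z ⟶ S) [Smooth f] {D : Set Z} (hD : IsClosed D) {z : Z}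
    (hz : z ∈ D) :
    ∃ (S' : Scheme.{u}) (g : S' ⟶ S) (s' : S') (h : S' ⟶ Z), Etale g ∧ h ≫ f = g ∧ h s' ∈ D := by
  obtain ⟨U, hU, V, hV, hx, e, hf⟩ := Smooth.exists_isStandardSmooth f z
  let φ := f.appLE U V e
  let : Algebra Γ(S, U) Γ(Z, V) := φ.hom.toAlgebra
  have : Algebra.IsStandardSmooth Γ(S, U) Γ(Z, V) := hf
  let q := hV.primeIdealOf ⟨z, hx⟩
  let p : Ideal Γ(S, U) := q.asIdeal.comap (algebraMap Γ(S, U) Γ(Z, V))
  let c : k →+* Γ(S, U) :=
    ((U.ι ≫ σ).appTop ≫ U.topIso.hom).hom.comp (Scheme.ΓSpecIso (CommRingCat.of k)).inv.hom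
  haveI : CharZero p.ResidueField :=
    charZero_of_injective_ringHom ((algebraMap Γ(S, U) p.ResidueField).comp c).injective
  obtain ⟨R', _, _, het, P, hP, α, hα⟩ :=
    exists_etale_section_zeroLocus Γ(S, U) Γ(Z, V) p q.asIdeal rfl
  let τ : Spec (CommRingCat.of R') ⟶ Spec Γ(S, U) :=
    Spec.map (CommRingCat.ofHom (algebraMap Γ(S, U) R'))
  have : Etale τ := by
    rw [HasRingHomProperty.Spec_iff (P := @Etale), CommRingCat.hom_ofHom, RingHom.etale_algebraMap]
    exact het
  let h : Spec (CommRingCat.of R') ⟶ Z := Spec.map (CommRingCat.ofHom α.toRingHom) ≫ hV.fromSpec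
  refine ⟨Spec (CommRingCat.of R'), τ ≫ hU.fromSpec, ⟨P, hP⟩, h, inferInstance, ?_, ?_⟩
  · simp only [h]
    rw [Category.assoc, ← IsAffineOpen.SpecMap_appLE_fromSpec f hU hV e, ← Spec.map_comp_assoc]
    congr 2
    ext r
    exact α.commutes r
  · have h1 : q ⤳ (Spec.map (CommRingCat.ofHom α.toRingHom)) ⟨P, hP⟩ :=
      (PrimeSpectrum.le_iff_specializes _ _).1 hα
    have h2 := h1.map hV.fromSpec.continuous
    rw [hV.fromSpec_primeIdealOf] at h2
    exact h2.mem_closed hD hz

/-- Two maps which agree on a schematically dense open agree near each point with equal images. -/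
theorem exists_eq_nhd {Z N : Scheme.{u}} {Z₀ : Z.Opens} (hZ₀ : CInt.IsSchematicallyDense Z₀)
    (f g : Z ⟶ N) (hfg : Z₀.ι ≫ f = Z₀.ι ≫ g) (z : Z) (hz : f z = g z) :
    ∃ W : Z.Opens, z ∈ W ∧ W.ι ≫ f = W.ι ≫ g := by
  obtain ⟨V, hV, hzV, -⟩ := exists_isAffineOpen_mem_and_subset (x := f z) (U := (⊤ : N.Opens)) trivial
  obtain ⟨W, hW, hzW, hWV⟩ := exists_isAffineOpen_mem_and_subset (x := z)
    (U := f ⁻¹ᵁ V ⊓ g ⁻¹ᵁ V) ⟨hzV, show g z ∈ V from hz ▸ hzV⟩
  haveI : IsAffine V.toScheme := hV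
  haveI : IsAffine W.toScheme := hW
  let f' : W.toScheme ⟶ V.toScheme := f.resLE V W (fun _ h => (hWV h).1)
  let g' : W.toScheme ⟶ V.toScheme := g.resLE V W (fun _ h => (hWV h).2)
  refine ⟨W, hzW, ?_⟩
  suffices f' = g' by
    exact (Scheme.Hom.resLE_comp_ι f _).symm.trans
      ((congrArg (· ≫ V.ι) this).trans (Scheme.Hom.resLE_comp_ι g _))
  refine ext_of_isAffine (CommRingCat.hom_ext (RingHom.ext fun b => ?_))
  let j : (W ⊓ Z₀).toScheme ⟶ W.toScheme := Z.homOfLE inf_le_left
  have hj : j ≫ f' = j ≫ g' := by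
    rw [← cancel_mono V.ι]
    simp only [Category.assoc, f', g', Scheme.Hom.resLE_comp_ι, j, Scheme.homOfLE_ι_assoc]
    rw [← Scheme.homOfLE_ι Z (inf_le_right : W ⊓ Z₀ ≤ Z₀), Category.assoc, Category.assoc, hfg]
  have h1 : j.appTop (f'.appTop b) = j.appTop (g'.appTop b) := by
    rw [← CommRingCat.comp_apply, ← CommRingCat.comp_apply, ← Scheme.Hom.comp_appTop,
      ← Scheme.Hom.comp_appTop, hj]
  have hnat : ∀ x, (W ⊓ Z₀).topIso.hom (j.appTop x) =
      Z.presheaf.map (homOfLE (inf_le_left : W ⊓ Z₀ ≤ W)).op (W.topIso.hom x) := by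
    intro x
    rw [← CommRingCat.comp_apply, ← CommRingCat.comp_apply]
    refine congrArg (fun m : Γ(W.toScheme, ⊤) ⟶ Γ(Z, W ⊓ Z₀) => m.hom x) ?_
    simp [j, Scheme.Opens.topIso, Scheme.Hom.appTop, ← Functor.map_comp]
  apply W.topIso.commRingCatIsoToRingEquiv.injective
  apply hZ₀ W
  show Z.presheaf.map _ (W.topIso.hom _) = Z.presheaf.map _ (W.topIso.hom _)
  rw [← hnat, ← hnat, h1]

end Groth.Agent.NeronA.EtalePoint
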