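import Groth.Agent.Hartogs.Basic
import Groth.Agent.Alg6.AssDepth
import Mathlib

/-!
# Uniqueness and existence of extensions of morphisms of finite flat schemes
-/

set_option autoImplicit false
set_option linter.style.haveILetI false

universe u

open AlgebraicGeometry CategoryTheory Limits TopologicalSpace Opposite IsLocalRing

namespace Groth.Agent.NeronA.FinFlatExt

/-- Along a flat local homomorphism of Noetherian local rings depth does not drop. -/
theorem le_depth_of_flat {A B : Type u} [CommRing A] [IsLocalRing A] [IsNoetherianRing A] [CommRing B]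
    [IsLocalRing B] [Algebra A B] [IsLocalHom (algebraMap A B)] [Module.Flat A B] {n : ℕ}
    (h : (n : ℕ∞) ≤ LocCoh.depth A A) : (n : ℕ∞) ≤ LocCoh.depth B B := by
  obtain ⟨rs, hrs, hmem, hlen⟩ := Alg6.exists_length_ge_of_le_idealDepth
    (Alg6.maximal_smul_top_ne_top (R := A) (M := A)) h
  refine le_trans ?_ (Alg6.length_le_idealDepth (I := maximalIdeal B)
    (hrs.of_flat (S := B)) fun r hr => ?_)
  · simpa using hlen
  · obtain ⟨a, ha, rfl⟩ := List.mem_map.1 hr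
    exact fun hu => hmem a ha ((isUnit_map_iff (algebraMap A B) a).1 hu)

theorem le_depth_stalk {X S : Scheme.{u}} [IsLocallyNoetherian S] (f : X ⟶ S) [Flat f] (x : X) {n : ℕ}
    (h : (n : ℕ∞) ≤ LocCoh.depth (S.presheaf.stalk (f.base x)) (S.presheaf.stalk (f.base x))) :
    (n : ℕ∞) ≤ LocCoh.depth (X.presheaf.stalk x) (X.presheaf.stalk x) := by
  letI := (f.stalkMap x).hom.toAlgebra
  haveI : IsLocalHom (algebraMap (S.presheaf.stalk (f.base x)) (X.presheaf.stalk x)) :=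
    inferInstanceAs (IsLocalHom (f.stalkMap x).hom)
  haveI : Module.Flat (S.presheaf.stalk (f.base x)) (X.presheaf.stalk x) := Flat.stalkMap f x
  exact le_depth_of_flat h

/-- Sections over an affine open are determined on an open containing all associated points. -/
theorem res_injective {X : Scheme.{u}} [IsLocallyNoetherian X] (U : X.Opens)
    (hU : ∀ x : X, maximalIdeal (X.presheaf.stalk x) ∈
      associatedPrimes (X.presheaf.stalk x) (X.presheaf.stalk x) → x ∈ U)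
    {V : X.Opens} (hV : IsAffineOpen V) (s : Γ(X, V))
    (hs : X.presheaf.map (homOfLE (inf_le_left : V ⊓ U ≤ V)).op s = 0) : s = 0 := by
  by_contra hne
  haveI : IsNoetherianRing Γ(X, V) := IsLocallyNoetherian.component_noetherian ⟨V, hV⟩
  obtain ⟨P, hP, hle⟩ := exists_le_isAssociatedPrime_of_isNoetherianRing Γ(X, V) s hne
  haveI := hP.isPrime
  let p : PrimeSpectrum Γ(X, V) := ⟨P, hP.isPrime⟩
  have hxV : hV.fromSpec p ∈ V := by rw [← SetLike.mem_coe, ← hV.range_fromSpec]; exact ⟨p, rfl⟩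
  have hp : hV.primeIdealOf ⟨hV.fromSpec p, hxV⟩ = p :=
    hV.fromSpec.isOpenEmbedding.injective (hV.fromSpec_primeIdealOf ⟨hV.fromSpec p, hxV⟩)
  set x := hV.fromSpec p
  letI := TopCat.Presheaf.algebra_section_stalk X.presheaf (⟨x, hxV⟩ : V)
  haveI hloc : IsLocalization.AtPrime (X.presheaf.stalk x) P := by
    have := hV.isLocalization_stalk ⟨x, hxV⟩
    rwa [hp] at this
  have hcomap : (maximalIdeal (X.presheaf.stalk x)).comap (algebraMap Γ(X, V) (X.presheaf.stalk x)) = P :=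
    IsLocalization.AtPrime.under_maximalIdeal (X.presheaf.stalk x) P
  have hass := Module.associatedPrimes.mem_associatedPrimes_of_comap_mem_associatedPrimes_of_isLocalizedModule
    P.primeCompl (Algebra.linearMap Γ(X, V) (X.presheaf.stalk x)) (maximalIdeal (X.presheaf.stalk x))
    (by rw [hcomap]; exact hP)
  have hxU : x ∈ U := hU x hass
  have hg : algebraMap Γ(X, V) (X.presheaf.stalk x) s = 0 := by
    show X.presheaf.germ V x hxV s = 0
    rw [← X.presheaf.germ_res_apply (homOfLE (inf_le_left : V ⊓ U ≤ V)) x ⟨hxV, hxU⟩ s, hs, map_zero]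
  obtain ⟨⟨t, ht⟩, hts⟩ := (IsLocalization.map_eq_zero_iff P.primeCompl _ s).1 hg
  refine ht (hle ?_)
  simpa [Submodule.mem_colon_singleton] using hts

theorem associatedPrimes_ringEquiv {A B : Type u} [CommRing A] [CommRing B] [IsLocalRing A] [IsLocalRing B]
    (e : A ≃+* B) (h : maximalIdeal A ∈ associatedPrimes A A) :
    maximalIdeal B ∈ associatedPrimes B B := by
  obtain ⟨hp, x, hx⟩ := h
  refine ⟨inferInstance, e x, ?_⟩
  have hmem : ∀ b : B, b ∈ maximalIdeal B ↔ e.symm b ∈ maximalIdeal A := fun b => by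
    simp only [IsLocalRing.mem_maximalIdeal, mem_nonunits_iff]
    exact not_congr ((MulEquiv.isUnit_map e.symm).symm)
  ext b
  rw [hmem, hx, Ideal.mem_radical_iff, Ideal.mem_radical_iff]
  simp only [Submodule.mem_colon_singleton, Submodule.mem_bot, smul_eq_mul]
  refine exists_congr fun n => ?_
  rw [← map_eq_zero_iff e e.injective, map_mul, map_pow, e.apply_symm_apply]

theorem ext_to_affine {X Y : Scheme.{u}} [IsLocallyNoetherian X] [IsAffine Y] (U : X.Opens)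
    (hU : ∀ x : X, maximalIdeal (X.presheaf.stalk x) ∈
      associatedPrimes (X.presheaf.stalk x) (X.presheaf.stalk x) → x ∈ U)
    (g g' : X ⟶ Y) (h : U.ι ≫ g = U.ι ≫ g') : g = g' := by
  refine Scheme.hom_ext_of_forall g g' fun x => ?_
  obtain ⟨V, hV, hxV, -⟩ := exists_isAffineOpen_mem_and_subset (x := x) (U := ⊤) trivial
  refine ⟨V, hxV, ext_of_isAffine ?_⟩
  haveI : IsAffine V := hV
  apply CommRingCat.hom_ext
  ext a
  rw [Scheme.Hom.comp_appTop, Scheme.Hom.comp_appTop]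
  show V.ι.appTop (g.appTop a) = V.ι.appTop (g'.appTop a)
  have key : X.presheaf.map (homOfLE (le_top : U ≤ ⊤)).op (g.appTop a) =
      X.presheaf.map (homOfLE (le_top : U ≤ ⊤)).op (g'.appTop a) := by
    have h2 := congrArg (fun k : (U : Scheme.{u}) ⟶ Y => k.appTop a) h
    rw [Scheme.Hom.comp_appTop, Scheme.Hom.comp_appTop] at h2
    have e : ∀ b : Γ(X, ⊤), X.presheaf.map (homOfLE (le_top : U ≤ ⊤)).op b =
        X.presheaf.map (eqToHom U.ι_image_top.symm).op (U.ι.appTop b) := fun b => by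
      rw [Scheme.Opens.ι_appTop]
      show _ = (X.presheaf.map _ ≫ X.presheaf.map _) b
      rw [← X.presheaf.map_comp]
      rfl
    rw [e, e]
    exact congrArg _ h2
  have hres : X.presheaf.map (homOfLE (le_top : V ≤ ⊤)).op (g.appTop a) =
      X.presheaf.map (homOfLE (le_top : V ≤ ⊤)).op (g'.appTop a) := by
    refine sub_eq_zero.1 (res_injective U hU hV _ ?_)
    have e5 : ∀ b : Γ(X, ⊤), X.presheaf.map (homOfLE (inf_le_left : V ⊓ U ≤ V)).op
          (X.presheaf.map (homOfLE (le_top : V ≤ ⊤)).op b) =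
        X.presheaf.map (homOfLE (inf_le_right : V ⊓ U ≤ U)).op
          (X.presheaf.map (homOfLE (le_top : U ≤ ⊤)).op b) := fun b => by
      rw [← ConcreteCategory.comp_apply, ← ConcreteCategory.comp_apply, ← X.presheaf.map_comp, ← X.presheaf.map_comp]
      rfl
    rw [map_sub, sub_eq_zero, e5, e5, key]
  rw [Scheme.Opens.ι_appTop]
  have e2 : (homOfLE (le_top : V.ι ''ᵁ ⊤ ≤ ⊤)).op =
      (homOfLE (le_top : V ≤ ⊤)).op ≫ (homOfLE V.ι_image_top.le).op := Subsingleton.elim _ _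
  have h4 := congrArg (X.presheaf.map (homOfLE V.ι_image_top.le).op) hres
  have e3 : ∀ b : Γ(X, ⊤), X.presheaf.map (homOfLE (le_top : V.ι ''ᵁ ⊤ ≤ ⊤)).op b =
      X.presheaf.map (homOfLE V.ι_image_top.le).op (X.presheaf.map (homOfLE (le_top : V ≤ ⊤)).op b) := fun b => by
    rw [e2, X.presheaf.map_comp, ConcreteCategory.comp_apply]
  exact (e3 _).trans (h4.trans (e3 _).symm)

/-- Morphisms over `S` to an `S`-affine scheme are determined on an open containing all associated points. -/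
theorem ext_over {X Y S : Scheme.{u}} [IsLocallyNoetherian X] (p : Y ⟶ S) [IsAffineHom p] (U : X.Opens)
    (hU : ∀ x : X, maximalIdeal (X.presheaf.stalk x) ∈
      associatedPrimes (X.presheaf.stalk x) (X.presheaf.stalk x) → x ∈ U)
    (g g' : X ⟶ Y) (hp : g ≫ p = g' ≫ p) (h : U.ι ≫ g = U.ι ≫ g') : g = g' := by
  refine Scheme.hom_ext_of_forall g g' fun x => ?_
  obtain ⟨W, hW, hxW, -⟩ := exists_isAffineOpen_mem_and_subset (x := (g ≫ p).base x) (U := ⊤) trivial
  let X' : X.Opens := (g ≫ p) ⁻¹ᵁ W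
  refine ⟨X', hxW, ?_⟩
  haveI : IsAffine (p ⁻¹ᵁ W) := hW.preimage p
  haveI : IsLocallyNoetherian X' := inferInstance
  have r : ∀ k : X ⟶ Y, k ≫ p = g ≫ p →
      Set.range (X'.ι ≫ k).base ⊆ Set.range (p ⁻¹ᵁ W).ι.base := by
    rintro k hk _ ⟨z, rfl⟩
    rw [Scheme.Opens.range_ι]
    show (k ≫ p).base z.1 ∈ W
    rw [hk]
    exact z.2
  have key : IsOpenImmersion.lift (p ⁻¹ᵁ W).ι (X'.ι ≫ g) (r g rfl) =
      IsOpenImmersion.lift (p ⁻¹ᵁ W).ι (X'.ι ≫ g') (r g' hp.symm) := by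
    refine ext_to_affine (X'.ι ⁻¹ᵁ U) (fun z hz => hU (X'.ι.base z) ?_) _ _ ?_
    · let σ : X.presheaf.stalk (X'.ι.base z) ≅ (X' : Scheme.{u}).presheaf.stalk z := asIso (X'.ι.stalkMap z)
      have := associatedPrimes_ringEquiv σ.commRingCatIsoToRingEquiv.symm hz
      exact this
    · refine (cancel_mono (p ⁻¹ᵁ W).ι).1 ?_
      simp only [Category.assoc, IsOpenImmersion.lift_fac]
      have hr : Set.range ((X'.ι ⁻¹ᵁ U).ι ≫ X'.ι).base ⊆ Set.range U.ι.base := by
        rintro _ ⟨z, rfl⟩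
        rw [Scheme.Opens.range_ι]
        exact z.2
      rw [← Category.assoc, ← IsOpenImmersion.lift_fac U.ι _ hr, Category.assoc, h, ← Category.assoc,
        IsOpenImmersion.lift_fac, Category.assoc]
  have := congrArg (· ≫ (p ⁻¹ᵁ W).ι) key
  simpa only [IsOpenImmersion.lift_fac] using this

variable {S : Scheme.{u}} [IsLocallyNoetherian S]

theorem mem_of_ass_of_flat {X : Scheme.{u}} [IsLocallyNoetherian X] (f : X ⟶ S) [Flat f] (U : S.Opens)
    (hU : ∀ s : S, maximalIdeal (S.presheaf.stalk s) ∈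
      associatedPrimes (S.presheaf.stalk s) (S.presheaf.stalk s) → s ∈ U) (x : X)
    (hx : maximalIdeal (X.presheaf.stalk x) ∈
      associatedPrimes (X.presheaf.stalk x) (X.presheaf.stalk x)) : x ∈ f ⁻¹ᵁ U := by
  refine hU _ ?_
  by_contra h
  exact Alg6.one_le_depth_iff.1 (le_depth_stalk f x (n := 1) (Alg6.one_le_depth_iff.2 h)) hx

theorem ass_of_two_le_depth {U : S.Opens}
    (hU : ∀ s : S, s ∉ U → (2 : ℕ∞) ≤ LocCoh.depth (S.presheaf.stalk s) (S.presheaf.stalk s)) (s : S)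
    (hs : maximalIdeal (S.presheaf.stalk s) ∈ associatedPrimes (S.presheaf.stalk s) (S.presheaf.stalk s)) :
    s ∈ U := by
  by_contra h
  exact Alg6.one_le_depth_iff.1 (le_trans (by norm_num) (hU s h)) hs

/-- Extension over `S` of a morphism defined over an open whose complement has depth at least two. -/
theorem exists_extension {G₁ G₂ : Scheme.{u}} [IsLocallyNoetherian G₁] (f₁ : G₁ ⟶ S) [Flat f₁]
    (f₂ : G₂ ⟶ S) [IsAffineHom f₂] (U : S.Opens)
    (hU : ∀ s : S, s ∉ U → (2 : ℕ∞) ≤ LocCoh.depth (S.presheaf.stalk s) (S.presheaf.stalk s))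
    (m : ((f₁ ⁻¹ᵁ U : G₁.Opens) : Scheme.{u}) ⟶ G₂) (hm : m ≫ f₂ = (f₁ ⁻¹ᵁ U).ι ≫ f₁) :
    ∃ φ : G₁ ⟶ G₂, φ ≫ f₂ = f₁ ∧ (f₁ ⁻¹ᵁ U).ι ≫ φ = m := by
  have hass : ∀ {T : Scheme.{u}} [IsLocallyNoetherian T] (g : T ⟶ S) [Flat g] (x : T),
      maximalIdeal (T.presheaf.stalk x) ∈ associatedPrimes (T.presheaf.stalk x) (T.presheaf.stalk x) →
        x ∈ g ⁻¹ᵁ U :=
    fun g _ x hx => mem_of_ass_of_flat g U (ass_of_two_le_depth hU) x hx
  let X' : S.affineOpens → G₁.Opens := fun V => f₁ ⁻¹ᵁ V.1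
  have hlocal : ∀ V : S.affineOpens, ∃ g : (X' V : Scheme.{u}) ⟶ G₂, g ≫ f₂ = (X' V).ι ≫ f₁ ∧
      ∀ (T : Scheme.{u}) (a : T ⟶ X' V) (b : T ⟶ (f₁ ⁻¹ᵁ U : G₁.Opens)),
        a ≫ (X' V).ι = b ≫ (f₁ ⁻¹ᵁ U).ι → a ≫ g = b ≫ m := by
    intro V
    let O : (X' V : Scheme.{u}).Opens := (X' V).ι ⁻¹ᵁ (f₁ ⁻¹ᵁ U)
    have hr : Set.range (O.ι ≫ (X' V).ι).base ⊆ Set.range (f₁ ⁻¹ᵁ U).ι.base := by
      rintro _ ⟨z, rfl⟩
      rw [Scheme.Opens.range_ι]
      exact z.2
    let j := IsOpenImmersion.lift (f₁ ⁻¹ᵁ U).ι (O.ι ≫ (X' V).ι) hr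
    have hj : j ≫ (f₁ ⁻¹ᵁ U).ι = O.ι ≫ (X' V).ι := IsOpenImmersion.lift_fac _ _ _
    haveI : IsAffine (f₂ ⁻¹ᵁ V.1) := V.2.preimage f₂
    have hr2 : Set.range (j ≫ m).base ⊆ Set.range (f₂ ⁻¹ᵁ V.1).ι.base := by
      rintro _ ⟨z, rfl⟩
      rw [Scheme.Opens.range_ι]
      show ((j ≫ m) ≫ f₂).base z ∈ V.1
      rw [Category.assoc, hm, ← Category.assoc, hj]
      exact z.1.2
    let n := IsOpenImmersion.lift (f₂ ⁻¹ᵁ V.1).ι (j ≫ m) hr2
    obtain ⟨g, hg, -⟩ := Hartogs.existsUnique_extension O (fun x hx => by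
      exact le_depth_stalk ((X' V).ι ≫ f₁) x (n := 2) (hU _ hx)) n
    refine ⟨g ≫ (f₂ ⁻¹ᵁ V.1).ι, ?_, fun T a b hab => ?_⟩
    · have hr3 : Set.range ((X' V).ι ≫ f₁).base ⊆ Set.range V.1.ι.base := by
        rintro _ ⟨z, rfl⟩
        rw [Scheme.Opens.range_ι]
        exact z.2
      have hr4 : Set.range (g ≫ (f₂ ⁻¹ᵁ V.1).ι ≫ f₂).base ⊆ Set.range V.1.ι.base := by
        rintro _ ⟨z, rfl⟩
        rw [Scheme.Opens.range_ι]
        exact (g.base z).2
      haveI : IsAffine V.1 := V.2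
      have key : IsOpenImmersion.lift V.1.ι (g ≫ (f₂ ⁻¹ᵁ V.1).ι ≫ f₂) hr4 =
          IsOpenImmersion.lift V.1.ι ((X' V).ι ≫ f₁) hr3 := by
        refine ext_to_affine O (fun x hx => hass ((X' V).ι ≫ f₁) x hx) _ _ ((cancel_mono V.1.ι).1 ?_)
        simp only [Category.assoc, IsOpenImmersion.lift_fac]
        rw [← Category.assoc, hg, ← Category.assoc, IsOpenImmersion.lift_fac, Category.assoc, hm,
          ← Category.assoc, hj, Category.assoc]
      have := congrArg (· ≫ V.1.ι) key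
      simpa only [IsOpenImmersion.lift_fac, Category.assoc] using this
    · have hra : Set.range a.base ⊆ Set.range O.ι.base := by
        rintro _ ⟨z, rfl⟩
        rw [Scheme.Opens.range_ι]
        show (a ≫ (X' V).ι).base z ∈ f₁ ⁻¹ᵁ U
        rw [hab]
        exact (b.base z).2
      have e : IsOpenImmersion.lift O.ι a hra ≫ j = b := by
        rw [← cancel_mono (f₁ ⁻¹ᵁ U).ι, Category.assoc, hj, ← Category.assoc, IsOpenImmersion.lift_fac, hab]
      rw [← e]
      conv_lhs => rw [← IsOpenImmersion.lift_fac O.ι a hra]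
      rw [Category.assoc, ← Category.assoc O.ι, hg,
        IsOpenImmersion.lift_fac, Category.assoc]
  choose g hg1 hg2 using hlocal
  let 𝒰 : G₁.OpenCover := {
    I₀ := S.affineOpens
    X := fun V => X' V
    f := fun V => (X' V).ι
    mem₀ := by
      rw [Scheme.presieve₀_mem_precoverage_iff]
      refine ⟨fun x => ?_, inferInstance⟩
      obtain ⟨V, hV, hxV, -⟩ := exists_isAffineOpen_mem_and_subset (x := f₁.base x) (U := ⊤) trivial
      exact ⟨⟨V, hV⟩, ⟨⟨x, hxV⟩, rfl⟩⟩ }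
  have compat : ∀ V W : S.affineOpens,
      pullback.fst (X' V).ι (X' W).ι ≫ g V = pullback.snd (X' V).ι (X' W).ι ≫ g W := by
    intro V W
    let q := pullback.fst (X' V).ι (X' W).ι ≫ (X' V).ι
    haveI : IsLocallyNoetherian (pullback (X' V).ι (X' W).ι) :=
      isLocallyNoetherian_of_isOpenImmersion q
    refine ext_over f₂ (q ⁻¹ᵁ (f₁ ⁻¹ᵁ U)) (fun x hx => hass (q ≫ f₁) x hx) _ _ ?_ ?_
    · rw [Category.assoc, Category.assoc, hg1, hg1, pullback.condition_assoc]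
    · have hr : Set.range ((q ⁻¹ᵁ (f₁ ⁻¹ᵁ U)).ι ≫ q).base ⊆ Set.range (f₁ ⁻¹ᵁ U).ι.base := by
        rintro _ ⟨z, rfl⟩
        rw [Scheme.Opens.range_ι]
        exact z.2
      have hb := IsOpenImmersion.lift_fac (f₁ ⁻¹ᵁ U).ι _ hr
      refine (Category.assoc _ _ _).symm.trans ((hg2 V _ _ (IsOpenImmersion.lift (f₁ ⁻¹ᵁ U).ι _ hr) ?_).trans
        ((hg2 W _ _ (IsOpenImmersion.lift (f₁ ⁻¹ᵁ U).ι _ hr) ?_).symm.trans (Category.assoc _ _ _)))
      · rw [hb, Category.assoc]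
      · rw [hb, Category.assoc, ← pullback.condition]
  refine ⟨𝒰.glueMorphisms g compat, 𝒰.hom_ext _ _ fun V => ?_, ?_⟩
  · rw [Scheme.Cover.ι_glueMorphisms_assoc]
    exact hg1 V
  · refine Scheme.Cover.hom_ext (𝒰.pullback₁ (f₁ ⁻¹ᵁ U).ι) _ _ fun V => ?_
    show pullback.fst (f₁ ⁻¹ᵁ U).ι (X' V).ι ≫ (f₁ ⁻¹ᵁ U).ι ≫ 𝒰.glueMorphisms g compat =
      pullback.fst (f₁ ⁻¹ᵁ U).ι (X' V).ι ≫ m
    rw [pullback.condition_assoc]
    show pullback.snd _ _ ≫ 𝒰.f V ≫ 𝒰.glueMorphisms g compat = _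
    exact (congrArg (pullback.snd _ _ ≫ ·) (Scheme.Cover.ι_glueMorphisms 𝒰 g compat V)).trans
      (hg2 V _ _ _ pullback.condition.symm)

end Groth.Agent.NeronA.FinFlatExt
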