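import Mathlib

/-!
# A morphism of finite flat schemes which is an isomorphism over the points of codimension at most one
-/

set_option autoImplicit false
set_option linter.style.haveILetI false

universe u

open AlgebraicGeometry CategoryTheory Limits TensorProduct IsLocalRing

namespace Groth.Agent.NeronA.FinFlatIso

section Algebra

variable {A : Type u} [CommRing A] {M N : Type u} [AddCommGroup M] [Module A M] [AddCommGroup N] [Module A N]

theorem bijective_local [IsLocalRing A] [IsNoetherianRing A] [Module.Finite A M] [Module.Finite A N]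
    [Module.Free A M] [Module.Free A N] (φ : M →ₗ[A] N)
    (H : ∀ (K : Type u) [Field K] [Algebra A K], (RingHom.ker (algebraMap A K)).height ≤ 1 →
      Function.Bijective (φ.baseChange K)) : Function.Bijective φ := by
  classical
  let bM := Module.Free.chooseBasis A M
  let bN := Module.Free.chooseBasis A N
  obtain ⟨P, hP⟩ := (⊥ : Ideal A).nonempty_minimalPrimes bot_ne_top
  haveI := hP.isPrime
  have hker : ∀ (Q : Ideal A) [Q.IsPrime], RingHom.ker (algebraMap A Q.ResidueField) = Q := fun Q _ =>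
    Ideal.ker_algebraMap_residueField Q
  have hP0 : P.height = 0 := by
    rw [Ideal.height_eq_zero_iff]
    exact hP
  have e := LinearEquiv.ofBijective _ (H P.ResidueField (by rw [hker, hP0]; exact zero_le_one))
  have hcard : Fintype.card (Module.Free.ChooseBasisIndex A N) = Fintype.card (Module.Free.ChooseBasisIndex A M) := by
    rw [← Module.finrank_eq_card_basis (Algebra.TensorProduct.basis P.ResidueField bN),
      ← Module.finrank_eq_card_basis (Algebra.TensorProduct.basis P.ResidueField bM)]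
    exact e.finrank_eq.symm
  let bN' := bN.reindex (Fintype.equivOfCardEq hcard)
  let Mx := LinearMap.toMatrix bM bN' φ
  suffices IsUnit Mx.det by
    exact (LinearEquiv.ofIsUnitDet this).bijective
  by_contra hu
  obtain ⟨Q, hQ⟩ := (Ideal.span {Mx.det}).nonempty_minimalPrimes
    (by simpa [Ideal.span_singleton_eq_top] using hu)
  haveI := hQ.isPrime
  have hQ1 : Q.height ≤ 1 := Ideal.height_le_one_of_isPrincipal_of_mem_minimalPrimes _ _ hQ
  have e' := LinearEquiv.ofBijective _ (H Q.ResidueField (by rw [hker]; exact hQ1))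
  have h1 : IsUnit (LinearMap.toMatrix (Algebra.TensorProduct.basis Q.ResidueField bM)
      (Algebra.TensorProduct.basis Q.ResidueField bN') (φ.baseChange Q.ResidueField)).det :=
    LinearEquiv.isUnit_det (LinearEquiv.ofBijective _ (H Q.ResidueField (by rw [hker]; exact hQ1))) _ _
  rw [LinearMap.toMatrix_baseChange, ← RingHom.mapMatrix_apply, ← RingHom.map_det] at h1
  refine h1.ne_zero ?_
  rw [← RingHom.mem_ker, hker]
  exact hQ.1.2 (Ideal.mem_span_singleton_self _)

theorem bijective_of_residue [IsNoetherianRing A] [Module.Finite A M] [Module.Finite A N]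
    [Module.Flat A M] [Module.Flat A N] (φ : M →ₗ[A] N)
    (H : ∀ (K : Type u) [Field K] [Algebra A K], (RingHom.ker (algebraMap A K)).height ≤ 1 →
      Function.Bijective (φ.baseChange K)) : Function.Bijective φ := by
  refine bijective_of_isLocalized_maximal
    (fun (P : Ideal A) [P.IsMaximal] => Localization.AtPrime P ⊗[A] M)
    (fun P _ => TensorProduct.mk A (Localization.AtPrime P) M 1)
    (fun (P : Ideal A) [P.IsMaximal] => Localization.AtPrime P ⊗[A] N)
    (fun P _ => TensorProduct.mk A (Localization.AtPrime P) N 1) φ fun P hP => ?_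
  set L := Localization.AtPrime P
  haveI : Module.Free L (L ⊗[A] M) := Module.free_of_flat_of_isLocalRing
  haveI : Module.Free L (L ⊗[A] N) := Module.free_of_flat_of_isLocalRing
  have key : Function.Bijective (φ.baseChange L) := by
    refine bijective_local (φ.baseChange L) fun K _ _ hK => ?_
    letI : Algebra A K := ((algebraMap L K).comp (algebraMap A L)).toAlgebra
    haveI : IsScalarTower A L K := IsScalarTower.of_algebraMap_eq' rfl
    have hK' : (RingHom.ker (algebraMap A K)).height ≤ 1 := by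
      have : RingHom.ker (algebraMap A K) = (RingHom.ker (algebraMap L K)).comap (algebraMap A L) := by
        rw [RingHom.comap_ker]; rfl
      rw [this]
      exact (IsLocalization.height_under P.primeCompl (RingHom.ker (algebraMap L K))).trans_le hK
    let eM := AlgebraTensorModule.cancelBaseChange A L K K M
    let eN := AlgebraTensorModule.cancelBaseChange A L K K N
    have comm : ∀ z, eN ((φ.baseChange L).baseChange K z) = φ.baseChange K (eM z) := by
      intro z
      induction z with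
      | zero => simp
      | add a b ha hb => simp [ha, hb]
      | tmul k y =>
        induction y with
        | zero => simp
        | add a b ha hb => simp only [tmul_add, map_add, ha, hb]
        | tmul l m => simp [eM, eN]
    have : ((φ.baseChange L).baseChange K : K ⊗[L] (L ⊗[A] M) → K ⊗[L] (L ⊗[A] N)) =
        eN.symm ∘ φ.baseChange K ∘ eM := by
      funext z
      simp only [Function.comp_apply, ← comm, LinearEquiv.symm_apply_apply]
    rw [this]
    exact eN.symm.bijective.comp ((H K hK').comp eM.bijective)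
  have : IsLocalizedModule.map P.primeCompl (TensorProduct.mk A L M 1) (TensorProduct.mk A L N 1) φ =
      (φ.baseChange L).restrictScalars A := by
    refine IsLocalizedModule.linearMap_ext P.primeCompl (TensorProduct.mk A L M 1) (TensorProduct.mk A L N 1) ?_
    rw [IsLocalizedModule.map_comp]
    ext x
    simp
  rw [this]
  exact key

end Algebra

/-- The base change of `ψ` along every `T → X₂` lying over a field-valued point of `S` of codimension at most
one is an isomorphism. -/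
def IsoInCodimOne {X₁ X₂ S : Scheme.{u}} (ψ : X₁ ⟶ X₂) (f₂ : X₂ ⟶ S) : Prop :=
  ∀ (K : Type u) [Field K] (x : Spec (CommRingCat.of K) ⟶ S),
    (∀ z, ringKrullDim (S.presheaf.stalk (x.base z)) ≤ 1) →
    ∀ (T : Scheme.{u}) (y : T ⟶ X₂) (t : T ⟶ Spec (CommRingCat.of K)), y ≫ f₂ = t ≫ x →
      IsIso (pullback.snd ψ y)

theorem isIso_snd_of_isPullback {X₁ X₂ Y₁ Y₂ T : Scheme.{u}} {ψ : X₁ ⟶ X₂} {χ : Y₁ ⟶ Y₂} {i₁ : Y₁ ⟶ X₁}
    {i₂ : Y₂ ⟶ X₂} (sq : IsPullback i₁ χ ψ i₂) (y : T ⟶ Y₂) (h : IsIso (pullback.snd ψ (y ≫ i₂))) :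
    IsIso (pullback.snd χ y) := by
  have h1 := (IsPullback.of_hasPullback χ y).paste_horiz sq
  rw [← h1.isoPullback_hom_snd]
  infer_instance

theorem ringKrullDim_stalk_spec (A : CommRingCat.{u}) (p : Spec A) :
    ringKrullDim ((Spec A).presheaf.stalk p) = p.asIdeal.height :=
  @IsLocalization.AtPrime.ringKrullDim_eq_height A _ p.asIdeal p.isPrime
    ((Spec.structureSheaf A).presheaf.stalk p) _ (StructureSheaf.stalkAlgebra A p)
    (StructureSheaf.IsLocalization.to_stalk A p)

theorem isIso_spec (A B₁ B₂ : CommRingCat.{u}) [IsNoetherianRing A] (a₁ : A ⟶ B₁) (a₂ : A ⟶ B₂)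
    (φ : B₂ ⟶ B₁) (hφ : a₂ ≫ φ = a₁) (hf₁ : a₁.hom.Finite) (hf₂ : a₂.hom.Finite)
    (hF₁ : a₁.hom.Flat) (hF₂ : a₂.hom.Flat) (H : IsoInCodimOne (Spec.map φ) (Spec.map a₂)) :
    IsIso (Spec.map φ) := by
  letI := a₁.hom.toAlgebra
  letI := a₂.hom.toAlgebra
  haveI : Module.Finite A B₁ := hf₁
  haveI : Module.Finite A B₂ := hf₂
  haveI : Module.Flat A B₁ := hF₁
  haveI : Module.Flat A B₂ := hF₂
  let φA : B₂ →ₐ[A] B₁ := ⟨φ.hom, fun r => by
    show (a₂ ≫ φ).hom r = a₁.hom r
    rw [hφ]⟩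
  suffices Function.Bijective φA.toLinearMap by
    haveI : IsIso φ := by rw [ConcreteCategory.isIso_iff_bijective]; exact this
    infer_instance
  refine bijective_of_residue _ fun K _ _ hK => ?_
  let φK := Algebra.TensorProduct.map (AlgHom.id A K) φA
  have hbc : φA.toLinearMap.baseChange K = (φK.toLinearMap : K ⊗[A] B₂ → K ⊗[A] B₁) := by
    funext z
    induction z with
    | zero => simp
    | add a b ha hb => simp [ha, hb]
    | tmul k b => rfl
  rw [show (⇑(φA.toLinearMap.baseChange K) : K ⊗[A] B₂ → K ⊗[A] B₁) = ⇑φK from hbc]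
  let x : Spec (CommRingCat.of K) ⟶ Spec A := Spec.map (CommRingCat.ofHom (algebraMap A K))
  have hx : ∀ z, ringKrullDim ((Spec A).presheaf.stalk (x.base z)) ≤ 1 := by
    intro z
    rw [ringKrullDim_stalk_spec, ← WithBot.coe_one, WithBot.coe_le_coe]
    have hz : (x.base z).asIdeal = RingHom.ker (algebraMap A K) := by
      show Ideal.comap (algebraMap A K) z.asIdeal = _
      have h0 : z.asIdeal = (⊥ : Ideal K) := (Ideal.eq_bot_or_top _).resolve_right z.2.ne_top
      rw [h0, RingHom.ker_eq_comap_bot]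
    rw [hz]
    exact hK
  let T : Scheme.{u} := Spec (CommRingCat.of (K ⊗[A] B₂))
  let y : T ⟶ Spec B₂ := Spec.map (CommRingCat.ofHom
    (Algebra.TensorProduct.includeRight.toRingHom : B₂ →+* K ⊗[A] B₂))
  let t : T ⟶ Spec (CommRingCat.of K) := Spec.map (CommRingCat.ofHom
    (algebraMap K (K ⊗[A] B₂)))
  let T₁ : Scheme.{u} := Spec (CommRingCat.of (K ⊗[A] B₁))
  let y₁ : T₁ ⟶ Spec B₁ := Spec.map (CommRingCat.ofHom
    (Algebra.TensorProduct.includeRight.toRingHom : B₁ →+* K ⊗[A] B₁))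
  let t₁ : T₁ ⟶ Spec (CommRingCat.of K) := Spec.map (CommRingCat.ofHom
    (algebraMap K (K ⊗[A] B₁)))
  let χ : T₁ ⟶ T := Spec.map (CommRingCat.ofHom φK.toRingHom)
  have s₂ : IsPullback y t (Spec.map a₂) x :=
    (isPullback_SpecMap_of_isPushout _ _ _ _ (CommRingCat.isPushout_tensorProduct A K B₂).flip)
  have s₁ : IsPullback y₁ t₁ (Spec.map a₁) x :=
    (isPullback_SpecMap_of_isPushout _ _ _ _ (CommRingCat.isPushout_tensorProduct A K B₁).flip)
  have hχ1 : χ ≫ t = t₁ := by
    rw [← Spec.map_comp]; congr 1; ext k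
    simp [φK, Algebra.TensorProduct.algebraMap_apply]
  have hχ2 : χ ≫ y = y₁ ≫ Spec.map φ := by
    rw [← Spec.map_comp, ← Spec.map_comp]; congr 1
  have hsq : IsPullback y₁ χ (Spec.map φ) y := by
    have : IsPullback y₁ (χ ≫ t) (Spec.map φ ≫ Spec.map a₂) x := by
      rw [hχ1, ← Spec.map_comp, hφ]; exact s₁
    exact this.of_bot hχ2.symm s₂
  haveI := H K x hx T y t s₂.w
  haveI : IsIso χ := by
    rw [← hsq.isoPullback_hom_snd]; infer_instance
  haveI : IsIso (Scheme.Spec.map (CommRingCat.ofHom φK.toRingHom).op) := inferInstanceAs (IsIso χ)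
  haveI := isIso_of_reflects_iso (CommRingCat.ofHom φK.toRingHom).op Scheme.Spec
  haveI : IsIso (CommRingCat.ofHom φK.toRingHom) := isIso_of_op _
  exact ConcreteCategory.bijective_of_isIso (CommRingCat.ofHom φK.toRingHom)

theorem IsoInCodimOne.of_isPullback {X₁ X₂ S Y₁ Y₂ S' : Scheme.{u}} {ψ : X₁ ⟶ X₂} {f₂ : X₂ ⟶ S}
    {χ : Y₁ ⟶ Y₂} {g₂ : Y₂ ⟶ S'} {i₁ : Y₁ ⟶ X₁} {i₂ : Y₂ ⟶ X₂} (j : S' ⟶ S) [IsOpenImmersion j]
    (sq : IsPullback i₁ χ ψ i₂) (hw : i₂ ≫ f₂ = g₂ ≫ j) (H : IsoInCodimOne ψ f₂) :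
    IsoInCodimOne χ g₂ := by
  intro K _ x hx T y t h
  refine isIso_snd_of_isPullback sq y (H K (x ≫ j) (fun z => ?_) T (y ≫ i₂) t ?_)
  · rw [show (x ≫ j).base z = j.base (x.base z) from rfl,
      ringKrullDim_eq_of_ringEquiv (asIso (j.stalkMap (x.base z))).commRingCatIsoToRingEquiv]
    exact hx z
  · rw [Category.assoc, hw, ← Category.assoc, h, Category.assoc]

theorem isIso_affine {X₁ X₂ S : Scheme.{u}} [IsAffine S] [IsNoetherianRing Γ(S, ⊤)] (f₁ : X₁ ⟶ S) (f₂ : X₂ ⟶ S)
    [IsFinite f₁] [IsFinite f₂] [Flat f₁] [Flat f₂] (ψ : X₁ ⟶ X₂) (w : ψ ≫ f₂ = f₁)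
    (H : IsoInCodimOne ψ f₂) : IsIso ψ := by
  haveI : IsAffine X₁ := isAffine_of_isAffineHom f₁
  haveI : IsAffine X₂ := isAffine_of_isAffineHom f₂
  have hfin : ∀ {X : Scheme.{u}} [IsAffine X] (f : X ⟶ S) [IsFinite f] [Flat f],
      f.appTop.hom.Finite ∧ f.appTop.hom.Flat := by
    intro X _ f _ _
    have e : Spec.map f.appTop = X.isoSpec.inv ≫ f ≫ S.isoSpec.hom := by
      rw [← Scheme.isoSpec_hom_naturality, Iso.inv_hom_id_assoc]
    have h1 : IsFinite (Spec.map f.appTop) := by rw [e]; infer_instance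
    have h2 : Flat (Spec.map f.appTop) := by rw [e]; infer_instance
    exact ⟨(IsFinite.SpecMap_iff _).1 h1, Flat.SpecMap_iff.1 h2⟩
  have sq : IsPullback X₁.isoSpec.inv (Spec.map ψ.appTop) ψ X₂.isoSpec.inv :=
    IsPullback.of_horiz_isIso ⟨(Scheme.isoSpec_inv_naturality ψ).symm⟩
  haveI : IsIso (Spec.map ψ.appTop) := isIso_spec Γ(S, ⊤) Γ(X₁, ⊤) Γ(X₂, ⊤) f₁.appTop f₂.appTop ψ.appTop
    (by rw [← Scheme.Hom.comp_appTop, w]) (hfin f₁).1 (hfin f₂).1 (hfin f₁).2 (hfin f₂).2
    (H.of_isPullback S.isoSpec.inv sq (Scheme.isoSpec_inv_naturality f₂).symm)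
  have : ψ = X₁.isoSpec.hom ≫ Spec.map ψ.appTop ≫ X₂.isoSpec.inv := by
    rw [Scheme.isoSpec_hom_naturality_assoc, Iso.hom_inv_id, Category.comp_id]
  rw [this]
  infer_instance

/-- A morphism of finite flat `S`-schemes which is an isomorphism over the points of codimension at most one is
an isomorphism. -/
theorem isIso_of_isoInCodimOne {X₁ X₂ S : Scheme.{u}} [IsLocallyNoetherian S] (f₁ : X₁ ⟶ S) (f₂ : X₂ ⟶ S)
    [IsFinite f₁] [IsFinite f₂] [Flat f₁] [Flat f₂] (ψ : X₁ ⟶ X₂) (w : ψ ≫ f₂ = f₁)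
    (H : IsoInCodimOne ψ f₂) : IsIso ψ := by
  refine (IsZariskiLocalAtTarget.iff_of_iSup_eq_top (P := MorphismProperty.isomorphisms Scheme)
    (fun V : S.affineOpens => f₂ ⁻¹ᵁ V.1) ?_).2 fun V => ?_
  · rw [← Scheme.Hom.preimage_iSup, iSup_affineOpens_eq_top, Scheme.Hom.preimage_top]
  haveI : IsAffine V.1 := V.2
  haveI : IsNoetherianRing Γ(V.1, ⊤) := by
    haveI : IsLocallyNoetherian V.1 := inferInstance
    exact IsLocallyNoetherian.component_noetherian ⟨⊤, isAffineOpen_top _⟩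
  show IsIso (ψ ∣_ f₂ ⁻¹ᵁ V.1)
  have sq := (isPullback_morphismRestrict ψ (f₂ ⁻¹ᵁ V.1)).flip.paste_vert (isPullback_morphismRestrict f₂ V.1).flip
  haveI : IsFinite ((ψ ∣_ f₂ ⁻¹ᵁ V.1) ≫ f₂ ∣_ V.1) :=
    MorphismProperty.of_isPullback sq (by rw [w]; infer_instance)
  haveI : Flat ((ψ ∣_ f₂ ⁻¹ᵁ V.1) ≫ f₂ ∣_ V.1) :=
    MorphismProperty.of_isPullback sq (by rw [w]; infer_instance)
  exact isIso_affine ((ψ ∣_ f₂ ⁻¹ᵁ V.1) ≫ f₂ ∣_ V.1) (f₂ ∣_ V.1) _ rfl
    (H.of_isPullback V.1.ι (isPullback_morphismRestrict ψ (f₂ ⁻¹ᵁ V.1)).flip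
      (morphismRestrict_ι f₂ V.1).symm)

theorem surjective_of_codimOne {X S : Scheme.{u}} (f : X ⟶ S) [IsFinite f]
    (h : ∀ s : S, ringKrullDim (S.presheaf.stalk s) ≤ 1 → s ∈ Set.range f.base) :
    Function.Surjective f.base := by
  intro s
  obtain ⟨V, hV, hsV, -⟩ := exists_isAffineOpen_mem_and_subset (x := s) (U := ⊤) trivial
  let p := hV.primeIdealOf ⟨s, hsV⟩
  obtain ⟨P, hP, hle⟩ := Ideal.exists_minimalPrimes_le (I := (⊥ : Ideal Γ(S, V))) (J := p.asIdeal) bot_le
  let q : Spec Γ(S, V) := (⟨P, hP.isPrime⟩ : PrimeSpectrum Γ(S, V))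
  have hqp : hV.fromSpec q ⤳ s := by
    have : q ⤳ p := (PrimeSpectrum.le_iff_specializes q p).1 hle
    have h2 := this.map hV.fromSpec.continuous
    rwa [hV.fromSpec_primeIdealOf] at h2
  have hd : ringKrullDim (S.presheaf.stalk (hV.fromSpec q)) ≤ 1 := by
    haveI : IsOpenImmersion hV.fromSpec := hV.isOpenImmersion_fromSpec
    rw [ringKrullDim_eq_of_ringEquiv (asIso (hV.fromSpec.stalkMap q)).commRingCatIsoToRingEquiv]
    refine (ringKrullDim_stalk_spec Γ(S, V) q).trans_le ?_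
    show ((P.height : ℕ∞) : WithBot ℕ∞) ≤ 1
    haveI := hP.isPrime
    rw [Ideal.height_eq_zero_iff.2 hP]
    norm_num
  exact hqp.mem_closed f.isClosedMap.isClosed_range (h _ hd)

theorem isoInCodimOne_of_fibres {X₁ X₂ S : Scheme.{u}} (f₁ : X₁ ⟶ S) (f₂ : X₂ ⟶ S) (ψ : X₁ ⟶ X₂)
    (w : ψ ≫ f₂ = f₁)
    (H : ∀ s : S, ringKrullDim (S.presheaf.stalk s) ≤ 1 →
      IsIso (pullback.map f₁ (S.fromSpecResidueField s) f₂ (S.fromSpecResidueField s) ψ (𝟙 _) (𝟙 S)
        ((Category.comp_id _).trans w.symm) ((Category.comp_id _).trans (Category.id_comp _).symm))) :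
    IsoInCodimOne ψ f₂ := by
  intro K _ x hx T y t h
  obtain ⟨s, φ, rfl, hs⟩ : ∃ (s : S) (φ : S.residueField s ⟶ CommRingCat.of K),
      Spec.map φ ≫ S.fromSpecResidueField s = x ∧ ringKrullDim (S.presheaf.stalk s) ≤ 1 :=
    ⟨_, _, Scheme.descResidueField_stalkClosedPointTo_fromSpecResidueField K S x,
      hx (IsLocalRing.closedPoint K)⟩
  haveI := H s hs
  let M := pullback.map f₁ (S.fromSpecResidueField s) f₂ (S.fromSpecResidueField s) ψ (𝟙 _) (𝟙 S)
    ((Category.comp_id _).trans w.symm) ((Category.comp_id _).trans (Category.id_comp _).symm)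
  have sq : IsPullback (pullback.fst f₁ (S.fromSpecResidueField s)) M ψ
      (pullback.fst f₂ (S.fromSpecResidueField s)) := by
    have : IsPullback (pullback.fst f₁ (S.fromSpecResidueField s)) (M ≫ pullback.snd _ _) (ψ ≫ f₂)
        (S.fromSpecResidueField s) := by
      rw [w, show M ≫ pullback.snd _ _ = pullback.snd f₁ (S.fromSpecResidueField s) from
        (pullback.lift_snd _ _ _).trans (Category.comp_id _)]
      exact IsPullback.of_hasPullback _ _
    exact this.of_bot (pullback.lift_fst _ _ _).symm (IsPullback.of_hasPullback _ _)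
  let l : T ⟶ pullback f₂ (S.fromSpecResidueField s) :=
    pullback.lift y (t ≫ Spec.map φ) (by rw [h, Category.assoc])
  have h1 := (IsPullback.of_hasPullback M l).paste_horiz sq
  rw [show y = l ≫ pullback.fst f₂ (S.fromSpecResidueField s) from (pullback.lift_fst _ _ _).symm,
    ← h1.isoPullback_inv_snd]
  infer_instance

end Groth.Agent.NeronA.FinFlatIso
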