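import Mathlib.AlgebraicGeometry.SpreadingOut
import Groth.Agent.SchDenseLib.Hom
import Groth.Agent.SchDenseLib.FlatNoeth
import Groth.Agent.AlgSpDec.SchDenseFacts
import Groth.Agent.H23.FFDescent

/-!
# Extending morphisms from a schematically dense open after a flat surjective base change
-/

set_option autoImplicit false

universe u

open CategoryTheory Limits AlgebraicGeometry TopologicalSpace

namespace Groth.Agent.NeronA.FlatDescExt

/-- A point in the closure of a locally closed set of a noetherian sober space is a specialisation of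
one of its points. -/
theorem exists_specializes_of_mem_closure {X : Type u} [TopologicalSpace X] [QuasiSober X] [NoetherianSpace X]
    {O Z : Set X} (hO : IsOpen O) (hZ : IsClosed Z) {y : X} (hy : y ∈ closure (O ∩ Z)) :
    ∃ z ∈ O ∩ Z, z ⤳ y := by
  obtain ⟨S, hSf, hSc, hS, hSU⟩ := NoetherianSpace.exists_finite_set_isClosed_irreducible
    (isClosed_closure (s := O ∩ Z))
  have hsub : O ∩ Z ⊆ ⋃ K ∈ S, (O ∩ Z) ∩ K := by
    intro w hw
    obtain ⟨K, hK, hwK⟩ : w ∈ ⋃₀ S := hSU ▸ subset_closure hw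
    exact Set.mem_biUnion hK ⟨hw, hwK⟩
  have hy' := closure_mono hsub hy
  rw [hSf.closure_biUnion, Set.mem_iUnion₂] at hy'
  obtain ⟨K, hK, hyK⟩ := hy'
  obtain ⟨w, hw⟩ : ((O ∩ Z) ∩ K).Nonempty := by
    by_contra h
    rw [Set.not_nonempty_iff_eq_empty.1 h, closure_empty] at hyK
    exact hyK
  have hgen : IsGenericPoint (hS K hK).genericPoint K :=
    (hS K hK).isGenericPoint_genericPoint (hSc K hK)
  have hKZ : K ⊆ Z := (Set.subset_sUnion_of_mem hK).trans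
    (hSU ▸ closure_minimal Set.inter_subset_right hZ)
  refine ⟨_, ⟨hgen.specializes hw.2 |>.mem_open hO hw.1.1, hKZ hgen.mem⟩, hgen.specializes ?_⟩
  exact closure_minimal Set.inter_subset_right (hSc K hK) hyK

/-- morphisms agreeing locally are equal -/
theorem hom_ext_locally {X Z : Scheme.{u}} (a b : X ⟶ Z)
    (h : ∀ x : X, ∃ O : X.Opens, x ∈ O ∧ O.ι ≫ a = O.ι ≫ b) : a = b := by
  choose O hO hab using h
  exact Scheme.Cover.hom_ext (X.openCoverOfIsOpenCover O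
    (Opens.coe_eq_univ.1 (Set.eq_univ_of_forall fun x => Opens.mem_iSup.2 ⟨x, hO x⟩))) _ _ hab

variable {S Y Y' N : Scheme.{u}} [IsLocallyNoetherian S] [IsLocallyNoetherian Y]
  (U : S.Opens) (hU : CInt.IsSchematicallyDense U) (πY : Y ⟶ S) [Flat πY] (πN : N ⟶ S)
  [IsSeparated πN] [LocallyOfFiniteType πN] (p : Y' ⟶ Y) [Flat p]
  (h : (πY ⁻¹ᵁ U).toScheme ⟶ N) (hh : h ≫ πN = (πY ⁻¹ᵁ U).ι ≫ πY)
  (φ : Y' ⟶ N) (hφ : φ ≫ πN = p ≫ πY)
  (hφh : (p ⁻¹ᵁ (πY ⁻¹ᵁ U)).ι ≫ φ = (p ∣_ (πY ⁻¹ᵁ U)) ≫ h)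

include hU hφ hφh in
/-- the extension exists on the local ring of an image point -/
theorem exists_stalk_ext (y' : Y') :
    ∃ θ : Spec (Y.presheaf.stalk (p y')) ⟶ N,
      (Y.fromSpecStalk (p y') ∣_ (πY ⁻¹ᵁ U)) ≫ h =
        (Y.fromSpecStalk (p y') ⁻¹ᵁ (πY ⁻¹ᵁ U)).ι ≫ θ ∧ θ ≫ πN = Y.fromSpecStalk (p y') ≫ πY := by
  let t := Y.fromSpecStalk (p y')
  let f := Spec.map (p.stalkMap y')
  haveI : Flat t := GrpSchLib.flat_fromSpecStalk _
  haveI hf := (flat_and_surjective_SpecMap_iff (p.stalkMap y')).2 (H23.FFDescent.faithfullyFlat_stalkMap p y')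
  haveI : Flat f := hf.1
  haveI : Surjective f := hf.2
  have hft : f ≫ t = Y'.fromSpecStalk y' ≫ p := Scheme.SpecMap_stalkMap_fromSpecStalk p
  let V := πY ⁻¹ᵁ U
  have hd : CInt.IsSchematicallyDense ((pullback.fst f f) ⁻¹ᵁ (f ⁻¹ᵁ (t ⁻¹ᵁ V))) :=
    SchDenseLib.preimage_of_isLocallyNoetherian (pullback.fst f f ≫ f ≫ t ≫ πY) U hU
  obtain ⟨θ, hθ, hθ'⟩ := SchDenseLib.extends_of_faithfullyFlat (t ≫ πY) πN f (t ⁻¹ᵁ V) hd
    ((t ∣_ V) ≫ h) (Y'.fromSpecStalk y' ≫ φ)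
    (by rw [Category.assoc, hφ, reassoc_of% hft]) (by
      have hle : ∀ x, x ∈ f ⁻¹ᵁ (t ⁻¹ᵁ V) → x ∈ Y'.fromSpecStalk y' ⁻¹ᵁ (p ⁻¹ᵁ V) := by
        intro x hx
        have : p (Y'.fromSpecStalk y' x) = t (f x) := by
          rw [← Scheme.Hom.comp_apply, ← hft, Scheme.Hom.comp_apply]
        show p (Y'.fromSpecStalk y' x) ∈ V
        rw [this]; exact hx
      let l : (f ⁻¹ᵁ (t ⁻¹ᵁ V)).toScheme ⟶ (p ⁻¹ᵁ V).toScheme :=
        (Spec (Y'.presheaf.stalk y')).homOfLE hle ≫ (Y'.fromSpecStalk y' ∣_ (p ⁻¹ᵁ V))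
      have hl : l ≫ (p ⁻¹ᵁ V).ι = (f ⁻¹ᵁ (t ⁻¹ᵁ V)).ι ≫ Y'.fromSpecStalk y' := by
        simp [l]
      have hl2 : l ≫ (p ∣_ V) = (f ∣_ (t ⁻¹ᵁ V)) ≫ (t ∣_ V) := by
        rw [← cancel_mono V.ι]
        simp only [Category.assoc, morphismRestrict_ι, morphismRestrict_ι_assoc, reassoc_of% hl, hft]
      rw [← reassoc_of% hl, hφh, reassoc_of% hl2])
  exact ⟨θ, hθ.symm, hθ'⟩

include hh in
/-- an extension on a local ring spreads out -/
theorem exists_nhd_ext (y : Y) (θ : Spec (Y.presheaf.stalk y) ⟶ N)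
    (hθ : (Y.fromSpecStalk y ∣_ (πY ⁻¹ᵁ U)) ≫ h = (Y.fromSpecStalk y ⁻¹ᵁ (πY ⁻¹ᵁ U)).ι ≫ θ)
    (hθ' : θ ≫ πN = Y.fromSpecStalk y ≫ πY) :
    ∃ (W : Y.Opens) (m : W.toScheme ⟶ N), y ∈ W ∧ m ≫ πN = W.ι ≫ πY ∧
      ∀ {P : Scheme.{u}} (a : P ⟶ W.toScheme) (b : P ⟶ (πY ⁻¹ᵁ U).toScheme),
        a ≫ W.ι = b ≫ (πY ⁻¹ᵁ U).ι → a ≫ m = b ≫ h := by
  classical
  let V := πY ⁻¹ᵁ U
  let t := Y.fromSpecStalk y
  obtain ⟨W₀, hyW₀, m₀, hm₀, hm₀'⟩ := spread_out_of_isGermInjective' πY πN θ hθ'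
  obtain ⟨A, hA, hyA, hAW⟩ := exists_isAffineOpen_mem_and_subset (U := W₀) hyW₀
  let P₀ : Y.Opens := A ⊓ V
  have hPW : P₀ ≤ W₀ := inf_le_left.trans hAW
  have hPV : P₀ ≤ V := inf_le_right
  let a₀ := Y.homOfLE hPW ≫ m₀
  let b₀ := Y.homOfLE hPV ≫ h
  let Agree : Set P₀.toScheme := {z | ∃ O : P₀.toScheme.Opens, z ∈ O ∧ O.ι ≫ a₀ = O.ι ≫ b₀}
  have hAgree : IsOpen Agree := isOpen_iff_forall_mem_open.2 fun z ⟨O, hz, hO⟩ =>
    ⟨O, fun _ hw => ⟨O, hw, hO⟩, O.isOpen, hz⟩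
  have hgen : ∀ z : P₀.toScheme, P₀.ι z ⤳ y → z ∈ Agree := by
    intro z hz
    obtain ⟨O, hzO, hO⟩ := spread_out_unique_of_isGermInjective' (X := P₀.toScheme) (x := z) a₀ b₀ (by
      let j : Spec (P₀.toScheme.presheaf.stalk z) ⟶ Spec (Y.presheaf.stalk y) :=
        Spec.map (P₀.ι.stalkMap z) ≫ Spec.map (Y.presheaf.stalkSpecializes hz)
      have hj : j ≫ t = P₀.toScheme.fromSpecStalk z ≫ P₀.ι := by
        simp only [j, t, Category.assoc, Scheme.SpecMap_stalkSpecializes_fromSpecStalk]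
        exact Scheme.SpecMap_stalkMap_fromSpecStalk _
      have hja : P₀.toScheme.fromSpecStalk z ≫ Y.homOfLE hPW = j ≫ W₀.fromSpecStalkOfMem y hyW₀ := by
        rw [← cancel_mono W₀.ι, Category.assoc, Category.assoc, Scheme.homOfLE_ι,
          Scheme.Opens.fromSpecStalkOfMem_ι, hj]
      have hr : Set.range j ⊆ Set.range (t ⁻¹ᵁ V).ι := by
        rintro _ ⟨x, rfl⟩
        rw [Scheme.Opens.range_ι]
        show t (j x) ∈ V
        rw [← Scheme.Hom.comp_apply, hj, Scheme.Hom.comp_apply]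
        exact hPV (P₀.toScheme.fromSpecStalk z x).2
      let l := IsOpenImmersion.lift (t ⁻¹ᵁ V).ι j hr
      have hl : l ≫ (t ⁻¹ᵁ V).ι = j := IsOpenImmersion.lift_fac _ _ _
      have hjb : P₀.toScheme.fromSpecStalk z ≫ Y.homOfLE hPV = l ≫ (t ∣_ V) := by
        rw [← cancel_mono V.ι, Category.assoc, Category.assoc, Scheme.homOfLE_ι, morphismRestrict_ι,
          reassoc_of% hl, hj]
      simp only [a₀, b₀]
      rw [reassoc_of% hja, reassoc_of% hjb, hθ, reassoc_of% hl, ← hm₀])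
    exact ⟨O, hzO, hO⟩
  let C : Set Y := (P₀ : Set Y) ∩ (P₀.ι '' Agree)ᶜ
  have hy : y ∉ closure C := by
    intro hy
    haveI : CompactSpace A.toScheme := isCompact_iff_compactSpace.mp hA.isCompact
    haveI : IsNoetherian A.toScheme := { }
    have hy' : (⟨y, hyA⟩ : A.toScheme) ∈ closure (A.ι ⁻¹' C) := by
      rw [← A.ι.isOpenEmbedding.isOpenMap.preimage_closure_eq_closure_preimage A.ι.continuous]
      exact hy
    obtain ⟨z, hz, hzy⟩ := exists_specializes_of_mem_closure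
      (P₀.isOpen.preimage A.ι.continuous)
      (((P₀.ι.isOpenEmbedding.isOpenMap _ hAgree).isClosed_compl).preimage A.ι.continuous) hy'
    exact hz.2 ⟨⟨A.ι z, hz.1⟩, hgen ⟨A.ι z, hz.1⟩ (hzy.map A.ι.continuous), rfl⟩
  let W : Y.Opens := A ⊓ ⟨(closure C)ᶜ, isClosed_closure.isOpen_compl⟩
  have hWW₀ : W ≤ W₀ := inf_le_left.trans hAW
  refine ⟨W, Y.homOfLE hWW₀ ≫ m₀, ⟨hyA, hy⟩, by rw [Category.assoc, hm₀', Scheme.homOfLE_ι_assoc], ?_⟩
  intro P a b hab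
  refine hom_ext_locally _ _ fun x => ?_
  have hx : W.ι (a x) ∈ P₀ := by
    refine ⟨(a x).2.1, ?_⟩
    rw [← Scheme.Hom.comp_apply, hab, Scheme.Hom.comp_apply]
    exact (b x).2
  have hr : Set.range (a ≫ W.ι) ⊆ Set.range P₀.ι := by
    rintro _ ⟨x, rfl⟩
    rw [Scheme.Opens.range_ι]
    refine ⟨(a x).2.1, ?_⟩
    rw [hab, Scheme.Hom.comp_apply]
    exact (b x).2
  let c := IsOpenImmersion.lift P₀.ι (a ≫ W.ι) hr
  have hc : c ≫ P₀.ι = a ≫ W.ι := IsOpenImmersion.lift_fac _ _ _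
  have hcA : c ≫ Y.homOfLE hPW = a ≫ Y.homOfLE hWW₀ := by
    rw [← cancel_mono W₀.ι]; simp [hc]
  have hcB : c ≫ Y.homOfLE hPV = b := by
    rw [← cancel_mono V.ι]; simp [hc, V, hab]
  have hcx : c x ∈ Agree := by
    by_contra hn
    refine (a x).2.2 (subset_closure ⟨hx, ?_⟩)
    rintro ⟨w, hw, hwx⟩
    refine hn ?_
    have : P₀.ι (c x) = P₀.ι w :=
      ((Scheme.Hom.comp_apply c P₀.ι x).symm.trans ((congrArg (fun k : P ⟶ Y => k x) hc).trans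
        (Scheme.Hom.comp_apply a W.ι x))).trans hwx.symm
    rwa [P₀.ι.isOpenEmbedding.injective this]
  obtain ⟨O, hxO, hO⟩ := hcx
  refine ⟨c ⁻¹ᵁ O, hxO, ?_⟩
  have := congrArg (fun k => (c ∣_ O) ≫ k) hO
  simp only [a₀, b₀, morphismRestrict_ι_assoc, reassoc_of% hcA, reassoc_of% hcB] at this
  exact this

include hU hh hφ hφh in
/-- an extension after a flat surjective base change descends -/
theorem exists_ext [Surjective p] :
    ∃ H : Y ⟶ N, H ≫ πN = πY ∧ (πY ⁻¹ᵁ U).ι ≫ H = h := by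
  have key : ∀ y : Y, ∃ (W : Y.Opens) (m : W.toScheme ⟶ N), y ∈ W ∧ m ≫ πN = W.ι ≫ πY ∧
      ∀ {P : Scheme.{u}} (a : P ⟶ W.toScheme) (b : P ⟶ (πY ⁻¹ᵁ U).toScheme),
        a ≫ W.ι = b ≫ (πY ⁻¹ᵁ U).ι → a ≫ m = b ≫ h := by
    intro y
    obtain ⟨y', rfl⟩ := p.surjective y
    obtain ⟨θ, h1, h2⟩ := exists_stalk_ext U hU πY πN p h φ hφ hφh y'
    exact exists_nhd_ext U πY πN h hh _ θ h1 h2
  choose W m hyW hm hmh using key
  let 𝒲 := Y.openCoverOfIsOpenCover W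
    (Opens.coe_eq_univ.1 (Set.eq_univ_of_forall fun x => Opens.mem_iSup.2 ⟨x, hyW x⟩))
  have hcompat : ∀ i j : Y, pullback.fst (W i).ι (W j).ι ≫ m i = pullback.snd (W i).ι (W j).ι ≫ m j := by
    intro i j
    let q := pullback.fst (W i).ι (W j).ι ≫ (W i).ι
    haveI : Flat q := inferInstance
    refine SchDenseLib.hom_ext (SchDenseLib.preimage_of_isLocallyNoetherian (q ≫ πY) U hU) πN _ _ ?_ ?_
    · rw [Category.assoc, Category.assoc, hm, hm, pullback.condition_assoc]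
    · let b : ((q ≫ πY) ⁻¹ᵁ U).toScheme ⟶ (πY ⁻¹ᵁ U).toScheme := q ∣_ (πY ⁻¹ᵁ U)
      have hb : b ≫ (πY ⁻¹ᵁ U).ι = ((q ≫ πY) ⁻¹ᵁ U).ι ≫ q := morphismRestrict_ι _ _
      rw [← Category.assoc, ← Category.assoc, hmh i _ b, hmh j _ b]
      · exact (Category.assoc _ _ _).trans
          ((congrArg (_ ≫ ·) pullback.condition.symm).trans hb.symm)
      · exact (Category.assoc _ _ _).trans hb.symm
  refine ⟨𝒲.glueMorphisms m hcompat, ?_, ?_⟩
  · refine 𝒲.hom_ext _ _ fun i => ?_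
    rw [Scheme.Cover.ι_glueMorphisms_assoc]
    exact hm i
  · refine hom_ext_locally _ _ fun x => ?_
    let V := πY ⁻¹ᵁ U
    refine ⟨V.ι ⁻¹ᵁ W (V.ι x), hyW _, ?_⟩
    have e := morphismRestrict_ι V.ι (W (V.ι x))
    rw [← Category.assoc, ← e, Category.assoc]
    refine (congrArg (_ ≫ ·) (Scheme.Cover.ι_glueMorphisms 𝒲 m hcompat (V.ι x))).trans ?_
    exact hmh _ _ _ e

end Groth.Agent.NeronA.FlatDescExt
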