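import Mathlib.AlgebraicGeometry.SpreadingOut
import Mathlib.AlgebraicGeometry.Gluing
import Groth.Agent.NeronA.FlatDescExt

/-!
# Morphisms out of a flat monomorphism spread out to neighbourhoods of its image
-/

set_option autoImplicit false

universe u

open CategoryTheory Limits AlgebraicGeometry TopologicalSpace

namespace Groth.Agent.NeronA.FlatMonoSpread

variable {S W X N : Scheme.{u}} (ι : W ⟶ X) [Flat ι] [IsPreimmersion ι]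

omit [Flat ι] [IsPreimmersion ι] in
theorem restrict_apply (V : X.Opens) (w : W) (hw : ι w ∈ V) :
    V.ι ((ι ∣_ V) (⟨w, hw⟩ : (ι ⁻¹ᵁ V).toScheme)) = ι w :=
  congrArg (fun k : (ι ⁻¹ᵁ V).toScheme ⟶ X => k ⟨w, hw⟩) (morphismRestrict_ι ι V)

/-- shrinking around the image of a flat morphism -/
theorem exists_shrink [NoetherianSpace X] (A V : X.Opens) (h : ι ⁻¹ᵁ V ≤ ι ⁻¹ᵁ A) :
    ∃ X₂ : X.Opens, (∀ w, ι w ∈ X₂) ∧ X₂ ⊓ V ≤ A := by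
  refine ⟨⟨(closure ((V : Set X) ∩ (A : Set X)ᶜ))ᶜ, isClosed_closure.isOpen_compl⟩, fun w hw => ?_,
    fun x hx => ?_⟩
  · obtain ⟨z, hz, hzw⟩ := FlatDescExt.exists_specializes_of_mem_closure V.isOpen A.isOpen.isClosed_compl hw
    obtain ⟨z', -, rfl⟩ := Flat.generalizingMap ι hzw
    exact hz.2 (h hz.1)
  · by_contra hn
    exact hx.1 (subset_closure ⟨hx.2, hn⟩)

/-- morphisms agreeing on the image agree nearby -/
theorem exists_agree [IsLocallyNoetherian X] (a b : X ⟶ N) (h : ι ≫ a = ι ≫ b) :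
    ∃ A : X.Opens, (∀ w, ι w ∈ A) ∧ A.ι ≫ a = A.ι ≫ b := by
  let Ag : Set X := {x | ∃ O : X.Opens, x ∈ O ∧ O.ι ≫ a = O.ι ≫ b}
  have hAg : IsOpen Ag := isOpen_iff_forall_mem_open.2 fun z ⟨O, hz, hO⟩ =>
    ⟨O, fun _ hw => ⟨O, hw, hO⟩, O.isOpen, hz⟩
  let A : X.Opens := ⟨Ag, hAg⟩
  refine ⟨A, fun w => ?_, FlatDescExt.hom_ext_locally _ _ fun x => ?_⟩
  · haveI := H23.FFDescent.isIso_stalkMap_of_flat_of_isPreimmersion ι w
    show ι w ∈ Ag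
    obtain ⟨O, hO, hOab⟩ := spread_out_unique_of_isGermInjective' (x := ι w) a b (by
      rw [← cancel_epi (Spec.map (ι.stalkMap w)), Scheme.SpecMap_stalkMap_fromSpecStalk_assoc,
        Scheme.SpecMap_stalkMap_fromSpecStalk_assoc, h])
    exact ⟨O, hO, hOab⟩
  · obtain ⟨O, hxO, hO⟩ := x.2
    refine ⟨A.ι ⁻¹ᵁ O, hxO, ?_⟩
    rw [← reassoc_of% (morphismRestrict_ι A.ι O), hO, morphismRestrict_ι_assoc]

/-- local spreading out of a morphism given on the image -/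
theorem exists_local [IsLocallyNoetherian X] [IsLocallyNoetherian W] (sX : X ⟶ S) (sN : N ⟶ S)
    [LocallyOfFiniteType sN] (k : W ⟶ N) (hk : k ≫ sN = ι ≫ sX) (w : W) :
    ∃ (O : X.Opens) (m : O.toScheme ⟶ N), ι w ∈ O ∧ m ≫ sN = O.ι ≫ sX ∧
      ∀ {P : Scheme.{u}} (a : P ⟶ O.toScheme) (b : P ⟶ W), a ≫ O.ι = b ≫ ι → a ≫ m = b ≫ k := by
  haveI := H23.FFDescent.isIso_stalkMap_of_flat_of_isPreimmersion ι w
  have hiso : IsIso (Spec.map (ι.stalkMap w)) := inferInstance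
  let θ : Spec (X.presheaf.stalk (ι w)) ⟶ N := inv (Spec.map (ι.stalkMap w)) ≫ W.fromSpecStalk w ≫ k
  have hθ : θ ≫ sN = X.fromSpecStalk (ι w) ≫ sX := by
    rw [← cancel_epi (Spec.map (ι.stalkMap w))]
    simp only [θ, Category.assoc, IsIso.hom_inv_id_assoc, Scheme.SpecMap_stalkMap_fromSpecStalk_assoc, hk]
  obtain ⟨O, hwO, m, hm, hm'⟩ := spread_out_of_isGermInjective' sX sN θ hθ
  let P := ι ⁻¹ᵁ O
  let w' : P.toScheme := ⟨w, hwO⟩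
  obtain ⟨Q, hwQ, hQ⟩ := spread_out_unique_of_isGermInjective' (x := w') ((ι ∣_ O) ≫ m) (P.ι ≫ k) (by
    have e1 : P.toScheme.fromSpecStalk w' ≫ (ι ∣_ O) =
        Spec.map (P.ι.stalkMap w') ≫ Spec.map (ι.stalkMap w) ≫ O.fromSpecStalkOfMem (ι w) hwO := by
      rw [← cancel_mono O.ι]
      simp only [Category.assoc, morphismRestrict_ι, Scheme.Opens.fromSpecStalkOfMem_ι]
      refine (Scheme.SpecMap_stalkMap_fromSpecStalk_assoc P.ι ι).symm.trans ?_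
      exact congrArg (_ ≫ ·) (Scheme.SpecMap_stalkMap_fromSpecStalk ι).symm
    rw [reassoc_of% e1, ← hm]
    simp only [θ]
    refine (congrArg (_ ≫ ·) (@IsIso.hom_inv_id_assoc _ _ _ _ (Spec.map (ι.stalkMap w)) hiso _ _)).trans ?_
    exact Scheme.SpecMap_stalkMap_fromSpecStalk_assoc P.ι k)
  obtain ⟨O', hO', hO'eq⟩ := ι.isEmbedding.isInducing.isOpen_iff.1 (P.ι ''ᵁ Q).isOpen
  let O₁ : X.Opens := O ⊓ ⟨O', hO'⟩
  refine ⟨O₁, X.homOfLE inf_le_left ≫ m, ⟨hwO, ?_⟩, by rw [Category.assoc, hm', Scheme.homOfLE_ι_assoc], ?_⟩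
  · show w ∈ ι ⁻¹' O'
    rw [hO'eq]
    exact ⟨w', hwQ, rfl⟩
  · intro R a b hab
    have hr : Set.range b ⊆ Set.range P.ι := by
      rintro _ ⟨r, rfl⟩
      rw [Scheme.Opens.range_ι]
      show ι (b r) ∈ O
      rw [← Scheme.Hom.comp_apply, ← hab, Scheme.Hom.comp_apply]
      exact (a r).2.1
    let b₁ := IsOpenImmersion.lift P.ι b hr
    have hb₁ : b₁ ≫ P.ι = b := IsOpenImmersion.lift_fac _ _ _
    have hb₂ : b₁ ≫ (ι ∣_ O) = a ≫ X.homOfLE inf_le_left := by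
      rw [← cancel_mono O.ι, Category.assoc, morphismRestrict_ι, reassoc_of% hb₁, Category.assoc,
        Scheme.homOfLE_ι, hab]
    have hrQ : Set.range b₁ ⊆ Set.range Q.ι := by
      rintro _ ⟨r, rfl⟩
      rw [Scheme.Opens.range_ι]
      have : P.ι (b₁ r) ∈ ι ⁻¹' O' := by
        show ι (P.ι (b₁ r)) ∈ O'
        rw [← Scheme.Hom.comp_apply b₁ P.ι, hb₁, ← Scheme.Hom.comp_apply, ← hab, Scheme.Hom.comp_apply]
        exact (a r).2.2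
      rw [hO'eq] at this
      obtain ⟨q, hq, hqe⟩ := this
      rwa [← P.ι.isOpenEmbedding.injective hqe]
    let b₂ := IsOpenImmersion.lift Q.ι b₁ hrQ
    have hb₃ : b₂ ≫ Q.ι = b₁ := IsOpenImmersion.lift_fac _ _ _
    rw [← reassoc_of% hb₂, ← hb₁, Category.assoc, ← hb₃]
    simp only [Category.assoc, hQ]

/-- A morphism on the source of a flat preimmersion spreads out to a neighbourhood of the image. -/
theorem exists_nhd_map [IsLocallyNoetherian X] [NoetherianSpace X] [IsLocallyNoetherian W] [CompactSpace W]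
    (sX : X ⟶ S) (sN : N ⟶ S) [LocallyOfFiniteType sN] (k : W ⟶ N) (hk : k ≫ sN = ι ≫ sX) :
    ∃ (X₁ : X.Opens) (j : W ⟶ X₁.toScheme) (m : X₁.toScheme ⟶ N),
      j ≫ X₁.ι = ι ∧ m ≫ sN = X₁.ι ≫ sX ∧ j ≫ m = k := by
  classical
  choose O m hwO hm hmk using exists_local ι sX sN k hk
  obtain ⟨t, ht⟩ := (isCompact_range ι.continuous).elim_finite_subcover (fun w => (O w : Set X))
    (fun w => (O w).isOpen) (by rintro _ ⟨w, rfl⟩; exact Set.mem_iUnion.2 ⟨w, hwO w⟩)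
  have hov : ∀ i j : W, ∃ M : X.Opens, (∀ w, ι w ∈ M) ∧
      ∀ {P : Scheme.{u}} (a : P ⟶ (O i).toScheme) (b : P ⟶ (O j).toScheme),
        a ≫ (O i).ι = b ≫ (O j).ι → (∀ p, (a ≫ (O i).ι) p ∈ M) → a ≫ m i = b ≫ m j := by
    intro i j
    let V : X.Opens := O i ⊓ O j
    obtain ⟨A, hA, hAeq⟩ := exists_agree (ι ∣_ V) (X.homOfLE (inf_le_left : V ≤ O i) ≫ m i)
      (X.homOfLE (inf_le_right : V ≤ O j) ≫ m j) (by
        rw [← Category.assoc, ← Category.assoc,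
          hmk i _ (ι ⁻¹ᵁ V).ι (by simp), hmk j _ (ι ⁻¹ᵁ V).ι (by simp)])
    obtain ⟨M, hM, hMA⟩ := exists_shrink ι (V.ι ''ᵁ A) V
      (fun w hw => ⟨(ι ∣_ V) ⟨w, hw⟩, hA _, restrict_apply ι _ w _⟩)
    refine ⟨M, hM, fun {P} a b hab hP => ?_⟩
    have hr : Set.range (a ≫ (O i).ι) ⊆ Set.range (A.ι ≫ V.ι) := by
      rintro _ ⟨p, rfl⟩
      have hV : (a ≫ (O i).ι) p ∈ V := by
        refine ⟨(a p).2, ?_⟩
        rw [hab, Scheme.Hom.comp_apply]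
        exact (b p).2
      obtain ⟨q, hq, hqe⟩ := hMA ⟨hP p, hV⟩
      exact ⟨⟨q, hq⟩, hqe⟩
    let c := IsOpenImmersion.lift (A.ι ≫ V.ι) (a ≫ (O i).ι) hr
    have hc : c ≫ A.ι ≫ V.ι = a ≫ (O i).ι := IsOpenImmersion.lift_fac _ _ _
    have h1 : c ≫ A.ι ≫ X.homOfLE (inf_le_left : V ≤ O i) = a := by
      rw [← cancel_mono (O i).ι]; simp [hc]
    have h2 : c ≫ A.ι ≫ X.homOfLE (inf_le_right : V ≤ O j) = b := by
      rw [← cancel_mono (O j).ι]; simp [hc, hab]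
    calc a ≫ m i = c ≫ A.ι ≫ X.homOfLE (inf_le_left : V ≤ O i) ≫ m i := by rw [reassoc_of% h1]
      _ = c ≫ A.ι ≫ X.homOfLE (inf_le_right : V ≤ O j) ≫ m j := by rw [hAeq]
      _ = b ≫ m j := by rw [reassoc_of% h2]
  choose M hM hMm using hov
  let M₀ : X.Opens := (t ×ˢ t).inf fun ij => M ij.1 ij.2
  let G : t → X.Opens := fun i => O i.1 ⊓ M₀
  let 𝒢 := Scheme.Opens.iSupOpenCover G
  have hjr : Set.range ι ⊆ Set.range (⨆ i, G i).ι := by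
    rintro _ ⟨w, rfl⟩
    obtain ⟨i, hi⟩ := Set.mem_iUnion.1 (ht (Set.mem_range_self w))
    obtain ⟨hit, hwi⟩ := Set.mem_iUnion.1 hi
    rw [Scheme.Opens.range_ι]
    refine Opens.mem_iSup.2 ⟨⟨i, hit⟩, hwi, ?_⟩
    rw [SetLike.mem_coe, ← SetLike.mem_coe, Opens.coe_finset_inf]
    simpa using fun a b _ _ => hM a b w
  let mG : ∀ i : t, (G i).toScheme ⟶ N := fun i => X.homOfLE (inf_le_left : G i ≤ O i.1) ≫ m i.1
  have hcompat : ∀ i j : t, pullback.fst (X.homOfLE (le_iSup G i)) (X.homOfLE (le_iSup G j)) ≫ mG i =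
      pullback.snd (X.homOfLE (le_iSup G i)) (X.homOfLE (le_iSup G j)) ≫ mG j := by
    intro i j
    simp only [mG, ← Category.assoc]
    refine hMm i.1 j.1 _ _ ?_ fun p => ?_
    · simp only [Category.assoc, Scheme.homOfLE_ι]
      have := pullback.condition (f := X.homOfLE (le_iSup G i)) (g := X.homOfLE (le_iSup G j)) =≫ (⨆ i, G i).ι
      simpa using this
    · simp only [Category.assoc, Scheme.homOfLE_ι, Scheme.Hom.comp_apply]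
      have h0 : M₀ ≤ M i.1 j.1 := Finset.inf_le (f := fun ij : W × W => M ij.1 ij.2)
        (Finset.mem_product.2 ⟨i.2, j.2⟩ : (i.1, j.1) ∈ t ×ˢ t)
      exact h0 (pullback.fst (X.homOfLE (le_iSup G i)) (X.homOfLE (le_iSup G j)) p).2.2
  let m₁ := 𝒢.glueMorphisms mG hcompat
  have hm₁ : ∀ i : t, X.homOfLE (le_iSup G i) ≫ m₁ = mG i := fun i => Scheme.Cover.ι_glueMorphisms 𝒢 mG hcompat i
  let j := IsOpenImmersion.lift (⨆ i, G i).ι ι hjr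
  have hj : j ≫ (⨆ i, G i).ι = ι := IsOpenImmersion.lift_fac _ _ _
  refine ⟨⨆ i, G i, j, m₁, hj, ?_, ?_⟩
  · refine 𝒢.hom_ext _ _ fun i => ?_
    show X.homOfLE (le_iSup G i) ≫ _ = X.homOfLE (le_iSup G i) ≫ _
    rw [reassoc_of% (hm₁ i)]
    simp [mG, hm]
  · refine FlatDescExt.hom_ext_locally _ _ fun w => ?_
    obtain ⟨i, hi⟩ := Opens.mem_iSup.1 (j w).2
    refine ⟨ι ⁻¹ᵁ G i, ?_, ?_⟩
    · show ι w ∈ G i
      rw [← hj, Scheme.Hom.comp_apply]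
      exact hi
    · have e : (ι ⁻¹ᵁ G i).ι ≫ j = (ι ∣_ G i) ≫ X.homOfLE (le_iSup G i) := by
        rw [← cancel_mono (⨆ i, G i).ι]; simp [hj]
      rw [reassoc_of% e, hm₁]
      simp only [mG, ← Category.assoc]
      exact hmk i.1 _ _ (by simp)

variable (U : S.Opens) (sX : X ⟶ S) (sN : N ⟶ S)

/-- restriction from an open part of the base is bijective after a flat preimmersion, if it is so on
every open neighbourhood of the image -/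
theorem bijective_of_model [IsLocallyNoetherian X] [NoetherianSpace X] [IsLocallyNoetherian W] [CompactSpace W]
    [LocallyOfFiniteType sN]
    (inj : ∀ (X₁ : X.Opens) (a b : X₁.toScheme ⟶ N), a ≫ sN = X₁.ι ≫ sX → b ≫ sN = X₁.ι ≫ sX →
      (X₁.ι ⁻¹ᵁ (sX ⁻¹ᵁ U)).ι ≫ a = (X₁.ι ⁻¹ᵁ (sX ⁻¹ᵁ U)).ι ≫ b → a = b)
    (surj : ∀ (X₁ : X.Opens) (h : (X₁.ι ⁻¹ᵁ (sX ⁻¹ᵁ U)).toScheme ⟶ N),
      h ≫ sN = (X₁.ι ⁻¹ᵁ (sX ⁻¹ᵁ U)).ι ≫ X₁.ι ≫ sX →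
      ∃ H : X₁.toScheme ⟶ N, H ≫ sN = X₁.ι ≫ sX ∧ (X₁.ι ⁻¹ᵁ (sX ⁻¹ᵁ U)).ι ≫ H = h) :
    (∀ a b : W ⟶ N, a ≫ sN = ι ≫ sX → b ≫ sN = ι ≫ sX →
      (ι ⁻¹ᵁ (sX ⁻¹ᵁ U)).ι ≫ a = (ι ⁻¹ᵁ (sX ⁻¹ᵁ U)).ι ≫ b → a = b) ∧
    (∀ h : (ι ⁻¹ᵁ (sX ⁻¹ᵁ U)).toScheme ⟶ N, h ≫ sN = (ι ⁻¹ᵁ (sX ⁻¹ᵁ U)).ι ≫ ι ≫ sX →
      ∃ H : W ⟶ N, H ≫ sN = ι ≫ sX ∧ (ι ⁻¹ᵁ (sX ⁻¹ᵁ U)).ι ≫ H = h) := by
  let V := sX ⁻¹ᵁ U
  constructor
  · intro a b ha hb hab
    obtain ⟨Xa, ja, ma, hja, hma, hmaa⟩ := exists_nhd_map ι sX sN a ha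
    obtain ⟨Xb, jb, mb, hjb, hmb, hmbb⟩ := exists_nhd_map ι sX sN b hb
    let X' : X.Opens := Xa ⊓ Xb
    have hι : ∀ w, ι w ∈ X' := fun w =>
      ⟨by rw [← hja, Scheme.Hom.comp_apply]; exact (ja w).2, by rw [← hjb, Scheme.Hom.comp_apply]; exact (jb w).2⟩
    let X'' : X.Opens := X' ⊓ V
    let a'' := X.homOfLE (inf_le_left.trans inf_le_left : X'' ≤ Xa) ≫ ma
    let b'' := X.homOfLE (inf_le_left.trans inf_le_right : X'' ≤ Xb) ≫ mb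
    obtain ⟨A, hA, hAeq⟩ := exists_agree (ι ∣_ X'') a'' b'' (by
      have e1 : (ι ∣_ X'') ≫ X.homOfLE (inf_le_left.trans inf_le_left : X'' ≤ Xa) = (ι ⁻¹ᵁ X'').ι ≫ ja := by
        rw [← cancel_mono Xa.ι]; simp [hja]
      have e2 : (ι ∣_ X'') ≫ X.homOfLE (inf_le_left.trans inf_le_right : X'' ≤ Xb) = (ι ⁻¹ᵁ X'').ι ≫ jb := by
        rw [← cancel_mono Xb.ι]; simp [hjb]
      simp only [a'', b'']
      rw [reassoc_of% e1, hmaa, reassoc_of% e2, hmbb,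
        ← Scheme.homOfLE_ι W (U := ι ⁻¹ᵁ X'') (V := ι ⁻¹ᵁ V) (fun _ hw => hw.2), Category.assoc,
        Category.assoc, hab])
    obtain ⟨M, hM, hMA⟩ := exists_shrink ι (X''.ι ''ᵁ A) V
      (fun w hw => ⟨(ι ∣_ X'') ⟨w, ⟨hι w, hw⟩⟩, hA _, restrict_apply ι _ w _⟩)
    let X₂ : X.Opens := X' ⊓ M
    let a₂ := X.homOfLE (inf_le_left.trans inf_le_left : X₂ ≤ Xa) ≫ ma
    let b₂ := X.homOfLE (inf_le_left.trans inf_le_right : X₂ ≤ Xb) ≫ mb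
    have heq : a₂ = b₂ := by
      refine inj X₂ _ _ (by simp only [a₂, Category.assoc, hma, Scheme.homOfLE_ι_assoc]; rfl) (by simp only [b₂, Category.assoc, hmb, Scheme.homOfLE_ι_assoc]; rfl) ?_
      let P := X₂.ι ⁻¹ᵁ V
      have hr : Set.range (P.ι ≫ X₂.ι) ⊆ Set.range (A.ι ≫ X''.ι) := by
        rintro _ ⟨p, rfl⟩
        obtain ⟨q, hq, hqe⟩ := hMA (x := (P.ι ≫ X₂.ι) p) ⟨p.1.2.2, p.2⟩
        exact ⟨⟨q, hq⟩, hqe⟩
      let c := IsOpenImmersion.lift (A.ι ≫ X''.ι) (P.ι ≫ X₂.ι) hr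
      have hc : c ≫ A.ι ≫ X''.ι = P.ι ≫ X₂.ι := IsOpenImmersion.lift_fac _ _ _
      have h1 : c ≫ A.ι ≫ X.homOfLE (inf_le_left.trans inf_le_left : X'' ≤ Xa) =
          P.ι ≫ X.homOfLE (inf_le_left.trans inf_le_left : X₂ ≤ Xa) := by
        rw [← cancel_mono Xa.ι]; simp [hc]
      have h2 : c ≫ A.ι ≫ X.homOfLE (inf_le_left.trans inf_le_right : X'' ≤ Xb) =
          P.ι ≫ X.homOfLE (inf_le_left.trans inf_le_right : X₂ ≤ Xb) := by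
        rw [← cancel_mono Xb.ι]; simp [hc]
      show P.ι ≫ a₂ = P.ι ≫ b₂
      simp only [a₂, b₂]
      rw [← reassoc_of% h1, ← reassoc_of% h2]
      exact congrArg (c ≫ ·) hAeq
    have hr2 : Set.range ι ⊆ Set.range X₂.ι := by
      rintro _ ⟨w, rfl⟩
      rw [Scheme.Opens.range_ι]
      exact ⟨hι w, hM w⟩
    let j₂ := IsOpenImmersion.lift X₂.ι ι hr2
    have hj₂ : j₂ ≫ X₂.ι = ι := IsOpenImmersion.lift_fac _ _ _
    have e1 : j₂ ≫ X.homOfLE (inf_le_left.trans inf_le_left : X₂ ≤ Xa) = ja := by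
      rw [← cancel_mono Xa.ι]; simp [hj₂, hja]
    have e2 : j₂ ≫ X.homOfLE (inf_le_left.trans inf_le_right : X₂ ≤ Xb) = jb := by
      rw [← cancel_mono Xb.ι]; simp [hjb, hj₂]
    rw [← hmaa, ← hmbb, ← e1, ← e2, Category.assoc, Category.assoc]
    exact congrArg (j₂ ≫ ·) heq
  · intro h hh
    haveI : IsNoetherian W := { }
    haveI : CompactSpace (ι ⁻¹ᵁ V).toScheme :=
      isCompact_iff_compactSpace.mp (NoetherianSpace.isCompact _)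
    haveI : NoetherianSpace V.toScheme := inferInstanceAs (NoetherianSpace (V : Set X))
    obtain ⟨X₁, j, m, hj, hm, hjm⟩ := exists_nhd_map (ι ∣_ V) (V.ι ≫ sX) sN h (by
      rw [morphismRestrict_ι_assoc]; exact hh)
    obtain ⟨M, hM, hMA⟩ := exists_shrink ι (V.ι ''ᵁ X₁) V (fun w hw => ⟨(ι ∣_ V) ⟨w, hw⟩, by
      rw [← hj, Scheme.Hom.comp_apply]; exact (j _).2, restrict_apply ι _ w _⟩)
    let P := M.ι ⁻¹ᵁ V
    have hr : Set.range (P.ι ≫ M.ι) ⊆ Set.range (X₁.ι ≫ V.ι) := by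
      rintro _ ⟨p, rfl⟩
      obtain ⟨q, hq, hqe⟩ := hMA (x := (P.ι ≫ M.ι) p) ⟨p.1.2, p.2⟩
      exact ⟨⟨q, hq⟩, hqe⟩
    let c := IsOpenImmersion.lift (X₁.ι ≫ V.ι) (P.ι ≫ M.ι) hr
    have hc : c ≫ X₁.ι ≫ V.ι = P.ι ≫ M.ι := IsOpenImmersion.lift_fac _ _ _
    obtain ⟨H, hH, hHh⟩ := surj M (c ≫ m) (by
      rw [Category.assoc, hm, reassoc_of% hc])
    have hrι : Set.range ι ⊆ Set.range M.ι := by
      rintro _ ⟨w, rfl⟩
      rw [Scheme.Opens.range_ι]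
      exact hM w
    let jM := IsOpenImmersion.lift M.ι ι hrι
    have hjM : jM ≫ M.ι = ι := IsOpenImmersion.lift_fac _ _ _
    refine ⟨jM ≫ H, by rw [Category.assoc, hH, reassoc_of% hjM], ?_⟩
    have hrP : Set.range ((ι ⁻¹ᵁ V).ι ≫ jM) ⊆ Set.range P.ι := by
      rintro _ ⟨w, rfl⟩
      rw [Scheme.Opens.range_ι]
      show M.ι (((ι ⁻¹ᵁ V).ι ≫ jM) w) ∈ V
      rw [← Scheme.Hom.comp_apply, Category.assoc, hjM, Scheme.Hom.comp_apply]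
      exact w.2
    let d := IsOpenImmersion.lift P.ι ((ι ⁻¹ᵁ V).ι ≫ jM) hrP
    have hd : d ≫ P.ι = (ι ⁻¹ᵁ V).ι ≫ jM := IsOpenImmersion.lift_fac _ _ _
    rw [← reassoc_of% hd, hHh, ← hjm, ← Category.assoc]
    congr 1
    rw [← cancel_mono X₁.ι, ← cancel_mono V.ι]
    simp only [Category.assoc]
    rw [reassoc_of% hj, morphismRestrict_ι, hc, reassoc_of% hd, hjM]

end Groth.Agent.NeronA.FlatMonoSpread
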