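import Groth.Agent.WQ7.Free
import Mathlib.RingTheory.Smooth.Fiber
import Mathlib.RingTheory.Unramified.Finite
import Mathlib.RingTheory.Etale.Locus
import Mathlib.RingTheory.Invariant.Basic

/-!
# Trivial inertia gives étaleness over the ring of invariants
-/

set_option autoImplicit false

universe u w

open TensorProduct

namespace Groth.Agent.NeronA

variable {R B : Type u} [CommRing R] [IsNoetherianRing R] [CommRing B] [Algebra R B] [Module.Finite R B]
  {G : Type w} [Group G] [Finite G] [MulSemiringAction G B] [SMulCommClass G R B]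

/-- A delta function with coefficient `r` makes `B` étale over the locus where `r` is invertible. -/
theorem etale_away_of_delta (hinj : Function.Injective (algebraMap R B)) (hfix : ∀ a : B, (∀ g : G, g • a = a) → a ∈ Set.range (algebraMap R B))
    {r : R} (h : ∀ [DecidableEq G],
      Pi.single (1 : G) (algebraMap R B r) ∈ WQ7.orbitSpan (H := G) (⊤ : Subalgebra R B)) :
    Algebra.Etale R (Localization.Away (algebraMap R B r)) := by
  classical
  let := Fintype.ofFinite G
  obtain ⟨l, x, f, hsum⟩ := Submodule.mem_span_set'.mp (@h _)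
  choose y hy using fun k => (f k).2
  have hval : ∀ g : G, ∑ k, x k * (g • (y k : B)) = if g = 1 then algebraMap R B r else 0 := fun g => by
    have := congrFun hsum g
    simp only [Finset.sum_apply, Pi.smul_apply, smul_eq_mul] at this
    rw [Pi.single_apply] at this
    rw [← this]
    exact Finset.sum_congr rfl fun k _ => by rw [← hy k]
  have hy1 : ∑ k, x k * (y k : B) = algebraMap R B r := by simpa using hval 1
  let tr : B → B := fun a => ∑ g : G, g • a
  choose t ht using fun a : B => hfix (tr a) fun g => by
    show g • ∑ k : G, k • a = _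
    rw [Finset.smul_sum]
    exact Fintype.sum_equiv (Equiv.mulLeft g) _ _ fun k => (mul_smul g k a).symm
  have hrep : ∀ a : B, r • a = ∑ k, algebraMap R B (t (a * (y k : B))) * x k := by
    intro a
    simp only [ht, tr, Finset.sum_mul]
    rw [Finset.sum_comm]
    calc r • a = ∑ g : G, (g • a) * ∑ k, x k * (g • (y k : B)) := by
          rw [Finset.sum_eq_single (1 : G) (fun g _ hg => by rw [hval, if_neg hg, mul_zero])
            (fun h => absurd (Finset.mem_univ _) h)]
          rw [hval, if_pos rfl, one_smul, Algebra.smul_def, mul_comm]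
      _ = _ := Finset.sum_congr rfl fun g _ => by
          simp only [Finset.mul_sum, smul_mul']
          exact Finset.sum_congr rfl fun k _ => by ring
  -- elements of `B ⊗ B` killed by all twisted multiplications are killed by `r`
  let ev : G → (B ⊗[R] B →ₗ[R] B) := fun g =>
    TensorProduct.lift ((LinearMap.mul R B).compl₂ (DistribMulAction.toLinearMap R B g))
  have hev : ∀ g a b, ev g (a ⊗ₜ[R] b) = a * g • b := fun _ _ _ => rfl
  have hker : ∀ z : B ⊗[R] B, r • z = ∑ k, (∑ g : G, ev g z * g • (y k : B)) ⊗ₜ[R] x k := by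
    intro z
    induction z using TensorProduct.induction_on with
    | zero => simp
    | tmul a b =>
      rw [← TensorProduct.tmul_smul, hrep, TensorProduct.tmul_sum]
      refine Finset.sum_congr rfl fun k _ => ?_
      rw [← Algebra.smul_def, TensorProduct.tmul_smul, TensorProduct.smul_tmul', Algebra.smul_def,
        mul_comm, ht, Finset.mul_sum]
      congr 1
      exact Finset.sum_congr rfl fun g _ => by rw [hev, smul_mul', mul_assoc]
    | add z w hz hw =>
      simp only [smul_add, hz, hw, map_add, add_mul, Finset.sum_add_distrib, TensorProduct.add_tmul]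
  let e : B ⊗[R] B := ∑ k, x k ⊗ₜ[R] (y k : B)
  have hkill : ∀ a : B, r • (((1 : B) ⊗ₜ[R] a - a ⊗ₜ[R] (1 : B)) * e) = 0 := by
    intro a
    rw [hker]
    refine Finset.sum_eq_zero fun k _ => ?_
    rw [Finset.sum_eq_zero (fun g _ => ?_), TensorProduct.zero_tmul]
    have : ev g (((1 : B) ⊗ₜ[R] a - a ⊗ₜ[R] (1 : B)) * e) = (g • a - a) * ∑ i, x i * g • (y i : B) := by
      simp only [e, Finset.mul_sum, sub_mul, Algebra.TensorProduct.tmul_mul_tmul, map_sum, map_sub,
        hev, one_mul, smul_mul']
      exact Finset.sum_congr rfl fun i _ => by ring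
    rw [this, hval]
    by_cases hg : g = 1
    · subst hg; simp
    · simp [hg]
  let S := Localization.Away (algebraMap R B r)
  let ι := IsScalarTower.toAlgHom R B S
  have hru : IsUnit (algebraMap R S r) := by
    rw [IsScalarTower.algebraMap_apply R B S]
    exact IsLocalization.Away.algebraMap_isUnit _
  haveI : Algebra.FiniteType R S := (inferInstance : Algebra.FiniteType R B).trans inferInstance
  haveI : Algebra.FinitePresentation R S := Algebra.FinitePresentation.of_finiteType.mp inferInstance
  haveI : Module.Flat R S := by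
    let Rr := Localization.Away r
    let q : B →ₗ[R] (Fin l → R) := LinearMap.pi fun k =>
      { toFun := fun a => t (a * (y k : B))
        map_add' := fun a b => hinj (by
          simp only [map_add, ht, tr, ← Finset.sum_add_distrib, add_mul, smul_add])
        map_smul' := fun c a => hinj (by
          simp only [ht, tr, smul_eq_mul, RingHom.id_apply, map_mul, Finset.mul_sum, ← Algebra.smul_def,
            smul_mul_assoc, smul_comm _ c]) }
    let v : (Fin l → R) →ₗ[R] B := ∑ k, (LinearMap.proj k).smulRight (x k)
    have hvq : v ∘ₗ q = r • LinearMap.id := LinearMap.ext fun a => by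
      simp only [LinearMap.smul_apply, LinearMap.id_apply, hrep a]
      simp [v, q, Algebra.smul_def]
    haveI : Module.Flat R Rr := IsLocalization.flat Rr (Submonoid.powers r)
    obtain ⟨w, hw⟩ := (IsLocalization.Away.algebraMap_isUnit r : IsUnit (algebraMap R Rr r))
    let wm : Rr →ₗ[R] Rr := LinearMap.mulLeft R (↑w⁻¹ : Rr)
    have key : (wm.rTensor B ∘ₗ v.lTensor Rr) ∘ₗ q.lTensor Rr = LinearMap.id := by
      rw [LinearMap.comp_assoc, ← LinearMap.lTensor_comp, hvq]
      refine TensorProduct.ext' fun a b => ?_
      show ((↑w⁻¹ : Rr) * a) ⊗ₜ[R] (r • b) = a ⊗ₜ[R] b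
      rw [← TensorProduct.smul_tmul, Algebra.smul_def, ← hw, ← mul_assoc, Units.mul_inv, one_mul]
    haveI : Module.Flat R (Rr ⊗[R] B) :=
      Module.Flat.of_retract (q.lTensor Rr) (wm.rTensor B ∘ₗ v.lTensor Rr) key
    have hl : IsLocalization (Algebra.algebraMapSubmonoid B (Submonoid.powers r)) S := by
      rw [Algebra.algebraMapSubmonoid_powers]; exact (inferInstance : IsLocalization.Away (algebraMap R B r) S)
    haveI := hl
    haveI : IsLocalizedModule (Submonoid.powers r) (IsScalarTower.toAlgHom R B S).toLinearMap :=
      inferInstance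
    exact Module.Flat.of_linearEquiv
      ((IsLocalizedModule.iso (Submonoid.powers r) (IsScalarTower.toAlgHom R B S).toLinearMap).symm.trans
          (IsLocalizedModule.iso (Submonoid.powers r) (TensorProduct.mk R Rr B 1)))
  haveI : Algebra.FormallyUnramified R S := by
    rw [Algebra.FormallyUnramified.iff_exists_tensorProduct]
    obtain ⟨u, hu⟩ := hru
    refine ⟨((↑u⁻¹ : S) ⊗ₜ[R] (1 : S)) * Algebra.TensorProduct.map ι ι e, fun s => ?_, ?_⟩
    · obtain ⟨n, a, hn⟩ := IsLocalization.Away.surj (algebraMap R B r) s
      have hin : ((1 : S) ⊗ₜ[R] s - s ⊗ₜ[R] (1 : S)) * algebraMap R (S ⊗[R] S) (r ^ n) =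
          Algebra.TensorProduct.map ι ι ((1 : B) ⊗ₜ[R] a - a ⊗ₜ[R] (1 : B)) := by
        have hs : s * algebraMap R S (r ^ n) = ι a := by
          rw [map_pow, IsScalarTower.algebraMap_apply R B S]; exact hn
        simp only [map_sub, Algebra.TensorProduct.map_tmul, map_one, sub_mul]
        congr 1
        · rw [← hs, Algebra.TensorProduct.algebraMap_apply', Algebra.TensorProduct.tmul_mul_tmul, one_mul]
        · rw [← hs, Algebra.TensorProduct.algebraMap_apply, Algebra.TensorProduct.tmul_mul_tmul, mul_one]
      have hU : IsUnit (algebraMap R (S ⊗[R] S) r) := by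
        rw [Algebra.TensorProduct.algebraMap_apply, ← hu]
        exact u.isUnit.map (Algebra.TensorProduct.includeLeft : S →ₐ[R] S ⊗[R] S)
      refine (IsUnit.mul_right_eq_zero (hU.pow (n + 1))).1 ?_
      have := congrArg (Algebra.TensorProduct.map ι ι) (hkill a)
      rw [map_smul, map_mul, ← hin, map_zero, Algebra.smul_def, map_pow] at this
      calc _ = ((↑u⁻¹ : S) ⊗ₜ[R] (1 : S)) * (algebraMap R (S ⊗[R] S) r * (((1 : S) ⊗ₜ[R] s - s ⊗ₜ[R] (1 : S)) *
            algebraMap R (S ⊗[R] S) r ^ n * Algebra.TensorProduct.map ι ι e)) := by ring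
        _ = 0 := by rw [this, mul_zero]
    · rw [map_mul, Algebra.TensorProduct.lmul'_apply_tmul, mul_one]
      have : Algebra.TensorProduct.lmul' R (Algebra.TensorProduct.map ι ι e) = algebraMap R S r := by
        simp only [e, map_sum, Algebra.TensorProduct.map_tmul, Algebra.TensorProduct.lmul'_apply_tmul,
          ← map_mul]
        rw [← map_sum, hy1]
        exact (IsScalarTower.algebraMap_apply R B S r).symm
      rw [this, ← hu, Units.inv_mul]
  exact Algebra.Etale.of_formallyUnramified_of_flat

/-- Trivial inertia at every prime above `p` gives étaleness at every prime above `p`. -/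
theorem isEtaleAt_of_inertia (hinj : Function.Injective (algebraMap R B))
    (hfix : ∀ a : B, (∀ g : G, g • a = a) → a ∈ Set.range (algebraMap R B))
    (p : Ideal R) [p.IsPrime]
    (hp : ∀ Q : Ideal B, Q.IsPrime → Q.comap (algebraMap R B) = p → Q.inertia G = ⊥)
    (Q : Ideal B) [Q.IsPrime] (hQ : Q.comap (algebraMap R B) = p) : Algebra.IsEtaleAt R Q := by
  haveI : Algebra.IsIntegral R B := Algebra.IsIntegral.of_finite R B
  haveI : Algebra.FinitePresentation R B := Algebra.FinitePresentation.of_finiteType.mp inferInstance
  obtain ⟨r, hr, hmem⟩ := WQ7.exists_delta (G := G) p hp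
  have het := etale_away_of_delta hinj hfix (r := r) (by intro _; convert hmem)
  exact Algebra.basicOpen_subset_etaleLocus_iff_etale.2 het
    (show (⟨Q, inferInstance⟩ : PrimeSpectrum B) ∈ PrimeSpectrum.basicOpen (algebraMap R B r) from
      fun h => hr (by rw [← hQ]; exact h))

end Groth.Agent.NeronA
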