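import Groth.Agent.NeronA.EtaleNormalization
import Groth.Agent.WeilExt.Dedekind
import Groth.Agent.S2155
import Groth.Prelude.Def_Neron
import Mathlib

/-!
Integral closure of a Dedekind domain in an etale algebra over its fraction field, and extension of
generic maps into finite schemes.
-/

set_option autoImplicit false
set_option linter.style.haveILetI false
set_option backward.isDefEq.respectTransparency.types false

universe u

open CategoryTheory Limits AlgebraicGeometry TopologicalSpace

namespace Groth.Agent.NeronA.GenericFinite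

variable (R : Type u) [CommRing R] [IsDedekindDomain R] (B : Type u) [CommRing B]
  [Algebra (FractionRing R) B] [Algebra R B] [IsScalarTower R (FractionRing R) B]
  [Algebra.Etale (FractionRing R) B] [Module.Finite (FractionRing R) B]

theorem isPushout : Algebra.IsPushout R (integralClosure R B) (FractionRing R) B := by
  let C := integralClosure R B
  let M := nonZeroDivisors R
  haveI : IsLocalization (Algebra.algebraMapSubmonoid C M) B := by
    have hunit : ∀ m : M, IsUnit (algebraMap R B m) := fun m => by
      rw [IsScalarTower.algebraMap_apply R (FractionRing R) B]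
      exact (IsLocalization.map_units (FractionRing R) m).map _
    refine ⟨⟨?_, ?_, ?_⟩⟩
    · rintro ⟨_, r, hr, rfl⟩
      exact hunit ⟨r, hr⟩
    · intro b
      have hb : _root_.IsIntegral (FractionRing R) b := Algebra.IsIntegral.isIntegral b
      obtain ⟨m, hm⟩ := hb.exists_multiple_integral_of_isLocalization M
      refine ⟨⟨⟨_, hm⟩, _, m.1, m.2, rfl⟩, ?_⟩
      show b * algebraMap R B m = m • b
      rw [Submonoid.smul_def, Algebra.smul_def, mul_comm]
    · intro x y h
      exact ⟨1, by rw [Subtype.val_injective h]⟩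
  haveI : IsLocalization M (FractionRing R) := inferInstance
  exact Algebra.isPushout_of_isLocalization M (FractionRing R) C B

theorem finite_and_normal :
    Module.Finite R (integralClosure R B) ∧ EGA4.IsNormalRing (integralClosure R B) := by
  let K := FractionRing R
  haveI : IsArtinianRing B := IsArtinianRing.of_finite K B
  haveI : _root_.IsReduced B := Algebra.FormallyUnramified.isReduced_of_field K B
  let e := (IsArtinianRing.equivPi B).toRingEquiv
  letI : ∀ I : MaximalSpectrum B, Field (B ⧸ I.asIdeal) := fun I =>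
    haveI := I.isMaximal
    Ideal.Quotient.field I.asIdeal
  refine ⟨?_, EtaleNormalization.isNormalRing_integralClosure (fun I : MaximalSpectrum B => B ⧸ I.asIdeal) e⟩
  haveI : ∀ I : MaximalSpectrum B, Module.Finite R (integralClosure R (B ⧸ I.asIdeal)) := fun I => by
    haveI : Module.Finite K (B ⧸ I.asIdeal) := Module.Finite.quotient K I.asIdeal
    haveI : Algebra.FormallyUnramified K (B ⧸ I.asIdeal) := Algebra.FormallyUnramified.comp K B (B ⧸ I.asIdeal)
    haveI : Algebra.IsSeparable K (B ⧸ I.asIdeal) := Algebra.FormallyUnramified.isSeparable K _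
    exact IsIntegralClosure.finite R K (B ⧸ I.asIdeal) _
  haveI : IsNoetherian R ((I : MaximalSpectrum B) → integralClosure R (B ⧸ I.asIdeal)) :=
    isNoetherian_of_isNoetherianRing_of_finite _ _
  let L : integralClosure R B →ₗ[R] ((I : MaximalSpectrum B) → integralClosure R (B ⧸ I.asIdeal)) :=
    LinearMap.pi fun I => ((Ideal.Quotient.mkₐ R I.asIdeal).comp (integralClosure R B).val).toLinearMap.codRestrict
      (integralClosure R (B ⧸ I.asIdeal)).toSubmodule fun z => z.2.map (Ideal.Quotient.mkₐ R I.asIdeal)
  refine Module.Finite.of_injective L fun a b h => Subtype.ext (e.injective ?_)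
  funext I
  exact congrArg Subtype.val (congrFun h I)

end Groth.Agent.NeronA.GenericFinite

namespace Groth.Agent.NeronA.GenericFinite

theorem isNormalScheme_spec (C : CommRingCat.{u}) (h : EGA4.IsNormalRing C) : Pi1.IsNormalScheme (Spec C) := by
  intro x
  have hU := isAffineOpen_top (Spec C)
  have hΓ : EGA4.IsNormalRing Γ(Spec C, ⊤) :=
    FlatLoc6.isNormalRing_of_ringEquiv (Scheme.ΓSpecIso C).commRingCatIsoToRingEquiv.symm h
  let q := hU.primeIdealOf ⟨x, trivial⟩
  letI := TopCat.Presheaf.algebra_section_stalk (Spec C).presheaf (⟨x, trivial⟩ : (⊤ : (Spec C).Opens))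
  haveI : IsLocalization.AtPrime ((Spec C).presheaf.stalk x) q.asIdeal := hU.isLocalization_stalk ⟨x, trivial⟩
  let e := (IsLocalization.algEquiv q.asIdeal.primeCompl ((Spec C).presheaf.stalk x)
    (Localization.AtPrime q.asIdeal)).toRingEquiv
  obtain ⟨_, _⟩ := hΓ q.asIdeal
  exact ⟨e.toMulEquiv.isDomain, IsIntegrallyClosed.of_equiv (R := Localization.AtPrime q.asIdeal) e.symm⟩

theorem existsUnique_extension {R : Type u} [CommRing R] [IsDedekindDomain R]
    {X : Over (Spec (CommRingCat.of R))} [Smooth X.hom] {T : Scheme.{u}} (π : T ⟶ Spec (CommRingCat.of R))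
    [IsFinite π]
    (h0 : pullback X.hom (Neron.genPt R) ⟶ T)
    (hh0 : h0 ≫ π = pullback.fst _ _ ≫ X.hom) :
    ∃! g : X.left ⟶ T, g ≫ π = X.hom ∧ pullback.fst X.hom (Neron.genPt R) ≫ g = h0 := by
  let S := Spec (CommRingCat.of R)
  haveI : IsDomain (CommRingCat.of R) := inferInstanceAs (IsDomain R)
  haveI : IsNoetherian S := inferInstance
  let j := Neron.genPt R
  let η₀ : S := genericPoint S
  obtain ⟨σ, hσ, he⟩ : ∃ σ : Spec (S.presheaf.stalk η₀) ⟶ Spec (CommRingCat.of (FractionRing R)),
      IsIso σ ∧ σ ≫ j = S.fromSpecStalk η₀ :=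
    WeilExt.exists_iso_generic (CommRingCat.of R) (FractionRing R)
  let m : pullback X.hom (S.fromSpecStalk η₀) ⟶ pullback X.hom j :=
    pullback.lift (pullback.fst _ _) (pullback.snd _ _ ≫ σ) (by
      rw [pullback.condition, Category.assoc, he])
  let m' : pullback X.hom j ⟶ pullback X.hom (S.fromSpecStalk η₀) :=
    pullback.lift (pullback.fst _ _) (pullback.snd _ _ ≫ inv σ) (by
      rw [pullback.condition, Category.assoc]
      congr 1
      rw [IsIso.eq_inv_comp]
      exact he)
  have hmm : m' ≫ m = 𝟙 _ := by
    apply pullback.hom_ext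
    · rw [Category.assoc, pullback.lift_fst, pullback.lift_fst, Category.id_comp]
    · rw [Category.assoc, pullback.lift_snd, pullback.lift_snd_assoc, Category.assoc, Category.id_comp,
        IsIso.inv_hom_id, Category.comp_id]
  haveI : Epi m := ⟨fun a b h => by
    rw [← Category.id_comp a, ← hmm, Category.assoc, h, ← Category.assoc, hmm, Category.id_comp]⟩
  obtain ⟨U, v, hUd, hrU, hv, hv0⟩ := WeilExt.exists_spread_generic X.hom π (m ≫ h0) (by
    rw [Category.assoc, hh0, pullback.lift_fst_assoc])
  haveI : IsLocallyNoetherian X.left := LocallyOfFiniteType.isLocallyNoetherian X.hom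
  have hS : Pi1.IsNormalScheme S :=
    WeilExt.isNormalScheme (WeilExt.isRegularLocalRing_stalk_spec (R := R)) (𝟙 S)
  obtain ⟨g, hg, hgU⟩ := NormalSmooth.exists_extension
    (NormalSmooth.isNormalScheme_of_smooth hS X.hom) X.hom π U hUd v hv
  have hfac : pullback.fst X.hom (S.fromSpecStalk η₀) ≫ g = m ≫ h0 := by
    let p := pullback.fst X.hom (S.fromSpecStalk η₀)
    let b := IsOpenImmersion.lift U.ι p (by rw [Scheme.Opens.range_ι]; exact hrU)
    have hb : b ≫ U.ι = p := IsOpenImmersion.lift_fac _ _ _
    have h := hv0 (𝟙 _) b ((Category.id_comp _).trans hb.symm)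
    rw [Category.id_comp] at h
    exact ((congrArg (· ≫ g) hb).symm.trans ((Category.assoc _ _ _).trans (congrArg (b ≫ ·) hgU))).trans h.symm
  have huniq : ∀ a b : X.left ⟶ T, a ≫ π = b ≫ π →
      pullback.fst X.hom j ≫ a = pullback.fst X.hom j ≫ b → a = b := by
    intro a b hab h
    refine S15942.ext_of_generic X.hom π (𝟙 _) a b hab ?_
    have e1 : pullback.snd (pullback.fst X.hom (S.fromSpecStalk η₀)) (𝟙 X.left) =
        pullback.fst _ _ ≫ m ≫ pullback.fst X.hom j := by
      rw [pullback.lift_fst, pullback.condition, Category.comp_id]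
    refine (congrArg (· ≫ a) e1).trans (Eq.trans ?_ (congrArg (· ≫ b) e1).symm)
    simp only [Category.assoc, h]
  have hg0 : pullback.fst X.hom j ≫ g = h0 := by
    rw [← cancel_epi m, ← Category.assoc, pullback.lift_fst, hfac]
  exact ⟨g, ⟨hg, hg0⟩, fun g' ⟨hg', hg'0⟩ => huniq g' g (hg'.trans hg.symm) (hg'0.trans hg0.symm)⟩

end Groth.Agent.NeronA.GenericFinite
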