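import Groth.Agent.NeronA.GaloisEtale
import Groth.Agent.NeronA.BranchPurity
import Groth.Agent.WQ7.Invariants
import Mathlib.RingTheory.Unramified.LocalRing
import Mathlib.Algebra.Algebra.Shrink

/-!
# Inertia at height one generates (Galois covers of regular local rings)
-/

set_option autoImplicit false

universe u v w

open IsLocalRing
open scoped Pointwise

namespace Groth.Agent.NeronA

theorem inertiaGen
    (R : Type u) [CommRing R] [IsRegularLocalRing R]
    (A : Type v) [CommRing A] [IsDomain A] [IsIntegrallyClosed A] [IsLocalRing A]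
    [Algebra R A] [Module.Finite R A] (hinj : Function.Injective (algebraMap R A))
    (hres : Function.Surjective (IsLocalRing.residue A ∘ algebraMap R A))
    (H : Type w) [Group H] [Finite H] [MulSemiringAction H A] [SMulCommClass H R A] [FaithfulSMul H A]
    (hfix : ∀ a : A, (∀ h : H, h • a = a) → a ∈ Set.range (algebraMap R A)) :
    (⨆ P : {P : Ideal A // P.IsPrime ∧ P.height = 1}, P.1.inertia H) = ⊤ := by
  classical
  haveI := RegLoc6.isDomain_of_isRegularLocalRing R
  haveI := RegLoc6.isIntegrallyClosed_of_isRegularLocalRing R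
  haveI : Algebra.IsIntegral R A := Algebra.IsIntegral.of_finite R A
  haveI : IsNoetherianRing A := IsNoetherianRing.of_finite R A
  set N : Subgroup H := ⨆ P : {P : Ideal A // P.IsPrime ∧ P.height = 1}, P.1.inertia H with hNdef
  haveI hN : N.Normal := by
    refine Subgroup.normalizer_eq_top_iff.1 (eq_top_iff.2 fun g _ => ?_)
    have key : ∀ g : H, N.map (MulAut.conj g).toMonoidHom ≤ N := by
      intro g
      rw [hNdef, Subgroup.map_iSup]
      refine iSup_le fun P => ?_
      rintro _ ⟨h, hh, rfl⟩
      haveI := P.2.1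
      have hp : (g • P.1).IsPrime := inferInstance
      have hht : (g • P.1).height = 1 := by
        rw [show g • P.1 = P.1.map (MulSemiringAction.toRingEquiv H A g) from rfl, RingEquiv.height_map]
        exact P.2.2
      refine Subgroup.mem_iSup_of_mem ⟨g • P.1, hp, hht⟩ fun a => ?_
      show (g * h * g⁻¹) • a - a ∈ g • P.1
      have h2 : h • (g⁻¹ • a) - g⁻¹ • a ∈ P.1 := hh (g⁻¹ • a)
      have h3 := Ideal.smul_mem_pointwise_smul g _ _ h2
      rw [smul_sub, smul_inv_smul, ← mul_smul, ← mul_smul] at h3
      exact h3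
    rw [Subgroup.mem_normalizer_iff]
    intro h
    refine ⟨fun hh => key g ⟨h, hh, rfl⟩, fun hh => ?_⟩
    have := key g⁻¹ ⟨_, hh, rfl⟩
    simpa [mul_assoc] using this
  haveI : SMulCommClass N R A := ⟨fun n r a => smul_comm (n : H) r a⟩
  haveI : Algebra.IsInvariant R A H := ⟨fun a ha => hfix a ha⟩
  let B := FixedPoints.subalgebra R A N
  let Q := H ⧸ N
  haveI : IsNoetherianRing R := inferInstance
  haveI : Module.Finite R B := inferInstanceAs (Module.Finite R (Subalgebra.toSubmodule B))
  haveI : IsIntegrallyClosed B := WQ7.isIntegrallyClosed_fixed (A := A) (G := N)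
  haveI : Small.{u} B := by
    obtain ⟨n, f, hf⟩ := Module.Finite.exists_fin' R B
    exact small_of_surjective hf
  let B' := Shrink.{u} B
  let e : B' ≃ₐ[R] B := Shrink.algEquiv R B
  haveI : IsDomain B' := e.toRingEquiv.toMulEquiv.isDomain B
  haveI : IsIntegrallyClosed B' := IsIntegrallyClosed.of_equiv e.symm.toRingEquiv
  haveI : Module.Finite R B' := Module.Finite.equiv e.symm.toLinearEquiv
  let ρ : Q →* (B' ≃ₐ[R] B') := (AlgEquiv.autCongr e.symm).toMonoidHom.comp (MulSemiringAction.toAlgAut Q R B)
  letI act : MulSemiringAction Q B' := MulSemiringAction.compHom B' ρ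
  haveI hcomm : @SMulCommClass Q R B' act.toSMul Algebra.toSMul := ⟨fun q r a => map_smul (ρ q) r a⟩
  have hact : ∀ (q : Q) (a : B'), e (q • a) = q • e a := fun q a => e.apply_symm_apply _
  have hfix' : ∀ a : B', (∀ q : Q, q • a = a) → a ∈ Set.range (algebraMap R B') := by
    intro a ha
    obtain ⟨r, hr⟩ := Algebra.IsInvariant.isInvariant (A := R) (G := Q) (e a)
      fun q => by rw [← hact, ha]
    exact ⟨r, e.injective (by rw [AlgEquiv.commutes, hr])⟩
  have hinj' : Function.Injective (algebraMap R B') := fun x y h => hinj (by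
    have := congrArg (fun z => ((e z : B) : A)) h
    simpa using this)
  haveI : Algebra.Etale R B' := by
    refine etale_of_etale_codimOne R B' hinj' fun q _ hq => ?_
    refine isEtaleAt_of_inertia (G := Q) hinj' hfix' (q.comap (algebraMap R B')) (fun q' hq' hq'q => ?_) q rfl
    rw [Subgroup.eq_bot_iff_forall]
    intro g hg
    obtain ⟨h, rfl⟩ := QuotientGroup.mk_surjective g
    rw [QuotientGroup.eq_one_iff]
    let qB : Ideal B := q'.comap e.symm
    haveI : qB.IsPrime := Ideal.IsPrime.comap _
    haveI : Algebra.IsIntegral B A := Algebra.IsIntegral.tower_top (R := R)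
    obtain ⟨P, -, hP, hPq⟩ := Ideal.exists_ideal_over_prime_of_isIntegral qB (⊥ : Ideal A)
      (by rw [← RingHom.ker_eq_comap_bot, (RingHom.injective_iff_ker_eq_bot _).1 Subtype.val_injective]; exact bot_le)
    haveI := hP
    have htriv : ∀ x : A, (∀ g ∈ N, g • x = x) → h • x - x ∈ P := by
      intro x hx
      let xb : B := ⟨x, fun n => hx n n.2⟩
      have h1 := hg (e.symm xb)
      have h2 : (QuotientGroup.mk h : Q) • xb - xb ∈ qB := by
        show e.symm ((QuotientGroup.mk h : Q) • xb - xb) ∈ q'
        rw [map_sub]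
        have : e.symm ((QuotientGroup.mk h : Q) • xb) = (QuotientGroup.mk h : Q) • e.symm xb :=
          e.injective (by rw [hact, e.apply_symm_apply, e.apply_symm_apply])
        rw [this]
        exact h1
      rw [← hPq] at h2
      exact h2
    have hm := WQ7.mem_inertia_sup N P h htriv
    suffices P.inertia H ≤ N by rwa [sup_eq_right.2 this] at hm
    have hPR : (P.comap (algebraMap R A)).height ≤ 1 := by
      have : P.comap (algebraMap R A) = q'.comap (algebraMap R B') := by
        ext r
        have e1 : r ∈ P.comap (algebraMap R A) ↔ algebraMap R B r ∈ qB := by rw [← hPq]; rfl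
        rw [e1]
        show e.symm (algebraMap R B r) ∈ q' ↔ _
        rw [AlgEquiv.commutes]; rfl
      rw [this, hq'q]; exact hq
    by_cases hbot : P = ⊥
    · subst hbot
      intro g hg
      have : g = 1 := FaithfulSMul.eq_of_smul_eq_smul (α := A) fun a => by
        have := hg a
        rw [Submodule.mem_toAddSubgroup, Ideal.mem_bot, sub_eq_zero] at this
        rw [this, one_smul]
      exact this ▸ one_mem _
    have hP1 : P.height = 1 := by
      refine le_antisymm (Ideal.height_le_iff.2 fun P' hP' hlt => ?_) ?_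
      · obtain ⟨hle, x, hxP, hxP'⟩ := SetLike.lt_iff_le_and_exists.1 hlt
        have hc : P'.comap (algebraMap R A) < P.comap (algebraMap R A) :=
          Ideal.comap_lt_comap_of_integral_mem_sdiff hle ⟨hxP, hxP'⟩ (Algebra.IsIntegral.isIntegral x)
        have h0 := (Ideal.height_le_iff.1 hPR) _ inferInstance hc
        have : P'.comap (algebraMap R A) = ⊥ := by
          by_contra hne
          have h1 := Ideal.height_strict_mono_of_isPrime (I := (⊥ : Ideal R)) (bot_lt_iff_ne_bot.2 hne)
          rw [Ideal.height_bot] at h1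
          exact (ENat.one_le_iff_ne_zero.2 h1.ne').not_gt h0
        rw [Ideal.eq_bot_of_comap_eq_bot this, Ideal.height_bot]
        exact zero_lt_one
      · rw [Order.one_le_iff_ne_zero]
        intro h0
        have h1 := Ideal.height_strict_mono_of_isPrime (I := (⊥ : Ideal A)) (bot_lt_iff_ne_bot.2 hbot)
        rw [Ideal.height_bot, h0] at h1
        exact lt_irrefl _ h1
    exact le_iSup_of_le (⟨P, hP, hP1⟩ : {P : Ideal A // P.IsPrime ∧ P.height = 1}) le_rfl
  -- an étale local extension with trivial residue field extension is trivial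
  haveI : IsLocalHom B.val.toRingHom := ⟨fun b hb => by
    obtain ⟨a, ha⟩ := hb.exists_right_inv
    haveI : Algebra.IsIntegral B A := Algebra.IsIntegral.tower_top (R := R)
    exact (IsLocalHom.map_nonunit (f := algebraMap B A) b (IsUnit.of_mul_eq_one a ha))⟩
  haveI : IsLocalRing B := RingHom.domain_isLocalRing B.val.toRingHom
  haveI : IsLocalRing B' := e.symm.toRingEquiv.isLocalRing
  haveI : IsLocalHom (algebraMap R B') := RingHom.IsIntegral.isLocalHom (Algebra.IsIntegral.isIntegral) hinj'
  have hsurj : Function.Surjective (algebraMap R B') := by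
    have htop : (⊤ : Submodule R B') ≤ LinearMap.range (Algebra.linearMap R B') ⊔ maximalIdeal R • ⊤ := by
      intro b _
      obtain ⟨r, hr⟩ := hres (residue A (e b : B))
      have hmem : b - algebraMap R B' r ∈ maximalIdeal B' := by
        rw [mem_maximalIdeal, mem_nonunits_iff]
        intro hu
        have h1 := ((hu.map e).map B.val.toRingHom).map (residue A)
        have h2 : residue A (((e (b - algebraMap R B' r) : B) : A)) = 0 := by
          rw [map_sub, AlgEquiv.commutes]
          show residue A (((e b : B) : A) - algebraMap R A r) = 0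
          rw [map_sub, ← hr]; exact sub_self _
        exact h1.ne_zero h2
      rw [← Algebra.FormallyUnramified.map_maximalIdeal (R := R) (S := B')] at hmem
      rw [← sub_add_cancel b (algebraMap R B' r)]
      refine add_mem (Submodule.mem_sup_right ?_) (Submodule.mem_sup_left ⟨r, rfl⟩)
      rw [Ideal.smul_top_eq_map]
      exact hmem
    intro b
    exact Submodule.le_of_le_smul_of_le_jacobson_bot Module.Finite.fg_top
      (IsLocalRing.maximalIdeal_le_jacobson ⊥) htop (Submodule.mem_top (x := b))
  rw [eq_top_iff]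
  intro h _
  have : h ∈ (⊥ : Ideal A).inertia H ⊔ N := WQ7.mem_inertia_sup N ⊥ h fun x hx => by
    obtain ⟨r, hr⟩ := hsurj (e.symm ⟨x, fun n => hx n n.2⟩)
    have hx' : algebraMap R A r = x := by
      have := congrArg (fun z => ((e z : B) : A)) hr
      simpa using this
    rw [← hx', smul_algebraMap, sub_self]
    exact zero_mem _
  have hb : (⊥ : Ideal A).inertia H = ⊥ := by
    rw [Subgroup.eq_bot_iff_forall]
    intro g hg
    exact FaithfulSMul.eq_of_smul_eq_smul (α := A) fun a => by
      have := hg a
      rw [Submodule.mem_toAddSubgroup, Ideal.mem_bot, sub_eq_zero] at this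
      rw [this, one_smul]
  rwa [hb, bot_sup_eq] at this

theorem comm_of_inertia {p : ℕ} [Fact p.Prime] {H : Type w} [Group H] {ι : Type*} (I : ι → Subgroup H)
    (htop : (⨆ i, I i) = ⊤) (hI : ∀ i, I i ≠ ⊥ → Nat.card (I i) = p ∧ (I i).Normal) :
    (∀ g h : H, g * h = h * g) ∧ ∀ h : H, h ^ p = 1 := by
  have hc : ∀ i j, ∀ x ∈ I i, ∀ y ∈ I j, x * y = y * x := by
    intro i j x hx y hy
    by_cases hi : I i = ⊥
    · rw [hi, Subgroup.mem_bot] at hx; simp [hx]
    by_cases hj : I j = ⊥
    · rw [hj, Subgroup.mem_bot] at hy; simp [hy]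
    obtain ⟨ci, ni⟩ := hI i hi
    obtain ⟨cj, nj⟩ := hI j hj
    haveI : IsCyclic (I i) := isCyclic_of_prime_card ci
    haveI := (IsCyclic.isMulCommutative : IsMulCommutative (I i))
    by_cases hd : Disjoint (I i) (I j)
    · exact (Subgroup.commute_of_normal_of_disjoint _ _ ni nj hd x y hx hy).eq
    have : (I j).subgroupOf (I i) = ⊤ := by
      haveI : Fact (Nat.card (I i)).Prime := ⟨ci ▸ Fact.out⟩
      refine ((I j).subgroupOf (I i)).eq_bot_or_eq_top_of_prime_card.resolve_left fun h => hd ?_
      rw [Subgroup.subgroupOf_eq_bot, disjoint_comm] at h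
      exact h
    have hle : I i ≤ I j := Subgroup.subgroupOf_eq_top.1 this
    haveI : IsCyclic (I j) := isCyclic_of_prime_card cj
    haveI := (IsCyclic.isMulCommutative : IsMulCommutative (I j))
    exact setLike_mul_comm (hle hx) hy
  have comm : ∀ g h : H, g * h = h * g := by
    intro g h
    have hg : g ∈ ⨆ i, I i := htop ▸ Subgroup.mem_top g
    induction hg using Subgroup.iSup_induction' generalizing h with
    | hp i x hx =>
      have hh : h ∈ ⨆ i, I i := htop ▸ Subgroup.mem_top h
      induction hh using Subgroup.iSup_induction' with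
      | hp j y hy => exact hc i j x hx y hy
      | h1 => simp
      | hmul a b _ _ ha hb => exact (Commute.mul_right (a := x) ha hb).eq
    | h1 => simp
    | hmul a b _ _ ha hb => exact (Commute.mul_left (c := h) (ha h) (hb h)).eq
  refine ⟨comm, fun h => ?_⟩
  have hh : h ∈ ⨆ i, I i := htop ▸ Subgroup.mem_top h
  induction hh using Subgroup.iSup_induction' with
  | hp i x hx =>
    by_cases hi : I i = ⊥
    · rw [hi, Subgroup.mem_bot] at hx; simp [hx]
    · obtain ⟨ci, -⟩ := hI i hi
      have := congrArg Subtype.val (pow_card_eq_one' (x := (⟨x, hx⟩ : I i)))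
      rwa [ci] at this
  | h1 => simp
  | hmul a b _ _ ha hb => rw [(show Commute a b from comm a b).mul_pow, ha, hb, one_mul]

end Groth.Agent.NeronA
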