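import Groth.Agent.FormCat.HenselDomain
import Mathlib

/-!
# Weierstrass cubics with the same `j` over a complete local domain with algebraically closed residue field
-/

set_option autoImplicit false
set_option linter.style.haveILetI false

universe u

open IsLocalRing WeierstrassCurve

namespace Groth.Agent.NeronA.JComplete

section Rigid

variable {Q : Type u} [CommRing Q] [IsLocalRing Q]

/-- A variable change fixing an elliptic cubic to first order is trivial. -/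
theorem rigid (hQ : ∀ x y : Q, x ∈ maximalIdeal Q → y ∈ maximalIdeal Q → x * y = 0)
    (W : WeierstrassCurve Q) (hΔ : IsUnit W.Δ) (ε : VariableChange Q) (hu : (ε.u : Q) - 1 ∈ maximalIdeal Q)
    (hr : ε.r ∈ maximalIdeal Q) (hs : ε.s ∈ maximalIdeal Q) (ht : ε.t ∈ maximalIdeal Q) (h : ε • W = W) :
    (ε.u : Q) = 1 ∧ ε.r = 0 ∧ ε.s = 0 ∧ ε.t = 0 := by
  obtain ⟨ue, r, s, t⟩ := ε
  set m := (ue : Q) - 1
  dsimp only at hu hr hs ht ⊢
  have hue : (ue : Q) = 1 + m := by ring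
  have hmm : ∀ a, a ∈ maximalIdeal Q → m * a = 0 := fun a ha => hQ m a hu ha
  have hm2 : m * m = 0 := hmm m hu
  have hinv : ((ue⁻¹ : Qˣ) : Q) = 1 - m := by
    have : (ue : Q) * (1 - m) = 1 := by rw [hue]; linear_combination -hm2
    calc ((ue⁻¹ : Qˣ) : Q) = ((ue⁻¹ : Qˣ) : Q) * ((ue : Q) * (1 - m)) := by rw [this, mul_one]
      _ = 1 - m := by rw [← mul_assoc, Units.inv_mul, one_mul]
  have rr : r * r = 0 := hQ r r hr hr
  have ss : s * s = 0 := hQ s s hs hs
  have tt : t * t = 0 := hQ t t ht ht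
  have rs : r * s = 0 := hQ r s hr hs
  have rt : r * t = 0 := hQ r t hr ht
  have st : s * t = 0 := hQ s t hs ht
  have mr : m * r = 0 := hmm r hr
  have ms : m * s = 0 := hmm s hs
  have mt : m * t = 0 := hmm t ht
  have h1 := congrArg WeierstrassCurve.a₁ h
  have h2 := congrArg WeierstrassCurve.a₂ h
  have h3 := congrArg WeierstrassCurve.a₃ h
  have h4 := congrArg WeierstrassCurve.a₄ h
  have h6 := congrArg WeierstrassCurve.a₆ h
  rw [variableChange_a₁] at h1
  rw [variableChange_a₂] at h2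
  rw [variableChange_a₃] at h3
  rw [variableChange_a₄] at h4
  rw [variableChange_a₆] at h6
  dsimp only at h1 h2 h3 h4 h6
  rw [hinv] at h1 h2 h3 h4 h6
  have e1 : 2 * s - W.a₁ * m = 0 := by linear_combination h1 + 2 * ms
  have e2 : 3 * r - W.a₁ * s - 2 * W.a₂ * m = 0 := by
    linear_combination h2 + ss + (-W.a₂) * hm2 + (6 - 3 * m) * mr + (-2 * W.a₁ + m * W.a₁) * ms +
      (-2 * s + m * s) * ms
  have e3 : W.a₁ * r + 2 * t - 3 * W.a₃ * m = 0 := by
    linear_combination h3 + (-3 * W.a₃ + m * W.a₃) * hm2 + (3 * W.a₁ - 3 * m * W.a₁ + m ^ 2 * W.a₁) * mr +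
      (6 - 6 * m + 2 * m ^ 2) * mt
  have q : ∀ (n : ℕ), (1 - m) ^ n = 1 - (n : Q) * m := by
    intro n
    induction n with
    | zero => simp
    | succ n ih => rw [pow_succ, ih, Nat.cast_succ]; linear_combination (n : Q) * hm2
  rw [q] at h4 h6
  push_cast at h4 h6
  have e4 : -W.a₃ * s + 2 * W.a₂ * r - W.a₁ * t - 4 * W.a₄ * m = 0 := by
    linear_combination h4 + (W.a₁ - 4 * m * W.a₁) * rs + (-3 + 12 * m) * rr + (2 - 8 * m) * st +
      (-4 * W.a₃) * ms + (8 * W.a₂) * mr + (-4 * W.a₁) * mt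
  have e6 : W.a₄ * r - W.a₃ * t - 6 * W.a₆ * m = 0 := by
    linear_combination h6 + (6 * m - 1) * (W.a₂ + r) * rr + (1 - 6 * m) * tt + (W.a₁ - 6 * m * W.a₁) * rt +
      (6 * W.a₄) * mr + (-6 * W.a₃) * mt
  suffices key : m = 0 ∧ r = 0 ∧ s = 0 ∧ t = 0 from ⟨by rw [hue, key.1, add_zero], key.2⟩
  have b2 : W.b₂ = W.a₁ ^ 2 + 4 * W.a₂ := rfl
  have hb2 : 12 * r - 2 * W.b₂ * m = 0 := by rw [b2]; linear_combination 4 * e2 + 2 * W.a₁ * e1
  have hb4 : W.b₂ * r - 4 * W.b₄ * m = 0 := by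
    rw [b2, WeierstrassCurve.b₄]; linear_combination 2 * e4 + W.a₁ * e3 + W.a₃ * e1
  have hb6 : 2 * W.b₄ * r - 6 * W.b₆ * m = 0 := by
    rw [WeierstrassCurve.b₄, WeierstrassCurve.b₆]; linear_combination 4 * e6 + 2 * W.a₃ * e3
  by_cases h2u : IsUnit (2 : Q)
  · by_cases h3u : IsUnit (3 : Q)
    · have c4m : 4 * W.c₄ * m = 0 := by
        rw [WeierstrassCurve.c₄]; linear_combination -2 * W.b₂ * hb2 + 24 * hb4
      have c6m : 6 * W.c₆ * m = 0 := by
        rw [WeierstrassCurve.c₆]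
        linear_combination (3 * W.b₂ ^ 2 - 36 * W.b₄) * hb2 + (-36 * W.b₂) * hb4 + 216 * hb6
      have hm : m = 0 := by
        by_cases hc : IsUnit W.c₄
        · exact ((by simpa using (h2u.pow 2).mul hc : IsUnit ((2 : Q) ^ 2 * W.c₄))).mul_right_eq_zero.1
            (by linear_combination c4m)
        · have hc6 : IsUnit W.c₆ := by
            by_contra hc6
            have : (1728 : Q) * W.Δ ∈ maximalIdeal Q := by
              rw [W.c_relation]
              exact sub_mem (Ideal.pow_mem_of_mem _ hc 3 (by norm_num)) (Ideal.pow_mem_of_mem _ hc6 2 (by norm_num))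
            exact this ((show IsUnit ((2 : Q) ^ 6 * 3 ^ 3) from (h2u.pow 6).mul (h3u.pow 3)).mul hΔ |>
              fun hh => by norm_num at hh ⊢; exact hh)
          exact ((h2u.mul h3u).mul hc6).mul_right_eq_zero.1 (by linear_combination c6m)
      have hr0 : r = 0 := ((h2u.pow 2).mul h3u).mul_right_eq_zero.1 (by linear_combination hb2 + 2 * W.b₂ * hm)
      have hs0 : s = 0 := h2u.mul_right_eq_zero.1 (by linear_combination e1 + W.a₁ * hm)
      exact ⟨hm, hr0, hs0, h2u.mul_right_eq_zero.1 (by linear_combination e3 + (-W.a₁) * hr0 + 3 * W.a₃ * hm)⟩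
    · have h3m : ∀ a, a ∈ maximalIdeal Q → (3 : Q) * a = 0 := fun a ha => hQ _ _ h3u ha
      by_cases hb : IsUnit W.b₂
      · have hm : m = 0 := (h2u.mul hb).mul_right_eq_zero.1 (by linear_combination -hb2 + 4 * h3m r hr)
        have hr0 : r = 0 := hb.mul_right_eq_zero.1 (by linear_combination hb4 + 4 * W.b₄ * hm)
        have hs0 : s = 0 := h2u.mul_right_eq_zero.1 (by linear_combination e1 + W.a₁ * hm)
        exact ⟨hm, hr0, hs0, h2u.mul_right_eq_zero.1 (by linear_combination e3 + (-W.a₁) * hr0 + 3 * W.a₃ * hm)⟩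
      · have hb4u : IsUnit W.b₄ := by
          by_contra hb4'
          refine (?_ : W.Δ ∈ maximalIdeal Q) hΔ
          have h27 : (27 : Q) * W.b₆ ^ 2 ∈ maximalIdeal Q := by
            have : (27 : Q) * W.b₆ ^ 2 = 3 * (9 * W.b₆ ^ 2) := by ring
            rw [this]; exact Ideal.mul_mem_right _ _ h3u
          have hh : W.Δ = W.b₂ * (-W.b₂ * W.b₈ + 9 * W.b₄ * W.b₆) + W.b₄ * (-8 * W.b₄ ^ 2) - 27 * W.b₆ ^ 2 := by
            rw [WeierstrassCurve.Δ]; ring
          rw [hh]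
          exact sub_mem (add_mem (Ideal.mul_mem_right _ _ hb) (Ideal.mul_mem_right _ _ hb4')) h27
        have hm : m = 0 := ((h2u.pow 2).mul hb4u).mul_right_eq_zero.1
          (by linear_combination -hb4 + hQ W.b₂ r hb hr)
        have hr0 : r = 0 := (h2u.mul hb4u).mul_right_eq_zero.1 (by linear_combination hb6 + 6 * W.b₆ * hm)
        have hs0 : s = 0 := h2u.mul_right_eq_zero.1 (by linear_combination e1 + W.a₁ * hm)
        exact ⟨hm, hr0, hs0, h2u.mul_right_eq_zero.1 (by linear_combination e3 + (-W.a₁) * hr0 + 3 * W.a₃ * hm)⟩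
  · have h2z : ∀ a, a ∈ maximalIdeal Q → (2 : Q) * a = 0 := fun a ha => hQ _ _ h2u ha
    have h3u : IsUnit (3 : Q) := by
      by_contra h3u
      exact (maximalIdeal.isMaximal Q).ne_top ((Ideal.eq_top_iff_one _).2
        (by have := sub_mem (show (3 : Q) ∈ maximalIdeal Q from h3u) (show (2 : Q) ∈ maximalIdeal Q from h2u)
            norm_num at this))
    by_cases ha : IsUnit W.a₁
    · have hm : m = 0 := ha.mul_right_eq_zero.1 (by linear_combination -e1 + h2z s hs)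
      have hr0 : r = 0 := ha.mul_right_eq_zero.1 (by linear_combination e3 + 3 * W.a₃ * hm - h2z t ht)
      have hs0 : s = 0 := ha.mul_right_eq_zero.1 (by linear_combination -e2 + 3 * hr0 - 2 * W.a₂ * hm)
      exact ⟨hm, hr0, hs0, ha.mul_right_eq_zero.1
        (by linear_combination -e4 - W.a₃ * hs0 + 2 * W.a₂ * hr0 - 4 * W.a₄ * hm)⟩
    · have ha3 : IsUnit W.a₃ := by
        by_contra ha3
        refine (?_ : W.Δ ∈ maximalIdeal Q) hΔ
        have hb2' : W.b₂ ∈ maximalIdeal Q := by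
          rw [b2]
          exact add_mem (Ideal.pow_mem_of_mem _ ha 2 (by norm_num))
            (by rw [show (4 : Q) * W.a₂ = 2 * (2 * W.a₂) by ring]; exact Ideal.mul_mem_right _ _ h2u)
        have hb6' : W.b₆ ∈ maximalIdeal Q := by
          rw [WeierstrassCurve.b₆]
          exact add_mem (Ideal.pow_mem_of_mem _ ha3 2 (by norm_num))
            (by rw [show (4 : Q) * W.a₆ = 2 * (2 * W.a₆) by ring]; exact Ideal.mul_mem_right _ _ h2u)
        have hh : W.Δ = W.b₂ * (-W.b₂ * W.b₈ + 9 * W.b₄ * W.b₆) + 2 * (-4 * W.b₄ ^ 3) + W.b₆ * (-27 * W.b₆) := by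
          rw [WeierstrassCurve.Δ]; ring
        rw [hh]
        exact add_mem (add_mem (Ideal.mul_mem_right _ _ hb2') (Ideal.mul_mem_right _ _ h2u))
          (Ideal.mul_mem_right _ _ hb6')
      have hr0 : r = 0 := h3u.mul_right_eq_zero.1
        (by linear_combination e2 + hQ W.a₁ s ha hs + W.a₂ * h2z m hu)
      have hm : m = 0 := (h3u.mul ha3).mul_right_eq_zero.1
        (by linear_combination -e3 + W.a₁ * hr0 + h2z t ht)
      have hs0 : s = 0 := ha3.mul_right_eq_zero.1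
        (by linear_combination -e4 + 2 * W.a₂ * hr0 - hQ W.a₁ t ha ht - 4 * W.a₄ * hm)
      exact ⟨hm, hr0, hs0, ha3.mul_right_eq_zero.1 (by linear_combination -e6 + W.a₄ * hr0 - 6 * W.a₆ * hm)⟩

end Rigid

section Main

variable (R : Type u) [CommRing R] [IsDomain R] [IsNoetherianRing R] [IsLocalRing R]

theorem henselian_of_complete [IsAdicComplete (maximalIdeal R) R] : HenselianLocalRing R where
  is_henselian f hf a₀ h₁ h₂ :=
    HenselianRing.is_henselian (I := maximalIdeal R) f hf a₀ h₁ (h₂.map (Ideal.Quotient.mk _))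

/-- The entries of a change of variables between elliptic cubics over `R` are integral over `R`. -/
theorem isIntegral_entries {L : Type u} [Field L] [Algebra R L]
    (W₁ W₂ : WeierstrassCurve R) [W₁.IsElliptic] [W₂.IsElliptic] (C : VariableChange L)
    (h : C • W₁.map (algebraMap R L) = W₂.map (algebraMap R L)) :
    IsIntegral R (C.u : L) ∧ IsIntegral R C.r ∧ IsIntegral R C.s ∧ IsIntegral R C.t := by
  set φ := algebraMap R L
  have hi : ∀ x, IsIntegral R (φ x) := fun x => isIntegral_algebraMap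
  have hnat : ∀ n : ℕ, IsIntegral R (n : L) := fun n => by rw [← map_natCast φ n]; exact hi _
  have ui : (C.u : L) * ((C.u⁻¹ : Lˣ) : L) = 1 := Units.mul_inv _
  have hu : IsIntegral R (C.u : L) := by
    obtain ⟨d₂, hd₂⟩ := W₂.isUnit_Δ
    have hΔ := congrArg WeierstrassCurve.Δ h
    rw [variableChange_Δ, map_Δ, map_Δ] at hΔ
    have h12 : (C.u : L) ^ 12 = φ (W₁.Δ * ((d₂⁻¹ : Rˣ) : R)) := by
      have hd : φ W₂.Δ * φ ((d₂⁻¹ : Rˣ) : R) = 1 := by rw [← map_mul, ← hd₂, Units.mul_inv, map_one]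
      rw [map_mul]
      calc (C.u : L) ^ 12 = (C.u : L) ^ 12 * (φ W₂.Δ * φ ((d₂⁻¹ : Rˣ) : R)) := by rw [hd, mul_one]
        _ = ((C.u : L) * ((C.u⁻¹ : Lˣ) : L)) ^ 12 * φ W₁.Δ * φ ((d₂⁻¹ : Rˣ) : R) := by rw [← hΔ]; ring
        _ = _ := by rw [ui, one_pow, one_mul]
    refine IsIntegral.of_pow (by norm_num : 0 < 12) ?_
    rw [h12]; exact hi _
  set u := (C.u : L)
  set v := ((C.u⁻¹ : Lˣ) : L)
  have hb6 : (W₁.map φ).b₆ + 2 * C.r * (W₁.map φ).b₄ + C.r ^ 2 * (W₁.map φ).b₂ + 4 * C.r ^ 3 =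
      u ^ 6 * (W₂.map φ).b₆ := by
    rw [← h, variableChange_b₆, ← mul_assoc, ← mul_pow, ui, one_pow, one_mul]
  have hb8 : (W₁.map φ).b₈ + 3 * C.r * (W₁.map φ).b₆ + 3 * C.r ^ 2 * (W₁.map φ).b₄ +
      C.r ^ 3 * (W₁.map φ).b₂ + 3 * C.r ^ 4 = u ^ 8 * (W₂.map φ).b₈ := by
    rw [← h, variableChange_b₈, ← mul_assoc, ← mul_pow, ui, one_pow, one_mul]
  simp only [map_b₂, map_b₄, map_b₆, map_b₈] at hb6 hb8
  let S := integralClosure R L
  have mem : ∀ {x : L}, IsIntegral R x → x ∈ S := fun hx => hx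
  have hr : IsIntegral R C.r := by
    refine isIntegral_trans (A := S) C.r ⟨Polynomial.X ^ 4 - Polynomial.C ⟨φ W₁.b₄, mem (hi _)⟩ * Polynomial.X ^ 2
      - Polynomial.C ⟨2 * φ W₁.b₆ + u ^ 6 * φ W₂.b₆, mem (((hnat 2).mul (hi _)).add ((hu.pow 6).mul (hi _)))⟩ * Polynomial.X
      - Polynomial.C ⟨φ W₁.b₈ - u ^ 8 * φ W₂.b₈, mem ((hi _).sub ((hu.pow 8).mul (hi _)))⟩, by monicity!, ?_⟩
    simp only [Polynomial.eval₂_sub, Polynomial.eval₂_mul, Polynomial.eval₂_X_pow, Polynomial.eval₂_C,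
      Polynomial.eval₂_X]
    show C.r ^ 4 - φ W₁.b₄ * C.r ^ 2 - (2 * φ W₁.b₆ + u ^ 6 * φ W₂.b₆) * C.r - (φ W₁.b₈ - u ^ 8 * φ W₂.b₈) = 0
    linear_combination C.r * hb6 - hb8
  have ha2 : (W₁.map φ).a₂ - C.s * (W₁.map φ).a₁ + 3 * C.r - C.s ^ 2 = u ^ 2 * (W₂.map φ).a₂ := by
    rw [← h, variableChange_a₂, ← mul_assoc, ← mul_pow, ui, one_pow, one_mul]
  simp only [map_a₁, map_a₂] at ha2
  have hs : IsIntegral R C.s := by
    refine isIntegral_trans (A := S) C.s ⟨Polynomial.X ^ 2 + Polynomial.C ⟨φ W₁.a₁, mem (hi _)⟩ * Polynomial.X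
      - Polynomial.C ⟨φ W₁.a₂ + 3 * C.r - u ^ 2 * φ W₂.a₂, mem (((hi _).add ((hnat 3).mul hr)).sub ((hu.pow 2).mul (hi _)))⟩,
      by monicity!, ?_⟩
    simp only [Polynomial.eval₂_sub, Polynomial.eval₂_add, Polynomial.eval₂_mul, Polynomial.eval₂_X_pow,
      Polynomial.eval₂_C, Polynomial.eval₂_X]
    show C.s ^ 2 + φ W₁.a₁ * C.s - (φ W₁.a₂ + 3 * C.r - u ^ 2 * φ W₂.a₂) = 0
    linear_combination -ha2
  have ha6 : (W₁.map φ).a₆ + C.r * (W₁.map φ).a₄ + C.r ^ 2 * (W₁.map φ).a₂ + C.r ^ 3 - C.t * (W₁.map φ).a₃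
      - C.t ^ 2 - C.r * C.t * (W₁.map φ).a₁ = u ^ 6 * (W₂.map φ).a₆ := by
    rw [← h, variableChange_a₆, ← mul_assoc, ← mul_pow, ui, one_pow, one_mul]
  simp only [map_a₁, map_a₂, map_a₃, map_a₄, map_a₆] at ha6
  refine ⟨hu, hr, hs, isIntegral_trans (A := S) C.t ⟨Polynomial.X ^ 2
      + Polynomial.C ⟨φ W₁.a₃ + C.r * φ W₁.a₁, mem ((hi _).add (hr.mul (hi _)))⟩ * Polynomial.X
      - Polynomial.C ⟨φ W₁.a₆ + C.r * φ W₁.a₄ + C.r ^ 2 * φ W₁.a₂ + C.r ^ 3 - u ^ 6 * φ W₂.a₆,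
        mem (((((hi _).add (hr.mul (hi _))).add ((hr.pow 2).mul (hi _))).add (hr.pow 3)).sub ((hu.pow 6).mul (hi _)))⟩,
      by monicity!, ?_⟩⟩
  simp only [Polynomial.eval₂_sub, Polynomial.eval₂_add, Polynomial.eval₂_mul, Polynomial.eval₂_X_pow,
    Polynomial.eval₂_C, Polynomial.eval₂_X]
  show C.t ^ 2 + (φ W₁.a₃ + C.r * φ W₁.a₁) * C.t -
    (φ W₁.a₆ + C.r * φ W₁.a₄ + C.r ^ 2 * φ W₁.a₂ + C.r ^ 3 - u ^ 6 * φ W₂.a₆) = 0
  linear_combination -ha6

set_option maxHeartbeats 800000 in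
/-- The main statement. -/
theorem exists_variableChange [IsAdicComplete (maximalIdeal R) R] [IsAlgClosed (ResidueField R)]
    (W₁ W₂ : WeierstrassCurve R) [W₁.IsElliptic] [W₂.IsElliptic] (hj : W₁.j = W₂.j) :
    ∃ C : VariableChange R, C • W₁ = W₂ := by
  classical
  haveI := henselian_of_complete R
  let L := AlgebraicClosure (FractionRing R)
  set φ := algebraMap R L
  have hinj : Function.Injective φ := by
    rw [show φ = (algebraMap (FractionRing R) L).comp (algebraMap R (FractionRing R)) from IsScalarTower.algebraMap_eq ..]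
    exact (algebraMap (FractionRing R) L).injective.comp (IsFractionRing.injective R (FractionRing R))
  haveI : (W₁.map φ).IsElliptic := inferInstance
  haveI : (W₂.map φ).IsElliptic := inferInstance
  obtain ⟨C, hC⟩ := exists_variableChange_of_j_eq (W₁.map φ) (W₂.map φ) (by rw [map_j, map_j, hj])
  obtain ⟨hu, hr, hs, ht⟩ := isIntegral_entries R W₁ W₂ C hC
  let S : Subalgebra R L := Algebra.adjoin R {(C.u : L), C.r, C.s, C.t}
  haveI : Module.Finite R S := Module.Finite.iff_fg.2 (fg_adjoin_of_finite (by simp)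
    (by rintro x (rfl | rfl | rfl | rfl) <;> assumption))
  haveI : IsLocalRing S := Groth.Agent.FormCat.isLocalRing_of_finite_domain R S
  haveI : IsNoetherianRing S := IsNoetherianRing.of_finite R S
  haveI : Algebra.IsIntegral R S := inferInstance
  haveI : FaithfulSMul R S := (faithfulSMul_iff_algebraMap_injective R S).2 fun a b hab => hinj (congrArg Subtype.val hab)
  haveI : IsLocalHom (algebraMap R S) := RingHom.IsIntegral.isLocalHom Algebra.IsIntegral.isIntegral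
    (FaithfulSMul.algebraMap_injective R S)
  let g : (x : L) → x ∈ ({(C.u : L), C.r, C.s, C.t} : Set L) → S := fun x hx => ⟨x, Algebra.subset_adjoin hx⟩
  let uS : S := g C.u (by simp)
  have hW : ∀ (W : WeierstrassCurve R), (W.map (algebraMap R S)).map (S.val.toRingHom) = W.map φ := fun W => by
    rw [WeierstrassCurve.map_map]; rfl
  have huS : IsUnit uS := by
    by_contra hu'
    have hΔ := congrArg WeierstrassCurve.Δ hC
    rw [variableChange_Δ, map_Δ, map_Δ] at hΔ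
    have : algebraMap R S W₁.Δ = uS ^ 12 * algebraMap R S W₂.Δ := Subtype.ext (by
      show φ W₁.Δ = (C.u : L) ^ 12 * φ W₂.Δ
      rw [← hΔ, ← mul_assoc, ← mul_pow, Units.mul_inv, one_pow, one_mul])
    exact hu' ((isUnit_pow_iff (by norm_num)).1
      (IsUnit.mul_iff.1 (this ▸ W₁.isUnit_Δ.map (algebraMap R S))).1)
  let CS : VariableChange S := ⟨huS.unit, g C.r (by simp), g C.s (by simp), g C.t (by simp)⟩
  have hCS : CS.map S.val.toRingHom = C := by
    ext <;> first | rfl | skip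
  have hCW : CS • W₁.map (algebraMap R S) = W₂.map (algebraMap R S) := by
    apply WeierstrassCurve.map_injective (f := S.val.toRingHom) Subtype.val_injective
    show (CS • W₁.map (algebraMap R S)).map S.val.toRingHom = (W₂.map (algebraMap R S)).map S.val.toRingHom
    rw [← map_variableChange, hW, hW, hCS, hC]
  -- residue field
  have hres : ∀ x : S, ∃ a : R, x - algebraMap R S a ∈ maximalIdeal S := by
    haveI : Algebra.IsIntegral (ResidueField R) (ResidueField S) := inferInstance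
    intro x
    obtain ⟨a, ha⟩ := (IsAlgClosed.algebraMap_bijective_of_isIntegral (k := ResidueField R) (K := ResidueField S)).2
      (residue S x)
    obtain ⟨a, rfl⟩ := residue_surjective a
    refine ⟨a, ?_⟩
    rw [← residue_eq_zero_iff, map_sub, sub_eq_zero, ← ha]
    rfl
  obtain ⟨au, hau⟩ := hres uS
  have hauU : IsUnit au := by
    by_contra hh
    refine ((mem_maximalIdeal _).1 ?_) huS
    have := add_mem hau (show algebraMap R S au ∈ maximalIdeal S from fun hh' => hh ((isUnit_map_iff _ _).1 hh'))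
    simpa using this
  obtain ⟨ar, har⟩ := hres CS.r
  obtain ⟨as', has⟩ := hres CS.s
  obtain ⟨at', hat⟩ := hres CS.t
  let C₀ : VariableChange R := ⟨hauU.unit, ar, as', at'⟩
  let L₂ : Ideal S := maximalIdeal S ^ 2 ⊔ (maximalIdeal R).map (algebraMap R S)
  have hL₂ : L₂ ≤ maximalIdeal S := sup_le (Ideal.pow_le_self two_ne_zero)
    (Ideal.map_le_iff_le_comap.2 fun a ha => fun hh => ha ((isUnit_map_iff _ _).1 hh))
  let π : S →+* S ⧸ L₂ := Ideal.Quotient.mk L₂
  haveI : Nontrivial (S ⧸ L₂) := Ideal.Quotient.nontrivial_iff.2 (ne_top_of_le_ne_top (maximalIdeal.isMaximal S).ne_top hL₂)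
  haveI : IsLocalRing (S ⧸ L₂) := IsLocalRing.of_surjective' π Ideal.Quotient.mk_surjective
  have hπm : ∀ x, x ∈ maximalIdeal S → π x ∈ maximalIdeal (S ⧸ L₂) := by
    intro x hx hunit
    obtain ⟨y, hy⟩ := hunit.exists_right_inv
    obtain ⟨y, rfl⟩ := Ideal.Quotient.mk_surjective y
    have : x * y - 1 ∈ maximalIdeal S := hL₂ (Ideal.Quotient.eq.1 (by rw [map_mul, hy, map_one]))
    have h1 : (1 : S) ∈ maximalIdeal S := by
      have := sub_mem (Ideal.mul_mem_right y _ hx) this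
      simpa using this
    exact (maximalIdeal.isMaximal S).ne_top ((Ideal.eq_top_iff_one _).2 h1)
  have hmπ : ∀ z : S ⧸ L₂, z ∈ maximalIdeal (S ⧸ L₂) → ∃ x ∈ maximalIdeal S, π x = z := by
    intro z hz
    obtain ⟨x, rfl⟩ := Ideal.Quotient.mk_surjective z
    exact ⟨x, fun hx => hz (hx.map π), rfl⟩
  have hQ : ∀ x y : S ⧸ L₂, x ∈ maximalIdeal (S ⧸ L₂) → y ∈ maximalIdeal (S ⧸ L₂) → x * y = 0 := by
    intro x y hx hy
    obtain ⟨x, hx', rfl⟩ := hmπ x hx
    obtain ⟨y, hy', rfl⟩ := hmπ y hy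
    rw [← map_mul]
    exact Ideal.Quotient.eq_zero_iff_mem.2 (Ideal.mem_sup_left (pow_two (maximalIdeal S) ▸ Ideal.mul_mem_mul hx' hy'))
  let ψ : R →+* S ⧸ L₂ := π.comp (algebraMap R S)
  have hψ : ∀ a, a ∈ maximalIdeal R → ψ a = 0 := fun a ha =>
    Ideal.Quotient.eq_zero_iff_mem.2 (Ideal.mem_sup_right (Ideal.mem_map_of_mem _ ha))
  -- reduce
  let k := ResidueField R
  have hkey : ∀ a b : R, residue R a = residue R b → ψ a = ψ b := fun a b hab => by
    rw [← sub_eq_zero, ← map_sub]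
    exact hψ _ ((residue_eq_zero_iff _).1 (by rw [map_sub, hab, sub_self]))
  have hbar : (C₀ • W₁).map (residue R) = W₂.map (residue R) := by
    let ρ : S →+* ResidueField S := residue S
    have e1 := congrArg (fun W => W.map ρ) hCW
    simp only [← map_variableChange, WeierstrassCurve.map_map] at e1
    have e2 : CS.map ρ = C₀.map (ρ.comp (algebraMap R S)) := by
      ext
      · exact Ideal.Quotient.eq.2 hau
      · exact Ideal.Quotient.eq.2 har
      · exact Ideal.Quotient.eq.2 has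
      · exact Ideal.Quotient.eq.2 hat
    rw [e2, map_variableChange] at e1
    apply WeierstrassCurve.map_injective (f := algebraMap k (ResidueField S)) (RingHom.injective _)
    show ((C₀ • W₁).map (residue R)).map _ = (W₂.map (residue R)).map _
    rw [WeierstrassCurve.map_map, WeierstrassCurve.map_map]
    exact e1
  have hψeq : (C₀ • W₁).map ψ = W₂.map ψ := by
    ext
    · exact hkey _ _ (congrArg WeierstrassCurve.a₁ hbar)
    · exact hkey _ _ (congrArg WeierstrassCurve.a₂ hbar)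
    · exact hkey _ _ (congrArg WeierstrassCurve.a₃ hbar)
    · exact hkey _ _ (congrArg WeierstrassCurve.a₄ hbar)
    · exact hkey _ _ (congrArg WeierstrassCurve.a₆ hbar)
  let ε : VariableChange (S ⧸ L₂) := (C₀.map ψ)⁻¹ * CS.map π
  have hε : ε • W₁.map ψ = W₁.map ψ := by
    have e1 := congrArg (fun W => W.map π) hCW
    simp only [← map_variableChange, WeierstrassCurve.map_map] at e1
    rw [mul_smul, show CS.map π • W₁.map ψ = W₂.map ψ from e1, ← hψeq, ← map_variableChange, inv_smul_smul]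
  have hd : ∀ (x : S) (a : R), x - algebraMap R S a ∈ maximalIdeal S → π x - ψ a ∈ maximalIdeal (S ⧸ L₂) :=
    fun x a hxa => by
      show π x - π (algebraMap R S a) ∈ _
      rw [← map_sub]; exact hπm _ hxa
  have dU : ((CS.map π).u : S ⧸ L₂) - ((C₀.map ψ).u : S ⧸ L₂) ∈ maximalIdeal (S ⧸ L₂) := hd uS au hau
  have dR : (CS.map π).r - (C₀.map ψ).r ∈ maximalIdeal (S ⧸ L₂) := hd CS.r ar har
  have dS : (CS.map π).s - (C₀.map ψ).s ∈ maximalIdeal (S ⧸ L₂) := hd CS.s as' has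
  have dT : (CS.map π).t - (C₀.map ψ).t ∈ maximalIdeal (S ⧸ L₂) := hd CS.t at' hat
  have hεeq : CS.map π = C₀.map ψ * ε := (mul_inv_cancel_left _ _).symm
  obtain ⟨⟨U₁, r₁, s₁, t₁⟩, h₁⟩ : ∃ x, x = ε := ⟨ε, rfl⟩
  rw [← h₁] at hε hεeq
  rw [hεeq] at dU dR dS dT
  simp only [VariableChange.mul_def, Units.val_mul] at dU dR dS dT
  set U₀ := (C₀.map ψ).u
  set r₀ := (C₀.map ψ).r
  set s₀ := (C₀.map ψ).s
  set t₀ := (C₀.map ψ).t
  have mU : (U₁ : S ⧸ L₂) - 1 ∈ maximalIdeal (S ⧸ L₂) :=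
    (Ideal.unit_mul_mem_iff_mem _ U₀.isUnit).1 (by convert dU using 1; ring)
  have mR : r₁ ∈ maximalIdeal (S ⧸ L₂) := by
    have h3 : r₀ * ((U₁ : S ⧸ L₂) ^ 2 - 1) ∈ maximalIdeal (S ⧸ L₂) := by
      rw [show r₀ * ((U₁ : S ⧸ L₂) ^ 2 - 1) = ((U₁ : S ⧸ L₂) - 1) * (r₀ * ((U₁ : S ⧸ L₂) + 1)) by ring]
      exact Ideal.mul_mem_right _ _ mU
    convert sub_mem dR h3 using 1; ring
  have mS : s₁ ∈ maximalIdeal (S ⧸ L₂) := by
    convert sub_mem dS (Ideal.mul_mem_right s₀ _ mU) using 1; ring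
  have mT : t₁ ∈ maximalIdeal (S ⧸ L₂) := by
    have h3 : t₀ * ((U₁ : S ⧸ L₂) ^ 3 - 1) ∈ maximalIdeal (S ⧸ L₂) := by
      rw [show t₀ * ((U₁ : S ⧸ L₂) ^ 3 - 1) =
        ((U₁ : S ⧸ L₂) - 1) * (t₀ * ((U₁ : S ⧸ L₂) ^ 2 + (U₁ : S ⧸ L₂) + 1)) by ring]
      exact Ideal.mul_mem_right _ _ mU
    have h4 : r₀ * (U₁ : S ⧸ L₂) ^ 2 * s₁ ∈ maximalIdeal (S ⧸ L₂) := Ideal.mul_mem_left _ _ mS
    convert sub_mem (sub_mem dT h3) h4 using 1; ring
  obtain ⟨e_u, e_r, e_s, e_t⟩ := rigid hQ (W₁.map ψ) (by rw [map_Δ]; exact W₁.isUnit_Δ.map ψ)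
    ⟨U₁, r₁, s₁, t₁⟩ mU mR mS mT hε
  have hEq : CS.map π = C₀.map ψ := by
    rw [hεeq, show (⟨U₁, r₁, s₁, t₁⟩ : VariableChange (S ⧸ L₂)) = 1 from
      VariableChange.ext (Units.ext e_u) e_r e_s e_t, mul_one]
  -- every element is congruent to an element of R
  let T : Subalgebra R S :=
    (⊥ : Subalgebra R (S ⧸ L₂)).comap (Ideal.Quotient.mkₐ R L₂)
  have hT : T = ⊤ := by
    rw [eq_top_iff]
    rintro x -
    have hgen : ∀ (x : L) (hx : x ∈ S), (⟨x, hx⟩ : S) ∈ T := by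
      intro x hx
      induction hx using Algebra.adjoin_induction with
      | mem y hy =>
        rcases hy with rfl | rfl | rfl | rfl
        · exact Algebra.mem_bot.2 ⟨au, (congrArg (fun D : VariableChange (S ⧸ L₂) => (D.u : S ⧸ L₂)) hEq).symm⟩
        · exact Algebra.mem_bot.2 ⟨ar, (congrArg VariableChange.r hEq).symm⟩
        · exact Algebra.mem_bot.2 ⟨as', (congrArg VariableChange.s hEq).symm⟩
        · exact Algebra.mem_bot.2 ⟨at', (congrArg VariableChange.t hEq).symm⟩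
      | algebraMap a => exact T.algebraMap_mem a
      | add y z _ _ iy iz => exact T.add_mem iy iz
      | mul y z _ _ iy iz => exact T.mul_mem iy iz
    exact hgen x.1 x.2
  have hall : ∀ x : S, ∃ a : R, x - algebraMap R S a ∈ L₂ := fun x => by
    obtain ⟨a, ha⟩ := Algebra.mem_bot.1 (show (Ideal.Quotient.mkₐ R L₂) x ∈ (⊥ : Subalgebra R (S ⧸ L₂)) from
      (show x ∈ T by rw [hT]; exact Algebra.mem_top))
    exact ⟨a, Ideal.Quotient.eq.1 ha.symm⟩
  have hmS : maximalIdeal S ≤ (maximalIdeal R).map (algebraMap R S) := by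
    refine Submodule.le_of_le_smul_of_le_jacobson_bot (IsNoetherian.noetherian _) (maximalIdeal_le_jacobson ⊥) ?_
    intro x hx
    obtain ⟨a, ha⟩ := hall x
    have ham : algebraMap R S a ∈ maximalIdeal S := by
      have := sub_mem hx (hL₂ ha); simpa using this
    have haR : algebraMap R S a ∈ (maximalIdeal R).map (algebraMap R S) :=
      Ideal.mem_map_of_mem _ (fun hh => ham (hh.map _))
    obtain ⟨y, hy, z, hz, hyz⟩ := Submodule.mem_sup.1 ha
    rw [show x = (z + algebraMap R S a) + y by linear_combination -hyz]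
    refine Submodule.mem_sup.2 ⟨z + algebraMap R S a, add_mem hz haR, y, ?_, rfl⟩
    rw [smul_eq_mul, ← pow_two]; exact hy
  have hsurj : (⊤ : Submodule R S) ≤ LinearMap.range (Algebra.linearMap R S) := by
    refine Submodule.le_of_le_smul_of_le_jacobson_bot (I := maximalIdeal R) Module.Finite.fg_top
      (maximalIdeal_le_jacobson ⊥) ?_
    intro x _
    obtain ⟨a, ha⟩ := hres x
    rw [show x = algebraMap R S a + (x - algebraMap R S a) by ring]
    refine Submodule.mem_sup.2 ⟨algebraMap R S a, ⟨a, rfl⟩, x - algebraMap R S a, ?_, rfl⟩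
    rw [Ideal.smul_top_eq_map]
    exact hmS ha
  have surj : ∀ x : S, ∃ a : R, algebraMap R S a = x := fun x => hsurj (Submodule.mem_top : x ∈ (⊤ : Submodule R S))
  obtain ⟨bu, hbu⟩ := surj uS
  obtain ⟨br, hbr⟩ := surj CS.r
  obtain ⟨bs, hbs⟩ := surj CS.s
  obtain ⟨bt, hbt⟩ := surj CS.t
  have hbuU : IsUnit bu := (isUnit_map_iff (algebraMap R S) bu).1 (hbu ▸ huS)
  let CR : VariableChange R := ⟨hbuU.unit, br, bs, bt⟩
  have hCR : CR.map (algebraMap R S) = CS := VariableChange.ext (Units.ext hbu) hbr hbs hbt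
  refine ⟨CR, WeierstrassCurve.map_injective (f := algebraMap R S) (FaithfulSMul.algebraMap_injective R S) ?_⟩
  show (CR • W₁).map _ = W₂.map _
  rw [← map_variableChange, hCR, hCW]

end Main

end Groth.Agent.NeronA.JComplete
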