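import Groth.Agent.FlatLoc6.GeomProp
import Groth.Agent.HTopAwn.Normal
import Groth.Agent.WeilExt.Extend
import Groth.Agent.S2347
import Groth.Agent.S2358
import Groth.Agent.MorLib.SmoothLocus
import Mathlib

/-!
Smooth schemes over normal schemes are normal; maps from them into finite schemes.
-/

set_option autoImplicit false
set_option linter.style.haveILetI false
set_option backward.isDefEq.respectTransparency.types false

universe u

open CategoryTheory Limits AlgebraicGeometry TopologicalSpace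

namespace Groth.Agent.NeronA.NormalSmooth

variable {S : Scheme.{u}}

theorem isNormalRing_sections (hS : Pi1.IsNormalScheme S) {U : S.Opens} (hU : IsAffineOpen U) :
    EGA4.IsNormalRing Γ(S, U) := by
  intro p hp
  have hy : hU.fromSpec ⟨p, hp⟩ ∈ U := hU.range_fromSpec.subset (Set.mem_range_self _)
  letI := TopCat.Presheaf.algebra_section_stalk S.presheaf ⟨hU.fromSpec ⟨p, hp⟩, hy⟩
  haveI : IsLocalization p.primeCompl (S.presheaf.stalk (hU.fromSpec ⟨p, hp⟩)) :=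
    hU.isLocalization_stalk' ⟨p, hp⟩ hy
  let e := (IsLocalization.algEquiv p.primeCompl (Localization.AtPrime p)
    (S.presheaf.stalk (hU.fromSpec ⟨p, hp⟩))).toRingEquiv
  obtain ⟨_, _⟩ := hS (hU.fromSpec ⟨p, hp⟩)
  exact ⟨e.toMulEquiv.isDomain,
    IsIntegrallyClosed.of_equiv (R := S.presheaf.stalk (hU.fromSpec ⟨p, hp⟩)) e.symm⟩

theorem isNormalScheme_of_smooth [IsLocallyNoetherian S] (hS : Pi1.IsNormalScheme S) {Z : Scheme.{u}}
    (f : Z ⟶ S) [Smooth f] : Pi1.IsNormalScheme Z := by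
  intro z
  obtain ⟨U, hU, hzU, -⟩ := exists_isAffineOpen_mem_and_subset (x := f z) (U := (⊤ : S.Opens)) trivial
  obtain ⟨V, hV, hzV, hVU⟩ := exists_isAffineOpen_mem_and_subset (x := z) (U := f ⁻¹ᵁ U) hzU
  have e : V ≤ f ⁻¹ᵁ U := hVU
  letI := (f.appLE U V e).hom.toAlgebra
  haveI : Algebra.Smooth Γ(S, U) Γ(Z, V) := f.smooth_appLE hU hV e
  have hA : FlatLoc6.NoethNormal Γ(S, U) :=
    ⟨IsLocallyNoetherian.component_noetherian ⟨U, hU⟩, isNormalRing_sections hS hU⟩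
  have hB := (FlatLoc6.permanence_normal.smooth Γ(S, U) Γ(Z, V) hA).2
  let q := hV.primeIdealOf ⟨z, hzV⟩
  letI := TopCat.Presheaf.algebra_section_stalk Z.presheaf ⟨z, hzV⟩
  haveI : IsLocalization.AtPrime (Z.presheaf.stalk z) q.asIdeal := hV.isLocalization_stalk ⟨z, hzV⟩
  let e := (IsLocalization.algEquiv q.asIdeal.primeCompl (Z.presheaf.stalk z)
    (Localization.AtPrime q.asIdeal)).toRingEquiv
  obtain ⟨_, _⟩ := hB q.asIdeal
  exact ⟨e.toMulEquiv.isDomain, IsIntegrallyClosed.of_equiv (R := Localization.AtPrime q.asIdeal) e.symm⟩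

/-- Every point of a locally noetherian normal scheme lies in an integral open and closed subscheme. -/
theorem exists_component {X : Scheme.{u}} [IsLocallyNoetherian X] (hX : Pi1.IsNormalScheme X) (x : X) :
    ∃ W : X.Opens, x ∈ W ∧ IsIntegral W.toScheme ∧ IsClosed (W : Set X) := by
  haveI := HTopAwn.isReduced_of_isNormal hX
  obtain ⟨W, hxW, hW, hst⟩ := WeilExt.exists_integral_component (fun y => (hX y).1) x
  refine ⟨W, hxW, hW, ⟨isOpen_iff_forall_mem_open.2 fun p hp => ?_⟩⟩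
  obtain ⟨W', hpW', hW', hst'⟩ := WeilExt.exists_integral_component (fun y => (hX y).1) p
  refine ⟨W', fun q hq hqW => hp ?_, W'.2, hpW'⟩
  haveI := hW'
  have h1 : W'.ι (genericPoint W'.toScheme) ⤳ q :=
    (genericPoint_specializes (α := W'.toScheme) ⟨q, hq⟩).map W'.ι.continuous
  have h2 : W'.ι (genericPoint W'.toScheme) ⤳ p :=
    (genericPoint_specializes (α := W'.toScheme) ⟨p, hpW'⟩).map W'.ι.continuous
  exact hst _ _ (h1.mem_open W.2 hqW) h2

theorem isNormalScheme_opens {X : Scheme.{u}} (hX : Pi1.IsNormalScheme X) (W : X.Opens) :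
    Pi1.IsNormalScheme W.toScheme := fun w => by
  obtain ⟨_, _⟩ := hX w.1
  let e := (W.stalkIso w).commRingCatIsoToRingEquiv
  exact ⟨e.toMulEquiv.isDomain, IsIntegrallyClosed.of_equiv (R := X.presheaf.stalk w.1) e.symm⟩

/-- Maps from a dense open of a normal scheme to a finite scheme over it extend. -/
theorem exists_extension {Z T : Scheme.{u}} [IsLocallyNoetherian Z] (hZ : Pi1.IsNormalScheme Z) (pZ : Z ⟶ S)
    (π : T ⟶ S) [IsFinite π] (U : Z.Opens) (hU : Dense (U : Set Z)) (f : U.toScheme ⟶ T)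
    (hf : f ≫ π = U.ι ≫ pZ) : ∃ g : Z ⟶ T, g ≫ π = pZ ∧ U.ι ≫ g = f := by
  haveI := HTopAwn.isReduced_of_isNormal hZ
  have key : ∀ z : Z, ∃ (W : Z.Opens) (g : W.toScheme ⟶ T), z ∈ W ∧ g ≫ π = W.ι ≫ pZ ∧
      ∀ {P : Scheme.{u}} (a : P ⟶ W.toScheme) (b : P ⟶ U.toScheme), a ≫ W.ι = b ≫ U.ι → a ≫ g = b ≫ f := by
    intro z
    obtain ⟨W, hzW, hW, -⟩ := exists_component hZ z
    haveI := hW
    let W₀ : W.toScheme.Opens := W.ι ⁻¹ᵁ U
    have hW₀ : Dense (W₀ : Set W.toScheme) := hU.preimage W.ι.isOpenEmbedding.isOpenMap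
    let l : W₀.toScheme ⟶ U.toScheme := W.ι ∣_ U
    have hl : l ≫ U.ι = W₀.ι ≫ W.ι := morphismRestrict_ι _ _
    haveI : IsIntegralHom (pullback.fst (W.ι ≫ pZ) π) := inferInstance
    let s : W₀.toScheme ⟶ pullback (W.ι ≫ pZ) π := pullback.lift W₀.ι (l ≫ f) (by
      rw [Category.assoc, hf, reassoc_of% hl])
    obtain ⟨s', hs', hs'₀⟩ := Groth.Agent.S2358.result (isNormalScheme_opens hZ W)
      (pullback.fst (W.ι ≫ pZ) π) W₀ hW₀ s (pullback.lift_fst _ _ _)
    refine ⟨W, s' ≫ pullback.snd _ _, hzW, ?_, ?_⟩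
    · rw [Category.assoc, ← pullback.condition, reassoc_of% hs']
    · intro P a b hab
      have ha : Set.range a ⊆ Set.range W₀.ι := by
        rintro _ ⟨t, rfl⟩
        rw [Scheme.Opens.range_ι]
        show W.ι (a t) ∈ U
        rw [← Scheme.Hom.comp_apply, hab]
        exact (b t).2
      have hb : IsOpenImmersion.lift W₀.ι a ha ≫ l = b := by
        rw [← cancel_mono U.ι, Category.assoc, hl, IsOpenImmersion.lift_fac_assoc, hab]
      conv_lhs => rw [← IsOpenImmersion.lift_fac W₀.ι a ha]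
      rw [Category.assoc, reassoc_of% hs'₀, pullback.lift_snd, reassoc_of% hb]
  choose W g hzW hg hgf using key
  obtain ⟨h, hh, hhg⟩ := WeilExt.glue_extensions pZ π f hU W g hg hgf
  have htop : (⊤ : Z.Opens) ≤ ⨆ z, W z := fun z _ => Opens.mem_iSup.2 ⟨z, hzW z⟩
  let gl : Z ⟶ T := Z.topIso.inv ≫ Z.homOfLE htop ≫ h
  have hgl : ∀ z, (W z).ι ≫ gl = g z := fun z => by
    rw [← hhg z]
    simp only [gl, ← Category.assoc]
    congr 1
    rw [← cancel_mono (⨆ z, W z).ι]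
    simp only [Category.assoc, Scheme.homOfLE_ι]
    exact (congrArg ((W z).ι ≫ ·) Z.topIso.inv_hom_id).trans (Category.comp_id _)
  refine ⟨gl, ?_, ?_⟩
  · simp only [gl, Category.assoc, hh, Scheme.homOfLE_ι_assoc]
    exact Z.topIso.inv_hom_id_assoc pZ
  · refine Scheme.hom_ext_of_forall _ _ fun u => ⟨U.ι ⁻¹ᵁ W (U.ι u), hzW _, ?_⟩
    let a : (U.ι ⁻¹ᵁ W (U.ι u)).toScheme ⟶ (W (U.ι u)).toScheme := U.ι.resLE _ _ le_rfl
    have ha : a ≫ (W (U.ι u)).ι = (U.ι ⁻¹ᵁ W (U.ι u)).ι ≫ U.ι := Scheme.Hom.resLE_comp_ι _ _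
    rw [← Category.assoc, ← ha, Category.assoc, hgl, hgf _ a _ ha]

theorem sm_of_smooth {X Y : Scheme.{u}} (f : X ⟶ Y) [Smooth f] (x : X) : MorLib.SmoothLoc.SM f x :=
  Scheme.Hom.mem_smoothLocus.1 (f.smoothLocus_eq_top.ge trivial)

/-- A map from a smooth scheme to a normal finite scheme lands in the smooth locus. -/
theorem mem_smoothLocus [IsLocallyNoetherian S] (hS : Pi1.IsNormalScheme S) {Z T : Scheme.{u}}
    (pZ : Z ⟶ S) [Smooth pZ] (π : T ⟶ S) [IsFinite π] [LocallyOfFinitePresentation π]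
    (hT : Pi1.IsNormalScheme T) (g : Z ⟶ T) (hg : g ≫ π = pZ) (z : Z) : g z ∈ π.smoothLocus := by
  haveI : IsLocallyNoetherian T := LocallyOfFiniteType.isLocallyNoetherian π
  haveI : IsLocallyNoetherian Z := LocallyOfFiniteType.isLocallyNoetherian pZ
  have hZn := isNormalScheme_of_smooth hS pZ
  let Q := pullback π pZ
  haveI : Smooth (pullback.fst π pZ) := inferInstance
  haveI : IsLocallyNoetherian Q := LocallyOfFiniteType.isLocallyNoetherian (pullback.fst π pZ)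
  have hQ : Pi1.IsNormalScheme Q := isNormalScheme_of_smooth hT (pullback.fst π pZ)
  let p : Q ⟶ Z := pullback.snd π pZ
  obtain ⟨γ, hγ, hγg⟩ : ∃ γ : Z ⟶ Q, γ ≫ p = 𝟙 Z ∧ γ ≫ pullback.fst π pZ = g :=
    ⟨pullback.lift g (𝟙 Z) (by rw [hg, Category.id_comp]), pullback.lift_snd _ _ _, pullback.lift_fst _ _ _⟩
  obtain ⟨W, hzW, hW, hWc⟩ := exists_component hZn z
  haveI := hW
  obtain ⟨C, hzC, hC, hCc⟩ := exists_component hQ (γ z)
  haveI := hC
  let C' : C.toScheme.Opens := (C.ι ≫ p) ⁻¹ᵁ W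
  have hzC' : (⟨γ z, hzC⟩ : C.toScheme) ∈ C' := by
    show (γ ≫ p) z ∈ W
    rw [hγ]; exact hzW
  haveI : Nonempty C'.toScheme := ⟨⟨_, hzC'⟩⟩
  haveI : IsIntegral C'.toScheme := isIntegral_of_isOpenImmersion C'.ι
  haveI : IsClosedImmersion C.ι := by
    refine IsClosedImmersion.of_isPreimmersion _ ?_
    rw [Scheme.Opens.range_ι]; exact hCc
  let h : C'.toScheme ⟶ W.toScheme := (C.ι ≫ p) ∣_ W
  haveI : IsFinite (C.ι ≫ p) := inferInstance
  haveI : IsFinite h := IsZariskiLocalAtTarget.restrict ‹_› W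
  have hmem : ∀ w : W.toScheme, (W.ι ≫ γ) w ∈ C := by
    intro w
    have h1 : (W.ι ≫ γ) (genericPoint W.toScheme) ∈ C :=
      ((genericPoint_specializes (α := W.toScheme) ⟨z, hzW⟩).map (W.ι ≫ γ).continuous).mem_open C.2 hzC
    exact ((genericPoint_specializes w).map (W.ι ≫ γ).continuous).mem_closed hCc h1
  let γC : W.toScheme ⟶ C.toScheme := IsOpenImmersion.lift C.ι (W.ι ≫ γ) (by
    rintro _ ⟨w, rfl⟩; rw [Scheme.Opens.range_ι]; exact hmem w)
  have hγC : γC ≫ C.ι ≫ p = W.ι := by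
    rw [IsOpenImmersion.lift_fac_assoc, Category.assoc, hγ, Category.comp_id]
  have hr : Set.range γC ⊆ Set.range C'.ι := by
    rintro _ ⟨w, rfl⟩
    rw [Scheme.Opens.range_ι]
    show (γC ≫ C.ι ≫ p) w ∈ W
    rw [hγC]; exact w.2
  let s : W.toScheme ⟶ C'.toScheme := IsOpenImmersion.lift C'.ι γC hr
  have hs : s ≫ h = 𝟙 _ := by
    rw [← cancel_mono W.ι, Category.assoc, morphismRestrict_ι, IsOpenImmersion.lift_fac_assoc, hγC, Category.id_comp]
  have : IsIso h := Groth.Agent.S2347.result (isNormalScheme_opens hZn W) h ⊤ dense_univ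
    ((⊤ : W.toScheme.Opens).ι ≫ s) (by rw [Category.assoc, hs, Category.comp_id])
  have hp : MorLib.SmoothLoc.SM p (γ z) := by
    haveI : IsOpenImmersion (C'.ι ≫ C.ι ≫ p) := by
      rw [show C'.ι ≫ C.ι ≫ p = h ≫ W.ι from (morphismRestrict_ι _ _).symm]
      infer_instance
    have h1 : MorLib.SmoothLoc.SM ((C'.ι ≫ C.ι) ≫ p) (⟨⟨γ z, hzC⟩, hzC'⟩ : C'.toScheme) := by
      haveI : Smooth ((C'.ι ≫ C.ι) ≫ p) := by rw [Category.assoc]; infer_instance
      exact sm_of_smooth ((C'.ι ≫ C.ι) ≫ p) _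
    have h4 := (MorLib.SmoothLoc.sm_comp_left (C'.ι ≫ C.ι) p (⟨⟨γ z, hzC⟩, hzC'⟩ : C'.toScheme)).1 h1
    have h5 : (C'.ι ≫ C.ι) (⟨⟨γ z, hzC⟩, hzC'⟩ : C'.toScheme) = γ z := by
      rw [Scheme.Hom.comp_apply, Scheme.Opens.ι_apply, Scheme.Opens.ι_apply]
    rwa [h5] at h4
  have h2 := MorLib.SmoothLoc.sm_descend π pZ p (pullback.fst π pZ) (IsPullback.of_hasPullback π pZ) (γ z) hp
  have h3 : pullback.fst π pZ (γ z) = g z := by
    rw [← Scheme.Hom.comp_apply, hγg]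
  rw [h3] at h2
  exact h2

end Groth.Agent.NeronA.NormalSmooth
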