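import Mathlib.AlgebraicGeometry.Restrict
import Mathlib.AlgebraicGeometry.Morphisms.Smooth
import Mathlib.CategoryTheory.Comma.Over.Pullback
import Groth.Agent.Neron6.Over

/-!
# The mapping property with respect to an open subscheme, in elementary form
-/

set_option autoImplicit false

universe u

open CategoryTheory Limits AlgebraicGeometry

namespace Groth.Agent.NeronA

variable {S : Scheme.{u}} (U : S.Opens) (N Y : Over S)

/-- restriction to the preimage of `U` is injective -/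
def OInj : Prop :=
  ∀ g₁ g₂ : Y ⟶ N, (Y.hom ⁻¹ᵁ U).ι ≫ g₁.left = (Y.hom ⁻¹ᵁ U).ι ≫ g₂.left → g₁ = g₂

/-- restriction to the preimage of `U` is surjective -/
def OSurj : Prop :=
  ∀ h : (Y.hom ⁻¹ᵁ U).toScheme ⟶ N.left, h ≫ N.hom = (Y.hom ⁻¹ᵁ U).ι ≫ Y.hom →
    ∃ g : Y ⟶ N, (Y.hom ⁻¹ᵁ U).ι ≫ g.left = h

theorem injective_iff :
    Function.Injective (fun g : Y ⟶ N => (Over.pullback U.ι).map g) ↔ OInj U N Y := by
  let e : pullback Y.hom U.ι ≅ (Y.hom ⁻¹ᵁ U).toScheme := pullbackRestrictIsoRestrict Y.hom U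
  have he : e.hom ≫ (Y.hom ⁻¹ᵁ U).ι = pullback.fst Y.hom U.ι :=
    pullbackRestrictIsoRestrict_hom_ι _ _
  refine ⟨fun h g₁ g₂ hg => h ?_, fun h g₁ g₂ hg => h g₁ g₂ ?_⟩
  · simp only [Neron6.pullback_map_eq_iff]
    rw [← he, Category.assoc, Category.assoc, hg]
  · rw [← cancel_epi e.hom, ← Category.assoc, ← Category.assoc, he]
    exact (Neron6.pullback_map_eq_iff _ _ _).1 hg

theorem surjective_iff :
    Function.Surjective (fun g : Y ⟶ N => (Over.pullback U.ι).map g) ↔ OSurj U N Y := by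
  let e : pullback Y.hom U.ι ≅ (Y.hom ⁻¹ᵁ U).toScheme := pullbackRestrictIsoRestrict Y.hom U
  have he : e.hom ≫ (Y.hom ⁻¹ᵁ U).ι = pullback.fst Y.hom U.ι :=
    pullbackRestrictIsoRestrict_hom_ι _ _
  refine ⟨fun h k hk => ?_, fun h k => ?_⟩
  · obtain ⟨g, hg⟩ := h (Over.homMk (pullback.lift (e.hom ≫ k) (pullback.snd _ _) (by
      rw [Category.assoc, hk, ← Category.assoc, he, pullback.condition])) (pullback.lift_snd _ _ _) :
      (Over.pullback U.ι).obj Y ⟶ (Over.pullback U.ι).obj N)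
    refine ⟨g, ?_⟩
    have := congrArg (fun z => z.left ≫ pullback.fst N.hom U.ι) hg
    simp only [Neron6.pullback_map_fst] at this
    rw [← cancel_epi e.hom, ← Category.assoc, he]
    exact this.trans (pullback.lift_fst _ _ _)
  · have hk : k.left ≫ pullback.snd N.hom U.ι = pullback.snd Y.hom U.ι := Over.w k
    obtain ⟨g, hg⟩ := h (e.inv ≫ k.left ≫ pullback.fst N.hom U.ι) (by
      rw [Category.assoc, Category.assoc, pullback.condition, reassoc_of% hk, Iso.inv_comp_eq,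
        ← Category.assoc, he, pullback.condition])
    refine ⟨g, Neron6.pullback_hom_ext _ _ _ ?_⟩
    rw [Neron6.pullback_map_fst, ← he, Category.assoc, hg, Iso.hom_inv_id_assoc]

theorem bijective_iff :
    Function.Bijective (fun g : Y ⟶ N => (Over.pullback U.ι).map g) ↔ OInj U N Y ∧ OSurj U N Y :=
  and_congr (injective_iff U N Y) (surjective_iff U N Y)

variable {U N Y}

/-- an open subscheme of `Y` over `S` -/
noncomputable abbrev sub (Y : Over S) (V : Y.left.Opens) : Over S := Over.mk (V.ι ≫ Y.hom)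

/-- the inclusion of an open subscheme -/
noncomputable abbrev subι (Y : Over S) (V : Y.left.Opens) : sub Y V ⟶ Y := Over.homMk V.ι rfl

theorem OInj.of_forall {I : Type u} (V : I → Y.left.Opens) (hV : ∀ y : Y.left, ∃ i, y ∈ V i)
    (h : ∀ i, OInj U N (sub Y (V i))) : OInj U N Y := by
  intro g₁ g₂ hg
  apply Over.OverMorphism.ext
  refine Scheme.hom_ext_of_forall _ _ fun y => ?_
  obtain ⟨i, hi⟩ := hV y
  refine ⟨V i, hi, congrArg CommaMorphism.left (h i (subι Y (V i) ≫ g₁) (subι Y (V i) ≫ g₂) ?_)⟩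
  let a : ((sub Y (V i)).hom ⁻¹ᵁ U).toScheme ⟶ (Y.hom ⁻¹ᵁ U).toScheme := (V i).ι.resLE _ _ le_rfl
  have ha : a ≫ (Y.hom ⁻¹ᵁ U).ι = ((sub Y (V i)).hom ⁻¹ᵁ U).ι ≫ (V i).ι :=
    Scheme.Hom.resLE_comp_ι _ _
  show _ ≫ (V i).ι ≫ g₁.left = _ ≫ (V i).ι ≫ g₂.left
  rw [← Category.assoc, ← Category.assoc, ← ha, Category.assoc, Category.assoc, hg]

/-- locality of the extension property -/
theorem OSurj.of_forall {I : Type u} (V : I → Y.left.Opens) (hV : ∀ y : Y.left, ∃ i, y ∈ V i)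
    (hinj : ∀ W : Y.left.Opens, (∃ i, W ≤ V i) → OInj U N (sub Y W))
    (h : ∀ i, OSurj U N (sub Y (V i))) : OSurj U N Y := by
  intro k hk
  let a : ∀ W : Y.left.Opens, ((sub Y W).hom ⁻¹ᵁ U).toScheme ⟶ (Y.hom ⁻¹ᵁ U).toScheme :=
    fun W => W.ι.resLE _ _ le_rfl
  have ha : ∀ W, a W ≫ (Y.hom ⁻¹ᵁ U).ι = ((sub Y W).hom ⁻¹ᵁ U).ι ≫ W.ι :=
    fun W => Scheme.Hom.resLE_comp_ι _ _
  have hloc : ∀ i, ∃ g : sub Y (V i) ⟶ N, ((sub Y (V i)).hom ⁻¹ᵁ U).ι ≫ g.left = a (V i) ≫ k :=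
    fun i => h i _ (by rw [Category.assoc, hk, ← Category.assoc, ha, Category.assoc]; rfl)
  choose g hg using hloc
  have hcov : iSup V = ⊤ := top_le_iff.1 fun y _ => TopologicalSpace.Opens.mem_iSup.2 (hV y)
  let 𝒰 : Y.left.OpenCover := Y.left.openCoverOfIsOpenCover V (TopologicalSpace.IsOpenCover.mk hcov)
  have hcompat : ∀ i j, pullback.fst (V i).ι (V j).ι ≫ (g i).left =
      pullback.snd (V i).ι (V j).ι ≫ (g j).left := by
    intro i j
    let q : pullback (V i).ι (V j).ι ⟶ (V i ⊓ V j).toScheme :=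
      IsOpenImmersion.lift (V i ⊓ V j).ι (pullback.fst _ _ ≫ (V i).ι) (by
        rintro _ ⟨z, rfl⟩
        rw [Scheme.Opens.range_ι]
        exact ⟨((pullback.fst (V i).ι (V j).ι) z).2, by
          rw [pullback.condition]; exact ((pullback.snd (V i).ι (V j).ι) z).2⟩)
    have hq : q ≫ (V i ⊓ V j).ι = pullback.fst _ _ ≫ (V i).ι := IsOpenImmersion.lift_fac _ _ _
    have h1 : q ≫ Y.left.homOfLE (inf_le_left : V i ⊓ V j ≤ V i) = pullback.fst _ _ := by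
      rw [← cancel_mono (V i).ι, Category.assoc, Scheme.homOfLE_ι, hq]
    have h2 : q ≫ Y.left.homOfLE (inf_le_right : V i ⊓ V j ≤ V j) = pullback.snd _ _ := by
      rw [← cancel_mono (V j).ι, Category.assoc, Scheme.homOfLE_ι, hq, pullback.condition]
    let r : ∀ l, (V i ⊓ V j ≤ V l) → (sub Y (V i ⊓ V j) ⟶ sub Y (V l)) := fun l hl =>
      Over.homMk (Y.left.homOfLE hl) (Scheme.homOfLE_ι_assoc _ hl _)
    have key : ∀ l (hl : V i ⊓ V j ≤ V l), ((sub Y (V i ⊓ V j)).hom ⁻¹ᵁ U).ι ≫ (r l hl ≫ g l).left =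
        a (V i ⊓ V j) ≫ k := by
      intro l hl
      let b : ((sub Y (V i ⊓ V j)).hom ⁻¹ᵁ U).toScheme ⟶ ((sub Y (V l)).hom ⁻¹ᵁ U).toScheme :=
        (Y.left.homOfLE hl).resLE _ _ (fun z hz => by
          show Y.hom ((V l).ι (Y.left.homOfLE hl z)) ∈ U
          rw [← Scheme.Hom.comp_apply, ← Scheme.Hom.comp_apply, Scheme.homOfLE_ι_assoc]
          exact hz)
      have hb : b ≫ ((sub Y (V l)).hom ⁻¹ᵁ U).ι =
          ((sub Y (V i ⊓ V j)).hom ⁻¹ᵁ U).ι ≫ Y.left.homOfLE hl := Scheme.Hom.resLE_comp_ι _ _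
      have hba : b ≫ a (V l) = a (V i ⊓ V j) := by
        rw [← cancel_mono (Y.hom ⁻¹ᵁ U).ι, Category.assoc, ha, ha, ← Category.assoc, hb,
          Category.assoc, Scheme.homOfLE_ι]
      show _ ≫ Y.left.homOfLE hl ≫ (g l).left = _
      rw [← Category.assoc, ← hb, Category.assoc, hg, ← Category.assoc, hba]
    have := congrArg CommaMorphism.left (hinj (V i ⊓ V j) ⟨i, inf_le_left⟩ (r i inf_le_left ≫ g i)
      (r j inf_le_right ≫ g j) ((key i inf_le_left).trans (key j inf_le_right).symm))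
    rw [← h1, ← h2, Category.assoc, Category.assoc]
    exact congrArg (q ≫ ·) this
  let G : Y.left ⟶ N.left := 𝒰.glueMorphisms (fun i => (g i).left) hcompat
  have hG : ∀ i, (V i).ι ≫ G = (g i).left :=
    fun i => 𝒰.ι_glueMorphisms (fun i => (g i).left) hcompat i
  have hGw : G ≫ N.hom = Y.hom := Scheme.hom_ext_of_forall _ _ fun y => by
    obtain ⟨i, hi⟩ := hV y
    exact ⟨V i, hi, by rw [← Category.assoc, hG]; exact Over.w (g i)⟩
  refine ⟨Over.homMk G hGw, Scheme.hom_ext_of_forall _ _ fun z => ?_⟩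
  obtain ⟨i, hi⟩ := hV ((Y.hom ⁻¹ᵁ U).ι z)
  refine ⟨(Y.hom ⁻¹ᵁ U).ι ⁻¹ᵁ V i, hi, ?_⟩
  let c : ((Y.hom ⁻¹ᵁ U).ι ⁻¹ᵁ V i).toScheme ⟶ ((sub Y (V i)).hom ⁻¹ᵁ U).toScheme :=
    IsOpenImmersion.lift (((sub Y (V i)).hom ⁻¹ᵁ U).ι ≫ (V i).ι)
      (((Y.hom ⁻¹ᵁ U).ι ⁻¹ᵁ V i).ι ≫ (Y.hom ⁻¹ᵁ U).ι) (by
        rintro _ ⟨w, rfl⟩
        exact ⟨⟨⟨_, w.2⟩, w.1.2⟩, rfl⟩)
  have hc : c ≫ ((sub Y (V i)).hom ⁻¹ᵁ U).ι ≫ (V i).ι =
      ((Y.hom ⁻¹ᵁ U).ι ⁻¹ᵁ V i).ι ≫ (Y.hom ⁻¹ᵁ U).ι := IsOpenImmersion.lift_fac _ _ _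
  have hca : c ≫ a (V i) = ((Y.hom ⁻¹ᵁ U).ι ⁻¹ᵁ V i).ι := by
    rw [← cancel_mono (Y.hom ⁻¹ᵁ U).ι, Category.assoc, ha, hc]
  show _ ≫ (Y.hom ⁻¹ᵁ U).ι ≫ G = _ ≫ k
  rw [← hca, Category.assoc, Category.assoc, reassoc_of% (ha (V i)), hG, hg]

/-- restriction along an iso -/
theorem OInj.of_iso {Y' : Over S} (e : Y' ≅ Y) (h : OInj U N Y') : OInj U N Y := by
  rw [← injective_iff] at h ⊢
  intro g₁ g₂ hg
  have := h (a₁ := e.hom ≫ g₁) (a₂ := e.hom ≫ g₂) (by simp only [Functor.map_comp]; exact congrArg (_ ≫ ·) hg)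
  exact (cancel_epi e.hom).1 this

theorem OSurj.of_iso {Y' : Over S} (e : Y' ≅ Y) (h : OSurj U N Y') : OSurj U N Y := by
  rw [← surjective_iff] at h ⊢
  intro k
  obtain ⟨g, hg⟩ := h ((Over.pullback U.ι).map e.hom ≫ k)
  refine ⟨e.inv ≫ g, ?_⟩
  simp only [Functor.map_comp] at hg ⊢
  rw [hg, ← Category.assoc, ← Functor.map_comp, e.inv_hom_id, CategoryTheory.Functor.map_id, Category.id_comp]

end Groth.Agent.NeronA
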