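import Mathlib

/-!
# Weierstrass cubics with `j` and `j - 1728` units become isomorphic after an étale cover
-/

set_option autoImplicit false
set_option linter.style.haveILetI false

universe u

open Polynomial

namespace Groth.Agent.NeronA.OrdinaryJ

section Normal

variable {B : Type u} [CommRing B] (W : WeierstrassCurve B)

theorem isUnit_c₄ [W.IsElliptic] (h0 : IsUnit W.j) : IsUnit W.c₄ := by
  have : W.c₄ ^ 3 = W.Δ * W.j := by
    rw [WeierstrassCurve.j, ← mul_assoc, ← W.coe_Δ', Units.mul_inv, one_mul]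
  refine (isUnit_pow_iff (three_ne_zero)).1 (this ▸ W.isUnit_Δ.mul h0)

theorem isUnit_c₆ [W.IsElliptic] (h : IsUnit (W.j - 1728)) : IsUnit W.c₆ := by
  have hj : W.c₄ ^ 3 = W.Δ * W.j := by
    rw [WeierstrassCurve.j, ← mul_assoc, ← W.coe_Δ', Units.mul_inv, one_mul]
  have : W.c₆ ^ 2 = W.Δ * (W.j - 1728) := by linear_combination hj + W.c_relation
  exact (isUnit_pow_iff two_ne_zero).1 (this ▸ W.isUnit_Δ.mul h)

/-- The normal form `y² + xy = x³ + 36 a x + a`. -/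
def normalForm (a : B) : WeierstrassCurve B := ⟨1, 0, 0, 36 * a, a⟩

theorem exists_normal [W.IsElliptic] (h0 : IsUnit W.j) (h1728 : IsUnit (W.j - 1728)) (θ rW : B)
    (hr : rW * W.c₄ = -W.b₂ * W.b₄ + 18 * W.b₆) (hθ : θ ^ 2 + W.a₁ * θ = W.a₂ + 3 * rW) :
    ∃ (C : WeierstrassCurve.VariableChange B) (a : B), C • W = normalForm a ∧ a * (1728 - W.j) = 1 := by
  have hc₄ := isUnit_c₄ W h0
  have hc₆ := isUnit_c₆ W h1728
  have hD : (W.a₁ + 2 * θ) ^ 2 = W.b₂ + 12 * rW := by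
    rw [WeierstrassCurve.b₂]; linear_combination 4 * hθ
  have hDc : (W.b₂ + 12 * rW) * W.c₄ = -W.c₆ := by
    have h12 := congrArg (fun z => 12 * z) hr
    simp only [WeierstrassCurve.c₆, WeierstrassCurve.c₄] at h12 ⊢
    linear_combination h12
  have hδ : IsUnit (W.a₁ + 2 * θ) := by
    refine (isUnit_pow_iff two_ne_zero).1 ?_
    rw [hD]
    exact (IsUnit.mul_iff.1 (show IsUnit ((W.b₂ + 12 * rW) * W.c₄) by rw [hDc]; exact hc₆.neg)).1
  obtain ⟨δ, hδ'⟩ := hδ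
  let C₁ : WeierstrassCurve.VariableChange B := ⟨δ, rW, θ, 0⟩
  set V := C₁ • W with hV
  have hinv : ((δ⁻¹ : Bˣ) : B) * (W.a₁ + 2 * θ) = 1 := by rw [← hδ', Units.inv_mul]
  have ha1 : V.a₁ = 1 := hinv
  have ha2 : V.a₂ = 0 := by
    rw [hV, WeierstrassCurve.variableChange_a₂]
    show ((δ⁻¹ : Bˣ) : B) ^ 2 * (W.a₂ - θ * W.a₁ + 3 * rW - θ ^ 2) = 0
    linear_combination -((δ⁻¹ : Bˣ) : B) ^ 2 * hθ
  have hb2 : V.b₂ = 1 := by rw [WeierstrassCurve.b₂, ha1, ha2]; ring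
  have hb46 : V.b₄ = 18 * V.b₆ := by
    have key : -V.b₂ * V.b₄ + 18 * V.b₆ = 0 := by
      rw [hV, WeierstrassCurve.variableChange_b₂, WeierstrassCurve.variableChange_b₄,
        WeierstrassCurve.variableChange_b₆]
      simp only [WeierstrassCurve.c₄] at hr
      show -((((δ⁻¹ : Bˣ) : B)) ^ 2 * (W.b₂ + 12 * rW)) * (((δ⁻¹ : Bˣ) : B) ^ 4 * (W.b₄ + rW * W.b₂ + 6 * rW ^ 2)) +
        18 * (((δ⁻¹ : Bˣ) : B) ^ 6 * (W.b₆ + 2 * rW * W.b₄ + rW ^ 2 * W.b₂ + 4 * rW ^ 3)) = 0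
      linear_combination -((δ⁻¹ : Bˣ) : B) ^ 6 * hr
    rw [hb2] at key
    linear_combination -key
  let C₂ : WeierstrassCurve.VariableChange B := ⟨1, 0, 0, V.a₄ - 9 * V.b₆⟩
  set a := (C₂ • V).a₆ with haa
  have hN : C₂ • V = normalForm a := by
    simp only [WeierstrassCurve.b₄, WeierstrassCurve.b₆, ha1] at hb46
    ext
    · simp [C₂, normalForm, WeierstrassCurve.variableChange_a₁, ha1]
    · simp [C₂, normalForm, WeierstrassCurve.variableChange_a₂, ha1, ha2]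
    · simp only [C₂, normalForm, WeierstrassCurve.variableChange_a₃, WeierstrassCurve.b₆, inv_one, Units.val_one]
      linear_combination hb46
    · simp only [C₂, a, normalForm, WeierstrassCurve.variableChange_a₄, WeierstrassCurve.variableChange_a₆,
        WeierstrassCurve.b₆, ha1, inv_one, Units.val_one]
      linear_combination 9 * (V.a₃ + 2 * V.a₄ - 18 * (V.a₃ ^ 2 + 4 * V.a₆)) * hb46
    · simp [normalForm, a]
  refine ⟨C₂ * C₁, a, by rw [mul_smul, ← hV, hN], ?_⟩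
  · 
    haveI : (normalForm a).IsElliptic := by rw [← hN]; infer_instance
    have hj : (normalForm a).j = W.j := by
      have h1 : (C₂ • V).j = W.j :=
        (WeierstrassCurve.variableChange_j (C₁ • W) C₂).trans (WeierstrassCurve.variableChange_j W C₁)
      rw [← h1]; congr 1; exact hN.symm
    have hc : IsUnit (normalForm a).c₄ := isUnit_c₄ _ (hj ▸ h0)
    have hjd : (normalForm a).Δ * W.j = (normalForm a).c₄ ^ 3 := by
      rw [← hj, WeierstrassCurve.j, ← mul_assoc, ← WeierstrassCurve.coe_Δ', Units.mul_inv, one_mul]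
    have hc' : (normalForm a).c₄ = 1 - 1728 * a := by
      simp [normalForm, WeierstrassCurve.c₄, WeierstrassCurve.b₂, WeierstrassCurve.b₄]; ring
    have hΔ : (normalForm a).Δ = -a * (1 - 1728 * a) ^ 2 := by
      simp [normalForm, WeierstrassCurve.Δ, WeierstrassCurve.b₂, WeierstrassCurve.b₄, WeierstrassCurve.b₆,
        WeierstrassCurve.b₈]; ring
    rw [hc', hΔ] at hjd
    rw [hc'] at hc
    have : (1 - 1728 * a) ^ 2 * (a * (1728 - W.j) - 1) = 0 := by linear_combination hjd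
    exact sub_eq_zero.1 ((hc.pow 2).mul_right_eq_zero.1 this)

end Normal

section Cover

variable {A : Type u} [CommRing A]

/-- The standard étale pair of `X² + aX - b` for a unit discriminant `a² + 4b`. -/
noncomputable def quadPair (a b : A) (D : Aˣ) (hD : (D : A) = a ^ 2 + 4 * b) : StandardEtalePair A where
  f := X ^ 2 + C a * X - C b
  monic_f := by monicity!
  g := 1
  cond := ⟨C ((D⁻¹ : Aˣ) : A) * (2 * X + C a), C (-4 * ((D⁻¹ : Aˣ) : A)), 0, by
    have h : C ((D⁻¹ : Aˣ) : A) * (C a ^ 2 + 4 * C b) = 1 := by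
      rw [show (4 : A[X]) = C 4 from (map_ofNat C 4).symm, ← map_pow, ← map_mul, ← map_add, ← map_mul, ← hD,
        Units.inv_mul, map_one]
    simp only [derivative_sub, derivative_add, derivative_X_pow, derivative_C_mul, derivative_X, derivative_C,
      pow_zero, map_mul, map_neg, map_ofNat, Nat.cast_ofNat]
    linear_combination h⟩

theorem exists_field_root {k : Type u} [Field k] [IsAlgClosed k] (φ : A →+* k) (a b : A) (D : Aˣ)
    (hD : (D : A) = a ^ 2 + 4 * b) :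
    ∃ ψ : (quadPair a b D hD).Ring →+* k, ψ.comp (algebraMap A (quadPair a b D hD).Ring) = φ := by
  letI := φ.toAlgebra
  obtain ⟨x, hx⟩ := IsAlgClosed.exists_root ((quadPair a b D hD).f.map φ) (by
    haveI : Nontrivial A := φ.domain_nontrivial
    rw [(quadPair a b D hD).monic_f.degree_map φ]
    have h2 : (X ^ 2 + C a * X - C b : A[X]).degree = 2 := by compute_degree!
    show (X ^ 2 + C a * X - C b : A[X]).degree ≠ 0
    rw [h2]; decide)
  replace hx : aeval x (quadPair a b D hD).f = 0 := by rwa [aeval_def, ← eval_map]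
  let l : (quadPair a b D hD).Ring →ₐ[A] k := (quadPair a b D hD).lift x ⟨hx, by simp [quadPair]⟩
  exact ⟨l.toRingHom, RingHom.ext fun r => l.commutes r⟩

theorem exists_cover (W₁ W₂ : WeierstrassCurve A) [W₁.IsElliptic] [W₂.IsElliptic] (hj : W₁.j = W₂.j)
    (h0 : IsUnit W₁.j) (h1728 : IsUnit (W₁.j - 1728)) (p : PrimeSpectrum A) :
    ∃ (B : Type u) (_ : CommRing B) (_ : Algebra A B), Algebra.Etale A B ∧
      p ∈ Set.range (PrimeSpectrum.comap (algebraMap A B)) ∧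
      ∃ C : WeierstrassCurve.VariableChange B, C • (W₁.map (algebraMap A B)) = W₂.map (algebraMap A B) := by
  obtain ⟨c₁, hc₁⟩ := isUnit_c₄ W₁ h0
  obtain ⟨c₂, hc₂⟩ := isUnit_c₄ W₂ (hj ▸ h0)
  let r₁ := (-W₁.b₂ * W₁.b₄ + 18 * W₁.b₆) * ((c₁⁻¹ : Aˣ) : A)
  let r₂ := (-W₂.b₂ * W₂.b₄ + 18 * W₂.b₆) * ((c₂⁻¹ : Aˣ) : A)
  have hr₁ : r₁ * W₁.c₄ = -W₁.b₂ * W₁.b₄ + 18 * W₁.b₆ := by rw [← hc₁, mul_assoc, Units.inv_mul, mul_one]
  have hr₂ : r₂ * W₂.c₄ = -W₂.b₂ * W₂.b₄ + 18 * W₂.b₆ := by rw [← hc₂, mul_assoc, Units.inv_mul, mul_one]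
  have hu : ∀ (W : WeierstrassCurve A) [W.IsElliptic] (r : A), IsUnit (W.j - 1728) →
      r * W.c₄ = -W.b₂ * W.b₄ + 18 * W.b₆ → IsUnit (W.a₁ ^ 2 + 4 * (W.a₂ + 3 * r)) := fun W _ r h hr => by
    have h2 : (W.a₁ ^ 2 + 4 * (W.a₂ + 3 * r)) * W.c₄ = -W.c₆ := by
      have h12 := congrArg (fun z => 12 * z) hr
      simp only [WeierstrassCurve.c₆, WeierstrassCurve.c₄, WeierstrassCurve.b₂] at h12 ⊢
      linear_combination h12
    exact (IsUnit.mul_iff.1 (h2 ▸ (isUnit_c₆ W h).neg)).1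
  obtain ⟨D₁, hD₁⟩ := hu W₁ r₁ h1728 hr₁
  let P₁ := quadPair W₁.a₁ (W₁.a₂ + 3 * r₁) D₁ hD₁
  obtain ⟨D₂', hD₂'⟩ := hu W₂ r₂ (hj ▸ h1728) hr₂
  let φ₁ := algebraMap A P₁.Ring
  let D₂ : P₁.Ringˣ := Units.map φ₁.toMonoidHom D₂'
  have hD₂ : (D₂ : P₁.Ring) = (φ₁ W₂.a₁) ^ 2 + 4 * φ₁ (W₂.a₂ + 3 * r₂) := by
    show φ₁ D₂' = _
    rw [hD₂', map_add φ₁ (W₂.a₁ ^ 2), map_pow, map_mul, map_ofNat]
  let P₂ := quadPair (φ₁ W₂.a₁) (φ₁ (W₂.a₂ + 3 * r₂)) D₂ hD₂
  letI : Algebra A P₂.Ring := ((algebraMap P₁.Ring P₂.Ring).comp φ₁).toAlgebra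
  haveI : IsScalarTower A P₁.Ring P₂.Ring := IsScalarTower.of_algebraMap_eq' rfl
  refine ⟨P₂.Ring, inferInstance, inferInstance, Algebra.Etale.comp A P₁.Ring P₂.Ring, ?_, ?_⟩
  · let k := AlgebraicClosure p.asIdeal.ResidueField
    obtain ⟨ψ₁, hψ₁⟩ := exists_field_root ((algebraMap p.asIdeal.ResidueField k).comp
      (algebraMap A p.asIdeal.ResidueField)) W₁.a₁ (W₁.a₂ + 3 * r₁) D₁ hD₁
    obtain ⟨ψ₂, hψ₂⟩ := exists_field_root ψ₁ _ _ D₂ hD₂
    refine ⟨⟨RingHom.ker ψ₂, RingHom.ker_isPrime ψ₂⟩, PrimeSpectrum.ext ?_⟩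
    show (RingHom.ker ψ₂).comap ((algebraMap P₁.Ring P₂.Ring).comp φ₁) = p.asIdeal
    rw [RingHom.comap_ker, ← RingHom.comp_assoc, hψ₂, hψ₁,
      ← RingHom.comap_ker, (RingHom.injective_iff_ker_eq_bot _).1 (algebraMap p.asIdeal.ResidueField k).injective,
      ← RingHom.ker_eq_comap_bot, Ideal.ker_algebraMap_residueField]
  · let φ := algebraMap A P₂.Ring
    have key : ∀ (W : WeierstrassCurve A) [W.IsElliptic] (r : A) (θ : P₂.Ring), W.j = W₁.j →
        r * W.c₄ = -W.b₂ * W.b₄ + 18 * W.b₆ → θ ^ 2 + φ W.a₁ * θ = φ (W.a₂ + 3 * r) →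
        ∃ (C : WeierstrassCurve.VariableChange P₂.Ring) (a : P₂.Ring),
          C • W.map φ = normalForm a ∧ a * (1728 - φ W₁.j) = 1 := by
      intro W _ r θ hjW hr hθ
      have := exists_normal (W.map φ) (by rw [W.map_j, hjW]; exact h0.map φ)
        (by rw [W.map_j, hjW, ← map_ofNat φ 1728, ← map_sub]; exact h1728.map φ) θ (φ r)
        (by simpa only [WeierstrassCurve.map_c₄, WeierstrassCurve.map_b₂, WeierstrassCurve.map_b₄,
          WeierstrassCurve.map_b₆, map_mul, map_add, map_neg, map_ofNat] using congrArg φ hr)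
        (by simpa only [WeierstrassCurve.map_a₁, WeierstrassCurve.map_a₂, map_mul, map_add, map_ofNat] using hθ)
      rwa [W.map_j, hjW] at this
    have q₁ := (StandardEtalePair.hasMap_X (P := P₁)).1
    have q₂ := (StandardEtalePair.hasMap_X (P := P₂)).1
    change aeval P₁.X (X ^ 2 + C W₁.a₁ * X - C (W₁.a₂ + 3 * r₁)) = 0 at q₁
    change aeval P₂.X (X ^ 2 + C (φ₁ W₂.a₁) * X - C (φ₁ (W₂.a₂ + 3 * r₂))) = 0 at q₂
    rw [map_sub, map_add, map_mul, map_pow, aeval_X, aeval_C, aeval_C, sub_eq_zero] at q₁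
    rw [map_sub, map_add (aeval P₂.X), map_mul (aeval P₂.X), map_pow, aeval_X, aeval_C, aeval_C, sub_eq_zero] at q₂
    obtain ⟨C₁, a, e₁, h₁⟩ := key W₁ r₁ (algebraMap P₁.Ring P₂.Ring P₁.X) rfl hr₁ (by
      have := congrArg (algebraMap P₁.Ring P₂.Ring) q₁
      simpa only [map_add, map_mul, map_pow, map_ofNat, φ, ← IsScalarTower.algebraMap_apply] using this)
    obtain ⟨C₂, a', e₂, h₂⟩ := key W₂ r₂ P₂.X hj.symm hr₂ (by
      simpa only [map_add, map_mul, map_pow, map_ofNat, φ, φ₁, ← IsScalarTower.algebraMap_apply] using q₂)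
    have haa : a = a' := calc
      a = a * (a' * (1728 - φ W₁.j)) := by rw [h₂, mul_one]
      _ = (a * (1728 - φ W₁.j)) * a' := by ring
      _ = a' := by rw [h₁, one_mul]
    exact ⟨C₂⁻¹ * C₁, by rw [mul_smul, e₁, haa, ← e₂, inv_smul_smul]⟩

end Cover

end Groth.Agent.NeronA.OrdinaryJ
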