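import Groth.Prelude.Def_Neron
import Mathlib.AlgebraicGeometry.Morphisms.QuasiFinite
import Mathlib.RingTheory.DedekindDomain.Ideal.Lemmas
import Mathlib.RingTheory.DedekindDomain.Dvr
import Mathlib.RingTheory.Flat.TorsionFree

/-!
# Flat schemes over Dedekind domains with finite generic fibre are quasi-finite
-/

set_option autoImplicit false

universe u

open CategoryTheory Limits AlgebraicGeometry TensorProduct

namespace Groth.Agent.NeronA

theorem quasiFinite_of_flat (R B : Type u) [CommRing R] [IsDedekindDomain R] [CommRing B]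
    [Algebra R B] [Module.Flat R B] [Module.Finite (FractionRing R) (FractionRing R ⊗[R] B)] :
    Algebra.QuasiFinite R B := by
  let K := FractionRing R
  refine ⟨fun P hP => ?_⟩
  let k := P.ResidueField
  let v : B → P.Fiber B := fun b => (1 : k) ⊗ₜ[R] b
  have hspan : Submodule.span k (Set.range v) = ⊤ := by
    rw [eq_top_iff]
    rintro x -
    induction x using TensorProduct.induction_on with
    | zero => exact Submodule.zero_mem _
    | add x y hx hy => exact Submodule.add_mem _ hx hy
    | tmul a b =>
      have : a ⊗ₜ[R] b = a • v b := by simp [v, TensorProduct.smul_tmul']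
      rw [this]
      exact Submodule.smul_mem _ _ (Submodule.subset_span ⟨b, rfl⟩)
  have hli : ∀ {ι : Type u} (b : ι → B), LinearIndependent k (fun i => v (b i)) → LinearIndependent R b := by
    intro ι b hb
    rw [linearIndependent_iff'] at hb ⊢
    intro s r hr j hj
    by_contra hj0
    obtain ⟨a, ha, i₀, hi₀, hnot⟩ := Ideal.exist_integer_multiples_notMem (K := K) hP.ne_top s
      (fun i => algebraMap R K (r i)) hj (by simpa using hj0)
    choose! c hc using ha
    obtain ⟨num, den, hden, rfl⟩ := IsFractionRing.div_surjective R a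
    have hd0 : algebraMap R K den ≠ 0 := by simpa using nonZeroDivisors.ne_zero hden
    have hc' : ∀ i ∈ s, den * c i = num * r i := fun i hi => by
      apply IsFractionRing.injective R K
      have := hc i hi
      rw [map_mul, map_mul, this]
      rw [← mul_assoc, mul_div_cancel₀ _ hd0]
    have h0 : ∑ i ∈ s, c i • b i = 0 := by
      have : den • ∑ i ∈ s, c i • b i = 0 := by
        rw [Finset.smul_sum, Finset.sum_congr rfl (g := fun i => num • (r i • b i))
          (fun i hi => by rw [smul_smul, smul_smul, hc' i hi]), ← Finset.smul_sum, hr, smul_zero]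
      exact (smul_eq_zero.1 this).resolve_left (nonZeroDivisors.ne_zero hden)
    have h1 : ∑ i ∈ s, algebraMap R k (c i) • v (b i) = 0 := by
      simp only [v, algebraMap_smul, ← TensorProduct.tmul_smul, ← TensorProduct.tmul_sum, h0,
        TensorProduct.tmul_zero]
    apply hnot
    rw [FractionalIdeal.mem_coeIdeal]
    exact ⟨c i₀, Ideal.algebraMap_residueField_eq_zero.1 (hb s _ h1 i₀ hi₀), hc i₀ hi₀⟩
  obtain ⟨t, ht, hts, htli⟩ := exists_linearIndependent k (Set.range v)
  choose g hg using fun x : t => ht x.2
  have hgk : LinearIndependent k (fun x => v (g x)) := by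
    have : (fun x => v (g x)) = ((↑) : t → P.Fiber B) := funext hg
    rw [this]; exact htli
  have hgR : LinearIndependent R g := hli g hgk
  let ι : B →ₗ[R] K ⊗[R] B := (TensorProduct.mk R K B) 1
  have hι : Function.Injective ι := by
    have h := Module.Flat.rTensor_preserves_injective_linearMap (M := B) (Algebra.linearMap R K)
      (IsFractionRing.injective R K)
    have e : ⇑ι = ⇑((Algebra.linearMap R K).rTensor B) ∘ (TensorProduct.lid R B).symm := by
      ext b; simp [ι]
    rw [e]
    exact h.comp (TensorProduct.lid R B).symm.injective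
  have hK : LinearIndependent K (fun x => ι (g x)) :=
    (LinearIndependent.iff_fractionRing R K).1 (hgR.map' ι (LinearMap.ker_eq_bot.2 hι))
  haveI : Finite t := hK.finite
  exact ⟨Submodule.fg_def.2 ⟨t, Set.toFinite t, hts.trans hspan⟩⟩

theorem chart (R B : Type u) [CommRing R] [IsDedekindDomain R] [CommRing B] [Algebra R B]
    (H : Over (Spec (CommRingCat.of R))) [Flat H.hom]
    [LocallyQuasiFinite ((Neron.genericFibre R).obj H).hom]
    (j : Spec (CommRingCat.of B) ⟶ H.left) [IsOpenImmersion j]
    (hj : Spec.map (CommRingCat.ofHom (algebraMap R B)) = j ≫ H.hom) :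
    Algebra.QuasiFinite R B := by
  haveI hjf : Flat (j ≫ H.hom) := inferInstance
  rw [← hj, Flat.SpecMap_iff] at hjf
  haveI : Module.Flat R B := RingHom.flat_algebraMap_iff.1 hjf
  let K := FractionRing R
  let a := Spec.map (CommRingCat.ofHom (algebraMap R B))
  let b := Spec.map (CommRingCat.ofHom (algebraMap R K))
  let m : pullback a b ⟶ pullback H.hom b :=
    pullback.map a b H.hom b j (𝟙 _) (𝟙 _) (by rw [Category.comp_id]; exact hj) (by simp)
  haveI : IsOpenImmersion m :=
    @Scheme.pullback_map_isOpenImmersion _ _ _ _ _ _ _ _ _ _ _ _ _ _ _ ‹IsOpenImmersion j› inferInstance inferInstance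
  haveI : LocallyQuasiFinite (pullback.snd H.hom b) := ‹_›
  have hm : m ≫ pullback.snd H.hom b = pullback.snd a b := (pullback.lift_snd _ _ _).trans (Category.comp_id _)
  haveI : LocallyQuasiFinite (pullback.snd a b) := hm ▸ inferInstance
  haveI : IsAffine (pullback a b) := IsAffine.of_isIso (pullbackSpecIso R B K).hom
  haveI : IsFinite (pullback.snd a b) := IsFinite.of_locallyQuasiFinite _
  let e := pullbackSymmetry b a
  have h3 : IsFinite ((pullbackSpecIso R K B).inv ≫ e.hom ≫ pullback.snd a b) := inferInstance
  rw [pullbackSymmetry_hom_comp_snd, pullbackSpecIso_inv_fst', IsFinite.SpecMap_iff] at h3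
  haveI : Module.Finite K (K ⊗[R] B) := RingHom.finite_algebraMap.1 h3
  exact quasiFinite_of_flat R B

theorem locallyQuasiFinite_of_generic (R : Type u) [CommRing R] [IsDedekindDomain R] (H : Over (Spec (CommRingCat.of R)))
    [Flat H.hom] [LocallyQuasiFinite ((Neron.genericFibre R).obj H).hom] :
    LocallyQuasiFinite H.hom := by
  haveI : IsZariskiLocalAtSource (@LocallyQuasiFinite.{u}) := HasRingHomProperty.instIsZariskiLocalAtSource
  refine IsZariskiLocalAtSource.of_openCover (P := @LocallyQuasiFinite.{u}) H.left.affineOpenCover.openCover fun i => ?_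
  change LocallyQuasiFinite (H.left.affineOpenCover.f i ≫ H.hom)
  obtain ⟨φ, hφ⟩ := Spec.map_surjective (H.left.affineOpenCover.f i ≫ H.hom)
  haveI : IsOpenImmersion (H.left.affineOpenCover.f i) := H.left.affineOpenCover.map_prop i
  rw [← hφ, HasRingHomProperty.Spec_iff (P := @LocallyQuasiFinite.{u})]
  letI : Algebra R (H.left.affineOpenCover.X i) := φ.hom.toAlgebra
  exact chart R (H.left.affineOpenCover.X i) H (H.left.affineOpenCover.f i) hφ

end Groth.Agent.NeronA
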