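import Groth.Agent.WeilExt.Dedekind

/-!
# Rational maps from smooth schemes over a field to proper group schemes are morphisms
-/

set_option autoImplicit false

universe u

open CategoryTheory Limits AlgebraicGeometry TopologicalSpace MonoidalCategory CartesianMonoidalCategory

namespace Groth.Agent.NeronA

theorem existsUnique_extension_field {K : Type u} [Field K]
    {X A : Over (Spec (CommRingCat.of K))} [Smooth X.hom] [GrpObj A] [IsProper A.hom]
    (U : X.left.Opens) (hU : Dense (U : Set X.left)) (f : U.toScheme ⟶ A.left)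
    (hf : f ≫ A.hom = U.ι ≫ X.hom) :
    ∃! g : X ⟶ A, U.ι ≫ g.left = f := by
  have hS : ∀ s : Spec (CommRingCat.of K), IsRegularLocalRing ((Spec (CommRingCat.of K)).presheaf.stalk s) :=
    fun s => WeilExt.isRegularLocalRing_stalk_spec s
  haveI : IsLocallyNoetherian X.left := LocallyOfFiniteType.isLocallyNoetherian X.hom
  haveI := WeilExt.isReduced_smooth hS X.hom
  obtain ⟨V, hUV, g₁, hg₁, hg₁U, hV⟩ := WeilExt.exists_extension_codimTwo hS U hU f hf
  haveI : Subsingleton ↥(Spec (CommRingCat.of K)) :=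
    inferInstanceAs (Subsingleton (PrimeSpectrum K))
  have hfib : ∀ x : X.left, ∃ z : X.left, z ⤳ x ∧ X.hom z = X.hom x ∧ z ∈ V := fun x => by
    obtain ⟨z, hz, hzU⟩ := WeilExt.exists_generization_mem U hU x
    exact ⟨z, hz, Subsingleton.elim _ _, hUV hzU⟩
  obtain ⟨g, ⟨hg, hgV⟩, huniq⟩ := WeilExt.existsUnique_extension hS V hV hfib g₁ hg₁
  refine ⟨Over.homMk g hg, ?_, fun g' hg' => ?_⟩
  · show U.ι ≫ g = f
    rw [← Scheme.homOfLE_ι X.left hUV, Category.assoc, hgV, hg₁U]
  · haveI : IsDominant U.ι := ⟨by rw [DenseRange, Scheme.Opens.range_ι]; exact hU⟩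
    ext
    refine ext_of_isDominant_of_isSeparated A.hom ((Over.w g').trans hg.symm) U.ι (hg'.trans ?_)
    show f = U.ι ≫ g
    rw [← Scheme.homOfLE_ι X.left hUV, Category.assoc, hgV, hg₁U]

end Groth.Agent.NeronA
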