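import Groth.Prelude.Def_Neron
import Groth.Agent.Neron6.Over
import Groth.Agent.FlatMisc.SteinUC

/-!
# Proper modifications of flat schemes over a discrete valuation ring with reduced special fibre
-/

set_option autoImplicit false

universe u

open CategoryTheory Limits AlgebraicGeometry TopologicalSpace IsLocalRing

namespace Groth.Agent.NeronA

variable {R : Type u} [CommRing R] [IsDomain R] [IsDiscreteValuationRing R]

/-- the image of a scalar in the functions on an open -/
noncomputable def sc {Z : Scheme.{u}} (f : Z ⟶ Spec (CommRingCat.of R)) (V : Z.Opens) : R →+* Γ(Z, V) :=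
  ((Scheme.ΓSpecIso (CommRingCat.of R)).inv ≫ f.appLE ⊤ V (le_of_le_of_eq le_top f.preimage_top.symm)).hom

theorem sc_res {Z : Scheme.{u}} (f : Z ⟶ Spec (CommRingCat.of R)) {V W : Z.Opens} (h : W ≤ V) (r : R) :
    Z.presheaf.map (homOfLE h).op (sc f V r) = sc f W r := by
  show ((Scheme.ΓSpecIso _).inv ≫ f.appLE ⊤ V _ ≫ Z.presheaf.map (homOfLE h).op).hom r = _
  rw [Scheme.Hom.appLE_map]
  rfl

theorem basicOpen_sc {Z : Scheme.{u}} (f : Z ⟶ Spec (CommRingCat.of R)) (V : Z.Opens) (r : R) :
    Z.basicOpen (sc f V r) = V ⊓ f ⁻¹ᵁ PrimeSpectrum.basicOpen r := by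
  show Z.basicOpen (f.appLE ⊤ V _ ((Scheme.ΓSpecIso (CommRingCat.of R)).inv r)) = _
  rw [Scheme.basicOpen_appLE, basicOpen_eq_of_affine']
  simp

theorem sc_app {X Y : Scheme.{u}} (π : Y ⟶ X) (f : X ⟶ Spec (CommRingCat.of R)) (V : X.Opens) (r : R) :
    π.app V (sc f V r) = sc (π ≫ f) (π ⁻¹ᵁ V) r := by
  show ((Scheme.ΓSpecIso _).inv ≫ f.appLE ⊤ V _ ≫ π.app V).hom r = _
  rw [Scheme.Hom.app_eq_appLE, Scheme.Hom.appLE_comp_appLE]
  rfl

/-- functions on flat schemes are torsion free -/
theorem eq_zero_of_sc_mul {Z : Scheme.{u}} (f : Z ⟶ Spec (CommRingCat.of R)) [Flat f] (V : Z.Opens)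
    {r : R} (hr : r ≠ 0) (b : Γ(Z, V)) (hb : sc f V r * b = 0) : b = 0 := by
  have hx : ∀ p : V, ∃ W : Z.Opens, IsAffineOpen W ∧ p.1 ∈ W ∧ W ≤ V := fun p => by
    obtain ⟨W, hW, hpW, hle⟩ := exists_isAffineOpen_mem_and_subset (x := p.1) (U := V) p.2
    exact ⟨W, hW, hpW, hle⟩
  choose W hW hpW hWV using hx
  refine Z.sheaf.eq_of_locally_eq' W V (fun p => homOfLE (hWV p))
    (fun p hp => Opens.mem_iSup.2 ⟨⟨p, hp⟩, hpW ⟨p, hp⟩⟩) _ _ fun p => ?_
  show Z.presheaf.map (homOfLE (hWV p)).op b = Z.presheaf.map (homOfLE (hWV p)).op 0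
  rw [map_zero]
  have h0 : sc f (W p) r * Z.presheaf.map (homOfLE (hWV p)).op b = 0 := by
    rw [← sc_res f (hWV p), ← map_mul, hb, map_zero]
  have hf : (f.appLE ⊤ (W p) (le_of_le_of_eq le_top f.preimage_top.symm)).hom.Flat :=
    HasRingHomProperty.appLE @Flat f inferInstance ⟨⊤, isAffineOpen_top _⟩ ⟨W p, hW p⟩ _
  have hf' : (sc f (W p)).Flat :=
    RingHom.Flat.respectsIso.cancel_left_isIso (Scheme.ΓSpecIso (CommRingCat.of R)).inv _ |>.2 hf
  algebraize [sc f (W p)]
  haveI : Module.Flat R Γ(Z, W p) := hf'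
  haveI : Module.IsTorsionFree R Γ(Z, W p) := inferInstance
  have : r • Z.presheaf.map (homOfLE (hWV p)).op b = 0 := by rw [Algebra.smul_def]; exact h0
  exact (smul_eq_zero.1 this).resolve_left hr

theorem isIso_app_of_reducedFibre (X Y : Over (Spec (CommRingCat.of R))) [Flat X.hom] [Flat Y.hom]
    (π : Y ⟶ X) [IsProper π.left] (hgen : IsIso ((Neron.genericFibre R).map π))
    [IsReduced (X.hom.fiber (closedPoint R))] (V₀ : X.left.Opens) : IsIso (π.left.app V₀) := by
  obtain ⟨ϖ, hϖ⟩ := IsDiscreteValuationRing.exists_irreducible R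
  have hm : maximalIdeal R = Ideal.span {ϖ} := (IsDiscreteValuationRing.irreducible_iff_uniformizer ϖ).1 hϖ
  -- the generic point is the open set `D(ϖ)`
  haveI : IsLocalization.Away ϖ (FractionRing R) := by
    refine (IsLocalization.iff_of_le_of_exists_dvd (Submonoid.powers ϖ) (nonZeroDivisors R)
      (Submonoid.powers_le.2 (mem_nonZeroDivisors_of_ne_zero hϖ.ne_zero)) fun a ha => ?_).2
      (inferInstanceAs (IsLocalization (nonZeroDivisors R) (FractionRing R)))
    obtain ⟨n, hn⟩ := IsDiscreteValuationRing.associated_pow_irreducible (nonZeroDivisors.ne_zero ha) hϖ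
    exact ⟨ϖ ^ n, ⟨n, rfl⟩, hn.dvd⟩
  haveI : IsOpenImmersion (Neron.genPt R) := IsOpenImmersion.of_isLocalization (S := FractionRing R) ϖ
  have hgr : Set.range (Neron.genPt R) = (PrimeSpectrum.basicOpen ϖ : Set (PrimeSpectrum R)) :=
    PrimeSpectrum.localization_away_comap_range (FractionRing R) ϖ
  let W : X.left.Opens := X.hom ⁻¹ᵁ PrimeSpectrum.basicOpen ϖ
  let i : pullback X.hom (Neron.genPt R) ⟶ X.left := pullback.fst _ _
  have hsq : IsPullback ((Neron.genericFibre R).map π).left (pullback.fst Y.hom (Neron.genPt R)) i π.left := by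
    refine IsPullback.of_right ?_ (Neron6.pullback_map_fst _ π) (IsPullback.of_hasPullback X.hom (Neron.genPt R)).flip |>.flip.flip
    rw [Over.w π, show ((Neron.genericFibre R).map π).left ≫ pullback.snd X.hom (Neron.genPt R) =
      pullback.snd Y.hom (Neron.genPt R) from Over.w ((Neron.genericFibre R).map π)]
    exact (IsPullback.of_hasPullback Y.hom (Neron.genPt R)).flip
  have hi : Set.range i = W := by
    rw [Scheme.Pullback.range_fst, hgr]; rfl
  have hiso : IsIso (π.left ∣_ W) := by
    haveI := hgen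
    haveI : IsIso ((Neron.genericFibre R).map π).left := inferInstanceAs (IsIso ((Over.forget (Spec (CommRingCat.of (FractionRing R)))).map ((Neron.genericFibre R).map π)))
    have h1 : IsIso (pullback.fst i π.left) := by
      have : IsIso (hsq.isoPullback.hom ≫ pullback.fst i π.left) := hsq.isoPullback_hom_fst.symm ▸ inferInstance
      exact IsIso.of_isIso_comp_left hsq.isoPullback.hom _
    have hW : i.opensRange = W := Opens.ext hi
    rw [← hW]
    refine ((MorphismProperty.isomorphisms Scheme.{u}).arrow_mk_iso_iff ?_).2 h1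
    exact (morphismRestrictOpensRange π.left i).trans (Arrow.isoMk (pullbackSymmetry _ _) (Iso.refl _))
  have hsurj : Function.Surjective π.left := by
    intro x
    have hWr : (W : Set X.left) ⊆ Set.range π.left := fun z hz => by
      haveI := hiso
      obtain ⟨y, hy⟩ := (π.left ∣_ W).homeomorph.surjective ⟨z, hz⟩
      exact ⟨y.1, by rw [← morphismRestrict_base_coe]; exact congrArg Subtype.val hy⟩
    have : x ∈ closure (W : Set X.left) := by
      obtain ⟨z, hzx, hz⟩ := Flat.generalizingMap X.hom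
        (show (⟨⊥, Ideal.isPrime_bot⟩ : PrimeSpectrum R) ⤳ X.hom x from
          (PrimeSpectrum.le_iff_specializes _ _).1 bot_le)
      refine hzx.mem_closed isClosed_closure (subset_closure ?_)
      show X.hom z ∈ PrimeSpectrum.basicOpen ϖ
      rw [hz]
      exact fun h => hϖ.ne_zero (by simpa using h)
    exact closure_minimal hWr π.left.isClosedMap.isClosed_range this
  refine FlatMisc.isIso_app_of_bijective_affine π.left (fun x => ?_) V₀
  obtain ⟨V, hV, hxV, -⟩ := exists_isAffineOpen_mem_and_subset (x := x) (U := ⊤) trivial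
  refine ⟨V, hV, hxV, ?_⟩
  let A := Γ(X.left, V)
  let B := Γ(Y.left, π.left ⁻¹ᵁ V)
  have happ : ∀ r, π.left.app V (sc X.hom V r) = sc Y.hom (π.left ⁻¹ᵁ V) r := fun r => by
    rw [sc_app, Over.w π]
  -- bijective after inverting `ϖ`
  let D := X.left.basicOpen (sc X.hom V ϖ)
  have hD : D ≤ W := (basicOpen_sc X.hom V ϖ).trans_le inf_le_right
  haveI hDiso : IsIso (π.left.app D) := by
    have := hiso
    have e : W.ι ''ᵁ (W.ι ⁻¹ᵁ D) = D := by
      rw [Scheme.Hom.image_preimage_eq_opensRange_inf, Scheme.Opens.opensRange_ι, inf_eq_right.2 hD]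
    have h2 : IsIso ((π.left ∣_ W).app (W.ι ⁻¹ᵁ D)) := inferInstance
    rw [morphismRestrict_app] at h2
    have h3 : IsIso (π.left.app (W.ι ''ᵁ (W.ι ⁻¹ᵁ D))) := (isIso_comp_right_iff _
      (Y.left.presheaf.map (eqToHom (image_morphismRestrict_preimage π.left W (W.ι ⁻¹ᵁ D))).op)).1 h2
    exact e ▸ h3
  haveI := hV.isLocalization_basicOpen (sc X.hom V ϖ)
  haveI := isLocalization_basicOpen_of_qcqs (π.left.isCompact_preimage hV.isCompact)
    (π.left.isQuasiSeparated_preimage hV.isQuasiSeparated) (sc Y.hom (π.left ⁻¹ᵁ V) ϖ)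
  have hinj : Function.Injective (π.left.app V) := fun a a' h => by
    rw [← sub_eq_zero]
    set c := a - a'
    have hc : π.left.app V c = 0 := by rw [map_sub, h, sub_self]
    have h1 : X.left.presheaf.map (homOfLE (X.left.basicOpen_le (sc X.hom V ϖ))).op c = 0 := by
      refine ((ConcreteCategory.isIso_iff_bijective (π.left.app D)).1 hDiso).1 ?_
      rw [map_zero, ← ConcreteCategory.comp_apply, π.left.naturality, ConcreteCategory.comp_apply, hc, map_zero]
    obtain ⟨⟨_, n, rfl⟩, hn⟩ :=
      (IsLocalization.map_eq_zero_iff (Submonoid.powers (sc X.hom V ϖ)) Γ(X.left, D) c).1 h1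
    replace hn : sc X.hom V ϖ ^ n * c = 0 := hn
    rw [← map_pow] at hn
    exact eq_zero_of_sc_mul X.hom V (pow_ne_zero n hϖ.ne_zero) c hn
  refine ⟨hinj, fun b => ?_⟩
  have hpow : ∃ (n : ℕ) (a : A), π.left.app V a = sc Y.hom (π.left ⁻¹ᵁ V) (ϖ ^ n) * b := by
    have eD : π.left ⁻¹ᵁ D = Y.left.basicOpen (sc Y.hom (π.left ⁻¹ᵁ V) ϖ) := by
      rw [Scheme.preimage_basicOpen, happ]
    let E := Y.left.presheaf.map (eqToHom eD).op
    obtain ⟨z, hz⟩ := ((ConcreteCategory.isIso_iff_bijective (π.left.app D)).1 hDiso).2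
      (E (Y.left.presheaf.map (homOfLE (Y.left.basicOpen_le _)).op b))
    obtain ⟨⟨a, ⟨_, n, rfl⟩⟩, ha⟩ := IsLocalization.surj (Submonoid.powers (sc X.hom V ϖ)) z
    refine ⟨n, a, sub_eq_zero.1 ?_⟩
    set d := π.left.app V a - sc Y.hom (π.left ⁻¹ᵁ V) (ϖ ^ n) * b
    have hd : Y.left.presheaf.map (homOfLE (π.left.preimage_mono (X.left.basicOpen_le (sc X.hom V ϖ)))).op d = 0 := by
      rw [map_sub, map_mul, sub_eq_zero]
      have := congrArg (π.left.app D) ha
      rw [map_mul, hz] at this
      have hnat : ∀ w : A, π.left.app D (algebraMap A Γ(X.left, D) w) =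
          Y.left.presheaf.map (homOfLE (π.left.preimage_mono (X.left.basicOpen_le (sc X.hom V ϖ)))).op (π.left.app V w) :=
        fun w => congr($(π.left.naturality (homOfLE (X.left.basicOpen_le (sc X.hom V ϖ))).op) w)
      rw [hnat, hnat, map_pow, map_pow, happ] at this
      rw [← this, map_pow, map_pow, mul_comm]
      congr 1
      show (Y.left.presheaf.map _ ≫ Y.left.presheaf.map _) b = _
      rw [← Functor.map_comp]
      rfl
    have hd' : algebraMap B Γ(Y.left, Y.left.basicOpen (sc Y.hom (π.left ⁻¹ᵁ V) ϖ)) d = 0 := by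
      have := congrArg (Y.left.presheaf.map (eqToHom eD.symm).op) hd
      rw [map_zero, ← ConcreteCategory.comp_apply, ← Functor.map_comp] at this
      exact this
    obtain ⟨⟨_, m, rfl⟩, hm'⟩ :=
      (IsLocalization.map_eq_zero_iff (Submonoid.powers (sc Y.hom (π.left ⁻¹ᵁ V) ϖ)) _ d).1 hd'
    replace hm' : sc Y.hom (π.left ⁻¹ᵁ V) ϖ ^ m * d = 0 := hm'
    rw [← map_pow] at hm'
    exact eq_zero_of_sc_mul Y.hom _ (pow_ne_zero m hϖ.ne_zero) d hm'
  obtain ⟨n, a, ha⟩ := hpow
  induction n generalizing a with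
  | zero => exact ⟨a, by rw [ha, pow_zero, map_one, one_mul]⟩
  | succ n ih =>
    obtain ⟨a', rfl⟩ : ∃ a', a = sc X.hom V ϖ * a' := by
      have hbo : X.left.basicOpen a ≤ W := by
        intro z hz
        obtain ⟨y, rfl⟩ := hsurj z
        have hy : y ∈ π.left ⁻¹ᵁ X.left.basicOpen a := hz
        rw [Scheme.preimage_basicOpen, ha, pow_succ', map_mul, mul_assoc, Scheme.basicOpen_mul, basicOpen_sc] at hy
        show X.hom (π.left y) ∈ PrimeSpectrum.basicOpen ϖ
        rw [← Scheme.Hom.comp_apply, Over.w π]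
        exact hy.1.2
      have hrad : a ∈ (Ideal.span {sc X.hom V ϖ}).radical := by
        have hle : X.left.basicOpen a ≤ X.left.basicOpen (sc X.hom V ϖ) := by
          rw [basicOpen_sc]; exact le_inf (X.left.basicOpen_le a) hbo
        have h2 := hV.fromSpec.preimage_mono hle
        rw [hV.fromSpec_preimage_basicOpen, hV.fromSpec_preimage_basicOpen] at h2
        exact (PrimeSpectrum.basicOpen_le_basicOpen_iff _ _).1 h2
      obtain ⟨k, hk⟩ := hrad
      letI : Algebra R A := (sc X.hom V).toAlgebra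
      let κ := (maximalIdeal R).ResidueField
      have hred : _root_.IsReduced (TensorProduct R A κ) := by
        let x₀ : Spec (CommRingCat.of R) := closedPoint R
        let ρ := Scheme.Spec.residueFieldIso (CommRingCat.of R) x₀
        let op : pullback (Spec.map (CommRingCat.ofHom (algebraMap R A)))
            (Spec.map (CommRingCat.ofHom (algebraMap R κ))) ⟶ X.hom.fiber x₀ :=
          pullback.map _ _ _ _ hV.fromSpec (Spec.map ρ.hom) (𝟙 _) (by
              rw [Category.comp_id]
              refine Eq.trans ?_ (IsAffineOpen.SpecMap_appLE_fromSpec X.hom (isAffineOpen_top _) hV (le_of_le_of_eq le_top X.hom.preimage_top.symm))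
              rw [IsAffineOpen.fromSpec_top, Scheme.isoSpec_Spec_inv, ← Spec.map_comp]
              rfl) (by
              rw [Category.comp_id, ← Scheme.Spec.map_residueFieldIso_inv_eq_fromSpecResidueField,
                ← Spec.map_comp]
              erw [← Spec.map_comp]
              erw [Category.assoc]
              erw [Iso.inv_hom_id, Category.comp_id]
              rfl)
        haveI : IsIso (Spec.map ρ.hom) := (Scheme.Spec.mapIso ρ.op).isIso_hom
        have hρ : IsOpenImmersion (Spec.map ρ.hom) := inferInstance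
        have hf : IsOpenImmersion hV.fromSpec := inferInstance
        haveI : IsOpenImmersion op := by
          refine @Scheme.pullback_map_isOpenImmersion _ _ _ _ _ _ _ _ _ _ _ _ _ _ _ hf hρ ?_
          infer_instance
        haveI := isReduced_of_isOpenImmersion op
        haveI := isReduced_of_isOpenImmersion (pullbackSpecIso R A κ).inv
        exact (affine_isReduced_iff (CommRingCat.of (TensorProduct R A κ))).1 inferInstance
      let e := AlgEquiv.ofBijective
        (Ideal.Quotient.liftₐ (maximalIdeal R) (Algebra.ofId R κ) fun r hr => Ideal.algebraMap_residueField_eq_zero.2 hr)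
        (maximalIdeal R).bijective_algebraMap_quotient_residueField
      let Φ := ((Algebra.TensorProduct.congr AlgEquiv.refl e.symm).trans
        ((Algebra.TensorProduct.quotIdealMapEquivTensorQuot A (maximalIdeal R)).restrictScalars R).symm)
      have hIeq : (maximalIdeal R).map (algebraMap R A) = Ideal.span {sc X.hom V ϖ} := by
        rw [hm, Ideal.map_span, Set.image_singleton]; rfl
      have : _root_.IsReduced (A ⧸ (maximalIdeal R).map (algebraMap R A)) :=
        isReduced_of_injective Φ.symm.toRingEquiv.toRingHom Φ.symm.injective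
      rw [← hIeq, ← Ideal.Quotient.eq_zero_iff_mem, map_pow] at hk
      have h0 := (IsNilpotent.eq_zero ⟨k, hk⟩ : Ideal.Quotient.mk ((maximalIdeal R).map (algebraMap R A)) a = 0)
      rw [Ideal.Quotient.eq_zero_iff_mem, hIeq, Ideal.mem_span_singleton'] at h0
      obtain ⟨a', ha'⟩ := h0
      exact ⟨a', by rw [← ha', mul_comm]⟩
    refine ih a' (sub_eq_zero.1 (eq_zero_of_sc_mul Y.hom _ hϖ.ne_zero _ ?_))
    rw [mul_sub, ← happ, ← map_mul, ha, pow_succ', map_mul, happ, mul_assoc, sub_self]

end Groth.Agent.NeronA
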