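import Groth.Agent.NeronA.AddTorsion
import Mathlib

/-!
# A minimal cubic with a point of order greater than four prime to the residue characteristic is semistable
-/

set_option autoImplicit false
set_option linter.style.haveILetI false

universe u

open IsLocalRing WeierstrassCurve

namespace Groth.Agent.NeronA.SemistableTorsion

section Cusp

variable {k : Type u} [Field k] [IsAlgClosed k]

theorem exists_cusp_change (W : WeierstrassCurve k) (hΔ : W.Δ = 0) (hc : W.c₄ = 0) :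
    ∃ r s t : k, W.a₁ + 2 * s = 0 ∧ W.a₂ - s * W.a₁ + 3 * r - s ^ 2 = 0 ∧ W.a₃ + r * W.a₁ + 2 * t = 0 ∧
      W.a₄ - s * W.a₃ + 2 * r * W.a₂ - (t + r * s) * W.a₁ + 3 * r ^ 2 - 2 * s * t = 0 ∧
      W.a₆ + r * W.a₄ + r ^ 2 * W.a₂ + r ^ 3 - t * W.a₃ - t ^ 2 - r * t * W.a₁ = 0 := by
  simp only [WeierstrassCurve.Δ, WeierstrassCurve.c₄, WeierstrassCurve.b₂, WeierstrassCurve.b₄,
    WeierstrassCurve.b₆, WeierstrassCurve.b₈] at hΔ hc
  by_cases h2 : (2 : k) = 0
  · have ha1 : W.a₁ = 0 := by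
      have : W.a₁ ^ 4 = 0 := by
        linear_combination hc + (-4 * W.a₁ ^ 2 * W.a₂ - 8 * W.a₂ ^ 2 + 24 * W.a₄ + 12 * W.a₁ * W.a₃) * h2
      exact eq_zero_of_pow_eq_zero this
    rw [ha1] at hΔ
    have ha3 : W.a₃ = 0 := by
      have : W.a₃ ^ 4 = 0 := by
        linear_combination hΔ + (8 * W.a₂ ^ 2 * (4 * W.a₂ * W.a₆ + W.a₂ * W.a₃ ^ 2 - W.a₄ ^ 2) + 32 * W.a₄ ^ 3
          + 14 * W.a₃ ^ 4 + 27 * 4 * W.a₃ ^ 2 * W.a₆ + 27 * 8 * W.a₆ ^ 2
          - 9 * 4 * W.a₂ * W.a₄ * (W.a₃ ^ 2 + 4 * W.a₆)) * h2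
      exact eq_zero_of_pow_eq_zero this
    obtain ⟨r, hr⟩ := IsAlgClosed.exists_pow_nat_eq (-W.a₄) (n := 2) two_pos
    obtain ⟨s, hs⟩ := IsAlgClosed.exists_pow_nat_eq (W.a₂ + 3 * r) (n := 2) two_pos
    obtain ⟨t, ht⟩ := IsAlgClosed.exists_pow_nat_eq (W.a₆ + r * W.a₄ + r ^ 2 * W.a₂ + r ^ 3) (n := 2) two_pos
    refine ⟨r, s, t, ?_, ?_, ?_, ?_, ?_⟩ <;> rw [ha1] <;> (try rw [ha3])
    · linear_combination s * h2
    · linear_combination -hs
    · linear_combination t * h2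
    · linear_combination hr + (r * W.a₂ + r ^ 2 - s * t) * h2
    · linear_combination -ht
  · obtain ⟨s, hs⟩ : ∃ s, W.a₁ + 2 * s = 0 := ⟨-W.a₁ / 2, by field_simp; ring⟩
    obtain ⟨t₀, ht₀⟩ : ∃ t, W.a₃ + 2 * t = 0 := ⟨-W.a₃ / 2, by field_simp; ring⟩
    have e1 : W.a₁ = -(2 * s) := by linear_combination hs
    have e3 : W.a₃ = -(2 * t₀) := by linear_combination ht₀
    set A₂ := W.a₂ + s ^ 2 with hA2
    set A₄ := W.a₄ + 2 * s * t₀ with hA4
    set A₆ := W.a₆ + t₀ ^ 2 with hA6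
    have hc' : A₂ ^ 2 = 3 * A₄ := by
      have : (2 : k) ^ 4 * (A₂ ^ 2 - 3 * A₄) = 0 := by
        rw [hA2, hA4]; rw [e1, e3] at hc; linear_combination hc
      exact sub_eq_zero.1 ((mul_eq_zero.1 this).resolve_left (pow_ne_zero _ h2))
    have hΔ' : -4 * A₂ ^ 3 * A₆ + A₂ ^ 2 * A₄ ^ 2 - 4 * A₄ ^ 3 - 27 * A₆ ^ 2 + 18 * A₂ * A₄ * A₆ = 0 := by
      have : (2 : k) ^ 4 * (-4 * A₂ ^ 3 * A₆ + A₂ ^ 2 * A₄ ^ 2 - 4 * A₄ ^ 3 - 27 * A₆ ^ 2 + 18 * A₂ * A₄ * A₆) = 0 := by
        rw [hA2, hA4, hA6]; rw [e1, e3] at hΔ; linear_combination hΔ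
      exact (mul_eq_zero.1 this).resolve_left (pow_ne_zero _ h2)
    obtain ⟨r, hr2, hr4, hr6⟩ : ∃ r, A₂ + 3 * r = 0 ∧ A₄ + 2 * r * A₂ + 3 * r ^ 2 = 0 ∧
        A₆ + r * A₄ + r ^ 2 * A₂ + r ^ 3 = 0 := by
      by_cases h3 : (3 : k) = 0
      · have hA2' : A₂ = 0 := eq_zero_of_pow_eq_zero (n := 2) (by rw [hc', h3, zero_mul])
        have hA4' : A₄ = 0 := by
          rw [hA2'] at hΔ'
          have : A₄ ^ 3 = 0 := by linear_combination -hΔ' + (-A₄ ^ 3 - 9 * A₆ ^ 2) * h3
          exact eq_zero_of_pow_eq_zero this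
        obtain ⟨r, hr⟩ := IsAlgClosed.exists_pow_nat_eq (-A₆) (n := 3) (by norm_num)
        exact ⟨r, by linear_combination hA2' + r * h3, by linear_combination hA4' + 2 * r * hA2' + r ^ 2 * h3,
          by linear_combination hr + r * hA4' + r ^ 2 * hA2'⟩
      · obtain ⟨r, hr⟩ : ∃ r, A₂ + 3 * r = 0 := ⟨-A₂ / 3, by field_simp; ring⟩
        have e2 : A₂ = -(3 * r) := by linear_combination hr
        have hr4 : A₄ + 2 * r * A₂ + 3 * r ^ 2 = 0 := by
          have : (3 : k) * (A₄ + 2 * r * A₂ + 3 * r ^ 2) = 0 := by rw [e2] at hc' ⊢; linear_combination -hc'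
          exact (mul_eq_zero.1 this).resolve_left h3
        have e4 : A₄ = 3 * r ^ 2 := by rw [e2] at hr4; linear_combination hr4
        refine ⟨r, hr, hr4, ?_⟩
        rw [e2, e4] at hΔ'
        rw [e2, e4]
        have : (3 : k) ^ 3 * (A₆ + r ^ 3) ^ 2 = 0 := by linear_combination -hΔ'
        have := eq_zero_of_pow_eq_zero ((mul_eq_zero.1 this).resolve_left (pow_ne_zero _ h3))
        linear_combination this
    refine ⟨r, s, t₀ + r * s, hs, ?_, ?_, ?_, ?_⟩ <;> rw [e1] <;> (try rw [e3])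
    · linear_combination hr2
    · ring
    · linear_combination hr4
    · linear_combination hr6

end Cusp

section Shift

variable {K : Type u} [Field K] [DecidableEq K] (W : WeierstrassCurve K)

theorem equation_shift (r s t : K) {x y : K} (h : W.toAffine.Equation x y) :
    ((⟨1, r, s, t⟩ : VariableChange K) • W).toAffine.Equation (x - r) (y - s * (x - r) - t) := by
  rw [Affine.equation_iff] at h ⊢
  simp only [variableChange_a₁, variableChange_a₂, variableChange_a₃, variableChange_a₄, variableChange_a₆,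
    inv_one, Units.val_one]
  linear_combination h

variable [W.IsElliptic]

/-- The map on points of a translation. -/
noncomputable def shiftFun (r s t : K) :
    W.toAffine.Point → ((⟨1, r, s, t⟩ : VariableChange K) • W).toAffine.Point
  | .zero => 0
  | .some x y h => .some (x - r) (y - s * (x - r) - t) (Affine.equation_iff_nonsingular.1 (equation_shift W r s t h.1))

theorem shiftFun_add (r s t : K) (P Q : W.toAffine.Point) :
    shiftFun W r s t (P + Q) = shiftFun W r s t P + shiftFun W r s t Q := by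
  rcases P with _ | ⟨x₁, y₁, h₁⟩
  · simp [← Affine.Point.zero_def, shiftFun]
  rcases Q with _ | ⟨x₂, y₂, h₂⟩
  · simp [← Affine.Point.zero_def, shiftFun]
  have hneg : ∀ x y, ((⟨1, r, s, t⟩ : VariableChange K) • W).toAffine.negY (x - r) (y - s * (x - r) - t) =
      W.toAffine.negY x y - s * (x - r) - t := by
    intro x y
    simp only [Affine.negY, variableChange_a₁, variableChange_a₃, inv_one, Units.val_one]
    ring
  have hiff : (x₁ - r = x₂ - r ∧ y₁ - s * (x₁ - r) - t =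
      ((⟨1, r, s, t⟩ : VariableChange K) • W).toAffine.negY (x₂ - r) (y₂ - s * (x₂ - r) - t)) ↔
      (x₁ = x₂ ∧ y₁ = W.toAffine.negY x₂ y₂) := by
    rw [hneg, sub_left_inj]
    constructor
    · rintro ⟨rfl, h⟩
      exact ⟨rfl, by linear_combination h⟩
    · rintro ⟨rfl, rfl⟩
      exact ⟨rfl, rfl⟩
  by_cases hxy : x₁ = x₂ ∧ y₁ = W.toAffine.negY x₂ y₂
  · rw [Affine.Point.add_of_Y_eq hxy.1 hxy.2]
    simp only [shiftFun, Affine.Point.zero_def]
    exact (Affine.Point.add_of_Y_eq (hiff.2 hxy).1 (hiff.2 hxy).2).symm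
  rw [Affine.Point.add_some hxy]
  simp only [shiftFun]
  rw [Affine.Point.add_some (fun h => hxy (hiff.1 h))]
  have hslope : ((⟨1, r, s, t⟩ : VariableChange K) • W).toAffine.slope (x₁ - r) (x₂ - r)
      (y₁ - s * (x₁ - r) - t) (y₂ - s * (x₂ - r) - t) = W.toAffine.slope x₁ x₂ y₁ y₂ - s := by
    by_cases hx : x₁ = x₂
    · have hy : y₁ ≠ W.toAffine.negY x₂ y₂ := fun h => hxy ⟨hx, h⟩
      have hy' : y₁ - s * (x₁ - r) - t ≠ ((⟨1, r, s, t⟩ : VariableChange K) • W).toAffine.negY (x₂ - r) (y₂ - s * (x₂ - r) - t) :=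
        fun h => hxy (hiff.1 ⟨by rw [hx], h⟩)
      have hy1 : y₁ = y₂ := Affine.Y_eq_of_Y_ne h₁.1 h₂.1 hx hy
      subst hx hy1
      rw [Affine.slope_of_Y_ne rfl hy, Affine.slope_of_Y_ne rfl hy', hneg]
      have hne : y₁ - W.toAffine.negY x₁ y₁ ≠ 0 := sub_ne_zero.2 hy
      rw [show y₁ - s * (x₁ - r) - t - (W.toAffine.negY x₁ y₁ - s * (x₁ - r) - t) = y₁ - W.toAffine.negY x₁ y₁ by ring,
        div_sub' hne]
      congr 1
      simp only [Affine.negY, variableChange_a₁, variableChange_a₂, variableChange_a₄, inv_one, Units.val_one]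
      ring
    · rw [Affine.slope_of_X_ne hx, Affine.slope_of_X_ne (fun h => hx (sub_left_inj.1 h))]
      have hne : x₁ - x₂ ≠ 0 := sub_ne_zero.2 hx
      rw [show x₁ - r - (x₂ - r) = x₁ - x₂ by ring, div_sub' hne]
      congr 1
      ring
  simp only [Affine.Point.some.injEq]
  rw [hslope]
  refine ⟨?_, ?_⟩
  · simp only [Affine.addX, variableChange_a₁, variableChange_a₂, inv_one, Units.val_one]
    ring
  · simp only [Affine.addY, Affine.negY, Affine.negAddY, Affine.addX, variableChange_a₁, variableChange_a₂,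
      variableChange_a₃, inv_one, Units.val_one]
    ring

/-- Translation is an injective homomorphism on points. -/
noncomputable def shift (r s t : K) : W.toAffine.Point →+ ((⟨1, r, s, t⟩ : VariableChange K) • W).toAffine.Point :=
  AddMonoidHom.mk' (shiftFun W r s t) (shiftFun_add W r s t)

theorem shift_injective (r s t : K) : Function.Injective (shift W r s t) := by
  rw [injective_iff_map_eq_zero]
  rintro (_ | ⟨x, y, h⟩) hP
  · rfl
  · exact absurd hP (Affine.Point.some_ne_zero _)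

end Shift

section Main

variable {R : Type u} [CommRing R] [IsDomain R] [IsDiscreteValuationRing R]
  {K : Type u} [Field K] [DecidableEq K] [Algebra R K] [IsFractionRing R K]

/-- Translate a cubic over `R`, keeping track of a point of given order. -/
theorem exists_shift (E : WeierstrassCurve R) [(E.map (algebraMap R K)).IsElliptic] (r s t : R)
    (P : (E.map (algebraMap R K)).toAffine.Point) :
    ∃ P' : (((⟨1, r, s, t⟩ : VariableChange R) • E).map (algebraMap R K)).toAffine.Point,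
      addOrderOf P' = addOrderOf P ∧ ∀ (x y : K) h, P = .some x y h →
        ∃ h', P' = .some (x - algebraMap R K r) (y - algebraMap R K s * (x - algebraMap R K r) - algebraMap R K t) h' := by
  have e : ((⟨1, r, s, t⟩ : VariableChange R) • E).map (algebraMap R K) =
      (⟨1, algebraMap R K r, algebraMap R K s, algebraMap R K t⟩ : VariableChange K) • E.map (algebraMap R K) := by
    rw [← map_variableChange]
    congr 1
    ext <;> simp [VariableChange.map]
  rw [e]
  exact ⟨_, addOrderOf_injective _ (shift_injective _ _ _ _) P,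
    fun x y h hP => ⟨_, by rw [hP]; rfl⟩⟩

theorem not_isMinimal_of_coeffs (W : WeierstrassCurve K) [W.IsElliptic] [IsMinimal R W]
    (C : VariableChange K) (E : WeierstrassCurve R) (hu : C.u = 1) (hE : E.map (algebraMap R K) = C • W)
    {ϖ : R} (hϖ : Irreducible ϖ)
    (h1 : ϖ ∣ E.a₁) (h2 : ϖ ^ 2 ∣ E.a₂) (h3 : ϖ ^ 3 ∣ E.a₃) (h4 : ϖ ^ 4 ∣ E.a₄) (h6 : ϖ ^ 6 ∣ E.a₆) : False := by
  obtain ⟨c1, hc1⟩ := h1
  obtain ⟨c2, hc2⟩ := h2
  obtain ⟨c3, hc3⟩ := h3
  obtain ⟨c4, hc4⟩ := h4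
  obtain ⟨c6, hc6⟩ := h6
  set φ := algebraMap R K
  have hϖ0 : φ ϖ ≠ 0 := fun h => hϖ.ne_zero (IsFractionRing.injective R K (h.trans (map_zero φ).symm))
  let D : VariableChange K := ⟨Units.mk0 (φ ϖ) hϖ0, 0, 0, 0⟩
  set E' : WeierstrassCurve R := ⟨c1, c2, c3, c4, c6⟩
  have hD : (D * C) • W = E'.map φ := by
    rw [mul_smul, ← hE]
    ext <;> simp [D, E', variableChange_a₁, variableChange_a₂, variableChange_a₃, variableChange_a₄,
      variableChange_a₆, hc1, hc2, hc3, hc4, hc6, inv_pow, hϖ0]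
  haveI : IsIntegral R ((D * C) • W) := ⟨E', hD⟩
  let v := IsDedekindDomain.HeightOneSpectrum.valuation K (IsDiscreteValuationRing.maximalIdeal R)
  have hΔ : v W.Δ < v ((D * C) • W).Δ := by
    have e1 : ((D * C) • W).Δ = (φ ϖ)⁻¹ ^ 12 * W.Δ := by
      rw [variableChange_Δ]
      simp [D, hu, VariableChange.mul_def]
    have hv : v (φ ϖ) < 1 := by
      rw [IsDedekindDomain.HeightOneSpectrum.valuation_lt_one_iff_mem]
      exact hϖ.not_isUnit
    have hv0 : v (φ ϖ) ≠ 0 := (Valuation.ne_zero_iff _).2 hϖ0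
    have hW0 : v W.Δ ≠ 0 := (Valuation.ne_zero_iff _).2 W.isUnit_Δ.ne_zero
    rw [e1, map_mul, map_pow, map_inv₀]
    exact lt_mul_of_one_lt_left (zero_lt_iff.2 hW0) (one_lt_pow₀ ((one_lt_inv₀ (zero_lt_iff.2 hv0)).2 hv) (by norm_num))
  have h0 := IsMinimal.val_Δ_maximal (R := R) (W := W)
  have hle : valuation_Δ_aux R ((1 : VariableChange K) • W) ≤ valuation_Δ_aux R ((D * C) • W) := by
    rw [← Subtype.coe_le_coe, one_smul, valuation_Δ_aux_eq_of_isIntegral, valuation_Δ_aux_eq_of_isIntegral]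
    exact hΔ.le
  have hge := h0.2 (show IsIntegral R ((D * C) • W) from inferInstance) hle
  rw [← Subtype.coe_le_coe] at hge
  simp only [one_smul] at hge
  rw [valuation_Δ_aux_eq_of_isIntegral, valuation_Δ_aux_eq_of_isIntegral] at hge
  exact absurd hΔ (not_lt.2 hge)

open Groth.Agent.NeronA.AddTorsion in
theorem semistable [IsAlgClosed (ResidueField R)] (W : WeierstrassCurve K) [W.IsElliptic]
    [IsMinimal R W] (n : ℕ) (hn : 4 < n) (hk : (n : ResidueField R) ≠ 0)
    (P : W.toAffine.Point) (hP : addOrderOf P = n) :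
    W.HasGoodReduction R ∨ W.HasMultiplicativeReduction R := by
  rcases hasGoodReduction_or_hasMultiplicativeReduction_or_hasAdditiveReduction R (W := W) with h | h | h
  · exact Or.inl h
  · exact Or.inr h
  exfalso
  have hinj : Function.Injective (algebraMap R K) := IsFractionRing.injective R K
  set E₀ := integralModel R W
  have hW : E₀.map (algebraMap R K) = W := baseChange_integralModel_eq R W
  haveI : (E₀.map (algebraMap R K)).IsElliptic := by rw [hW]; infer_instance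
  have hn' : IsUnit (n : R) := by
    by_contra hu
    exact hk (by rw [← map_natCast (residue R), residue_eq_zero_iff]; exact hu)
  -- cusp
  have hΔm : residue R E₀.Δ = 0 := by
    rw [residue_eq_zero_iff]
    have hb := h.badReduction
    rw [← integralModel_Δ_eq R W] at hb
    exact (IsDedekindDomain.HeightOneSpectrum.valuation_lt_one_iff_mem _ _).1 hb
  have hcm : residue R E₀.c₄ = 0 := by
    rw [residue_eq_zero_iff]
    have hb := h.additiveReduction
    rw [← integralModel_c₄_eq R W] at hb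
    exact (IsDedekindDomain.HeightOneSpectrum.valuation_lt_one_iff_mem _ _).1 hb
  obtain ⟨rb, sb, tb, g1, g2, g3, g4, g6⟩ := exists_cusp_change (E₀.map (residue R))
    (by rw [map_Δ]; exact hΔm) (by rw [map_c₄]; exact hcm)
  obtain ⟨r, rfl⟩ := residue_surjective rb
  obtain ⟨s, rfl⟩ := residue_surjective sb
  obtain ⟨t, rfl⟩ := residue_surjective tb
  set C₁ : VariableChange R := ⟨1, r, s, t⟩
  have hE₁ : Cusp (C₁ • E₀) := by
    simp only [map_a₁, map_a₂, map_a₃, map_a₄, map_a₆] at g1 g2 g3 g4 g6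
    constructor <;> rw [← residue_eq_zero_iff] <;>
      simp only [C₁, variableChange_a₁, variableChange_a₂, variableChange_a₃, variableChange_a₄,
        variableChange_a₆, inv_one, Units.val_one, one_pow, one_mul, map_add, map_sub, map_mul, map_pow, map_ofNat] <;>
      assumption
  obtain ⟨P₀, hP₀⟩ : ∃ P₀ : (E₀.map (algebraMap R K)).toAffine.Point, addOrderOf P₀ = n := by
    rw [hW]; exact ⟨P, hP⟩
  obtain ⟨Q, hQ, -⟩ := exists_shift E₀ r s t P₀
  rw [hP₀] at hQ
  have hne : ∀ {V : Affine K} (Z : V.Point), Z ≠ 0 → ∃ x y h, Z = .some x y h := by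
    rintro V (_ | ⟨x, y, h⟩) hZ
    · exact absurd rfl hZ
    · exact ⟨x, y, h, rfl⟩
  have hQn : n • Q = 0 := hQ ▸ addOrderOf_nsmul_eq_zero Q
  obtain ⟨x₁, y₁, hns, hQe⟩ := hne Q (fun h0 => by rw [h0, addOrderOf_zero] at hQ; omega)
  obtain ⟨a, ha, b, hb, rfl, rfl⟩ := multiples_mem hE₁ hn' hQn (j := 1) (by rw [one_smul]; exact hQe)
  -- move the point to the origin
  haveI : (C₁ • E₀).map (algebraMap R K) |>.IsElliptic := by rw [← map_variableChange]; infer_instance
  let E₂ := (⟨1, a, 0, b⟩ : VariableChange R) • (C₁ • E₀)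
  have hE₂d : E₂ = (⟨1, a, 0, b⟩ : VariableChange R) • (C₁ • E₀) := rfl
  obtain ⟨Q', hQ', hQ'e⟩ : ∃ Q' : (E₂.map (algebraMap R K)).toAffine.Point, addOrderOf Q' = addOrderOf Q ∧ ∀ (x y : K) h,
      Q = .some x y h → ∃ h', Q' = .some (x - (algebraMap R K) a) (y - (algebraMap R K) 0 * (x - (algebraMap R K) a) - (algebraMap R K) b) h' := exists_shift (C₁ • E₀) a 0 b Q
  obtain ⟨hns', hQ'eq⟩ := hQ'e _ _ _ hQe
  rw [hQ] at hQ'
  have hE₂ : Cusp E₂ := by
    obtain ⟨i1, i2, i3, i4, i6⟩ := hE₁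
    constructor <;>
      simp only [E₂, variableChange_a₁, variableChange_a₂, variableChange_a₃, variableChange_a₄,
        variableChange_a₆, inv_one, Units.val_one, one_pow, one_mul, mul_zero, zero_mul, add_zero, sub_zero,
        zero_pow (two_ne_zero)]
    · exact i1
    · exact add_mem i2 (Ideal.mul_mem_left _ _ ha)
    · exact add_mem (add_mem i3 (Ideal.mul_mem_right _ _ ha)) (Ideal.mul_mem_left _ _ hb)
    · refine add_mem (sub_mem (add_mem i4 (Ideal.mul_mem_left _ _ i2)) (Ideal.mul_mem_left _ _ i1)) ?_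
      rw [pow_two, ← mul_assoc]; exact Ideal.mul_mem_left _ _ ha
    · refine sub_mem (sub_mem (sub_mem (add_mem (add_mem (add_mem i6 (Ideal.mul_mem_left _ _ i4))
        (Ideal.mul_mem_left _ _ i2)) (Ideal.pow_mem_of_mem _ ha 3 (by norm_num))) (Ideal.mul_mem_left _ _ i3))
        (Ideal.pow_mem_of_mem _ hb 2 (by norm_num))) (Ideal.mul_mem_left _ _ i1)
  have hns0 : (E₂.map (algebraMap R K)).toAffine.Nonsingular 0 0 := by
    convert hns' using 1 <;> simp
  replace hQ'eq : Q' = .some 0 0 hns0 := by rw [hQ'eq]; simp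
  haveI : (E₂.map (algebraMap R K)).IsElliptic := by rw [hE₂d, ← map_variableChange]; infer_instance
  have hQ'n : n • Q' = 0 := hQ' ▸ addOrderOf_nsmul_eq_zero Q'
  have hnsmul : ∀ j, 0 < j → j < n → j • Q' ≠ 0 := fun j h0 hj h1 =>
    absurd (addOrderOf_le_of_nsmul_eq_zero h0 h1) (by omega)
  have ha6 : E₂.a₆ = 0 := by
    have h := hns0.1
    rw [Affine.equation_zero] at h
    exact hinj (by simpa using h)
  -- tangent at the origin
  have htang : (0 : K) ≠ (E₂.map (algebraMap R K)).toAffine.negY 0 0 := fun h =>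
    hnsmul 2 two_pos (by omega) (by rw [two_nsmul, hQ'eq]; exact Affine.Point.add_of_Y_eq rfl h)
  have h2eq := Affine.Point.add_self_of_Y_ne (h₁ := hns0) htang
  rw [← hQ'eq, ← two_nsmul] at h2eq
  set ℓ := (E₂.map (algebraMap R K)).toAffine.slope 0 0 0 0
  obtain ⟨x2, hx2m, -, -, hx2, -⟩ := multiples_mem hE₂ hn' hQ'n h2eq
  have hℓ : ℓ ^ 2 + (algebraMap R K) E₂.a₁ * ℓ + (algebraMap R K) (-E₂.a₂ - x2) = 0 := by
    rw [map_sub, hx2, map_neg]; simp [Affine.addX, ℓ]; ring
  obtain ⟨l, hl⟩ := exists_of_quadratic (R := R) hℓ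
  have hlm : l ∈ maximalIdeal R := by
    refine (maximalIdeal.isMaximal R).isPrime.mem_of_pow_mem 2 ?_
    have e : l ^ 2 = x2 + E₂.a₂ - E₂.a₁ * l := hinj (by
      simp only [map_sub, map_add, map_pow, map_mul, map_neg, hl] at *; linear_combination hℓ)
    rw [e]
    exact sub_mem (add_mem hx2m hE₂.h2) (Ideal.mul_mem_right _ _ hE₂.h1)
  let E₃ := (⟨1, 0, l, 0⟩ : VariableChange R) • E₂
  have hE₃d : E₃ = (⟨1, 0, l, 0⟩ : VariableChange R) • E₂ := rfl
  obtain ⟨S, hS, hSe⟩ : ∃ S : (E₃.map (algebraMap R K)).toAffine.Point, addOrderOf S = addOrderOf Q' ∧ ∀ (x y : K) h,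
      Q' = .some x y h → ∃ h', S = .some (x - (algebraMap R K) 0) (y - (algebraMap R K) l * (x - (algebraMap R K) 0) - (algebraMap R K) 0) h' := exists_shift E₂ 0 l 0 Q'
  obtain ⟨hnsS, hSeq⟩ := hSe _ _ _ hQ'eq
  rw [hQ'] at hS
  have hE₃ : Cusp E₃ := by
    obtain ⟨i1, i2, i3, i4, i6⟩ := hE₂
    constructor <;>
      simp only [E₃, variableChange_a₁, variableChange_a₂, variableChange_a₃, variableChange_a₄,
        variableChange_a₆, inv_one, Units.val_one, one_pow, one_mul, mul_zero, zero_mul, add_zero, sub_zero,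
        zero_pow (two_ne_zero), zero_pow (three_ne_zero)]
    · exact add_mem i1 (Ideal.mul_mem_left _ _ hlm)
    · exact sub_mem (sub_mem i2 (Ideal.mul_mem_left _ _ i1)) (Ideal.pow_mem_of_mem _ hlm 2 (by norm_num))
    · exact i3
    · exact sub_mem i4 (Ideal.mul_mem_left _ _ i3)
    · exact i6
  have hs0 : (E₃.map (algebraMap R K)).toAffine.Nonsingular 0 0 := by
    convert hnsS using 1 <;> simp
  replace hSeq : S = .some 0 0 hs0 := by rw [hSeq]; simp
  have hSn : n • S = 0 := hS ▸ addOrderOf_nsmul_eq_zero S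
  have hsm : ∀ j, 0 < j → j < n → j • S ≠ 0 := fun j h0 hj h1 =>
    absurd (addOrderOf_le_of_nsmul_eq_zero h0 h1) (by omega)
  have g3 : E₂.a₃ = E₃.a₃ := by simp [E₃, variableChange_a₃]
  have hA6 : E₃.a₆ = 0 := by simp [E₃, variableChange_a₆, ha6]
  have htangS : (0 : K) ≠ (E₃.map (algebraMap R K)).toAffine.negY 0 0 := fun h =>
    hsm 2 two_pos (by omega) (by rw [two_nsmul, hSeq]; exact Affine.Point.add_of_Y_eq rfl h)
  have hA3 : (algebraMap R K) E₃.a₃ ≠ 0 := fun h => htangS (by simp [Affine.negY, h])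
  have hA4 : E₃.a₄ = 0 := hinj (by
    have hsl : ℓ * (algebraMap R K) E₂.a₃ = (algebraMap R K) E₂.a₄ := by
      simp only [ℓ, Affine.slope_of_Y_ne rfl htang]
      simp only [Affine.negY, map_a₁, map_a₃, map_a₄, mul_zero, sub_zero, neg_zero, zero_sub, sub_neg_eq_add,
        zero_add, zero_pow two_ne_zero, add_zero]
      rw [div_mul_cancel₀]
      rw [g3]; exact hA3
    simp only [E₃, variableChange_a₄, inv_one, Units.val_one, one_pow, one_mul, map_sub, map_add, map_mul, map_zero]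
    simp [hl]
    linear_combination -hsl)
  -- twice the point
  have hadd2 := Affine.Point.add_self_of_Y_ne (h₁ := hs0) htangS
  have hsl0 : (E₃.map (algebraMap R K)).toAffine.slope 0 0 0 0 = 0 := by
    rw [Affine.slope_of_Y_ne rfl htangS]
    simp [hA4]
  have hX2 : (E₃.map (algebraMap R K)).toAffine.addX 0 0 ((E₃.map (algebraMap R K)).toAffine.slope 0 0 0 0) = -(algebraMap R K) E₃.a₂ := by
    simp [Affine.addX, hsl0]
  have hY2 : (E₃.map (algebraMap R K)).toAffine.addY 0 0 0 ((E₃.map (algebraMap R K)).toAffine.slope 0 0 0 0) =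
      (algebraMap R K) E₃.a₁ * (algebraMap R K) E₃.a₂ - (algebraMap R K) E₃.a₃ := by
    simp [Affine.addY, Affine.negAddY, Affine.negY, Affine.addX, hsl0]
  have hp2 : (E₃.map (algebraMap R K)).toAffine.Nonsingular (-(algebraMap R K) E₃.a₂) ((algebraMap R K) E₃.a₁ * (algebraMap R K) E₃.a₂ - (algebraMap R K) E₃.a₃) :=
    hX2 ▸ hY2 ▸ Affine.nonsingular_add hs0 hs0 fun hxy => htangS hxy.right
  have h2S : 2 • S = .some _ _ hp2 := by
    rw [two_nsmul, hSeq, hadd2]
    simp only [Affine.Point.some.injEq]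
    exact ⟨hX2, hY2⟩
  set A1 := (algebraMap R K) E₃.a₁ with hA1d
  set A2 := (algebraMap R K) E₃.a₂ with hA2d
  set A3 := (algebraMap R K) E₃.a₃ with hA3d
  have hA2 : A2 ≠ 0 := by
    intro h0
    refine hsm 3 (by omega) (by omega) ?_
    rw [succ_nsmul, h2S, hSeq]
    refine Affine.Point.add_of_Y_eq (neg_eq_zero.2 h0) ?_
    simp [Affine.negY, show (algebraMap R K) E₃.a₂ = 0 from h0]
  have hxne : -A2 ≠ 0 := neg_ne_zero.2 hA2
  have h3S := Affine.Point.add_of_X_ne (h₁ := hp2) (h₂ := hs0) hxne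
  rw [← h2S, ← hSeq, ← succ_nsmul] at h3S
  set L := (E₃.map (algebraMap R K)).toAffine.slope (-A2) 0 (A1 * A2 - A3) 0
  obtain ⟨x3, hx3m, -, -, hx3, -⟩ := multiples_mem hE₃ hn' hSn h3S
  have hLdef : L = (A3 - A1 * A2) / A2 := by
    simp only [L, Affine.slope_of_X_ne hxne, sub_zero]
    field_simp
    ring
  have hLA : L * A2 = A3 - A1 * A2 := by rw [hLdef, div_mul_cancel₀ _ hA2]
  have hLq : L ^ 2 + (algebraMap R K) E₃.a₁ * L + (algebraMap R K) (-x3) = 0 := by
    rw [map_neg, hx3]; simp [Affine.addX, A2]; ring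
  obtain ⟨l3, hl3⟩ := exists_of_quadratic (R := R) hLq
  have hl3m : l3 ∈ maximalIdeal R := by
    refine (maximalIdeal.isMaximal R).isPrime.mem_of_pow_mem 2 ?_
    have e : l3 ^ 2 = x3 - E₃.a₁ * l3 := hinj (by
      simp only [map_sub, map_pow, map_mul, map_neg, hl3] at *; linear_combination hLq)
    rw [e]
    exact sub_mem hx3m (Ideal.mul_mem_right _ _ hE₃.h1)
  have hA3R : E₃.a₃ = E₃.a₂ * (l3 + E₃.a₁) := hinj (by
    simp only [map_mul, map_add, hl3]; linear_combination -hLA)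
  -- four times the point
  have hy2ne : A1 * A2 - A3 ≠ (E₃.map (algebraMap R K)).toAffine.negY (-A2) (A1 * A2 - A3) := fun h =>
    hsm 4 (by omega) (by omega) (by
      rw [show 4 = 2 + 2 from rfl, add_nsmul, h2S]
      exact Affine.Point.add_of_Y_eq rfl h)
  have hneY : A1 * A2 - A3 - (E₃.map (algebraMap R K)).toAffine.negY (-A2) (A1 * A2 - A3) = -(L * A2) := by
    rw [hLA]; simp [Affine.negY, A1, A3]
  have hL0 : L ≠ 0 := fun h0 => hy2ne (sub_eq_zero.1 (by rw [hneY, h0, zero_mul, neg_zero]))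
  have h4S := Affine.Point.add_self_of_Y_ne (h₁ := hp2) hy2ne
  rw [← h2S, ← add_nsmul] at h4S
  set μ := (E₃.map (algebraMap R K)).toAffine.slope (-A2) (-A2) (A1 * A2 - A3) (A1 * A2 - A3)
  obtain ⟨x4, hx4m, -, -, hx4, -⟩ := multiples_mem hE₃ hn' hSn h4S
  set q := A2 / L with hq
  have hμ : μ = -q - A1 := by
    simp only [μ, Affine.slope_of_Y_ne rfl hy2ne, hneY, hq]
    simp only [map_a₁, map_a₂, map_a₄, hA4, map_zero, ← hA1d, ← hA2d]
    field_simp
    linear_combination A1 * hLA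
  have hqq : q ^ 2 + (algebraMap R K) E₃.a₁ * q + (algebraMap R K) (E₃.a₂ - x4) = 0 := by
    rw [map_sub, hx4, show (E₃.map (algebraMap R K)).toAffine.slope (-A2) (-A2) (A1 * A2 - A3) (A1 * A2 - A3) = -q - A1 from hμ]
    simp [Affine.addX, A1, A2]; ring
  obtain ⟨qr, hqr⟩ := exists_of_quadratic (R := R) hqq
  have hqm : qr ∈ maximalIdeal R := by
    refine (maximalIdeal.isMaximal R).isPrime.mem_of_pow_mem 2 ?_
    have e : qr ^ 2 = x4 - E₃.a₂ - E₃.a₁ * qr := hinj (by
      simp only [map_sub, map_pow, map_mul, hqr] at *; linear_combination hqq)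
    rw [e]
    exact sub_mem (sub_mem hx4m hE₃.h2) (Ideal.mul_mem_right _ _ hE₃.h1)
  have hA2R : E₃.a₂ = qr * l3 := hinj (by
    rw [map_mul, hqr, hl3, hq, div_mul_cancel₀ _ hL0])
  obtain ⟨ϖ, hϖ⟩ := IsDiscreteValuationRing.exists_irreducible R
  have hm : ∀ {z : R}, z ∈ maximalIdeal R → ϖ ∣ z := fun hz => by
    rwa [hϖ.maximalIdeal_eq, Ideal.mem_span_singleton] at hz
  refine not_isMinimal_of_coeffs W
    ((((⟨1, 0, l, 0⟩ : VariableChange R) * (⟨1, a, 0, b⟩ * C₁)).map (algebraMap R K))) E₃ ?_ ?_ hϖ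
    (hm hE₃.h1) ?_ ?_ (hA4 ▸ dvd_zero _) (hA6 ▸ dvd_zero _)
  · simp [VariableChange.map, VariableChange.mul_def, C₁]
  · conv_rhs => rw [← hW, map_variableChange, mul_smul, mul_smul]
  · rw [hA2R, pow_two]; exact mul_dvd_mul (hm hqm) (hm hl3m)
  · rw [hA3R, hA2R, pow_succ, pow_two]
    exact mul_dvd_mul (mul_dvd_mul (hm hqm) (hm hl3m)) (hm (add_mem hl3m hE₃.h1))

end Main

end Groth.Agent.NeronA.SemistableTorsion
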