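import Mathlib.AlgebraicGeometry.SpreadingOut
import Mathlib.AlgebraicGeometry.Morphisms.Smooth
import Mathlib.RingTheory.Smooth.NoetherianDescent
import Groth.Agent.GrpSchLib.FieldSmooth

/-!
# Affine smooth schemes over a local ring of a locally noetherian scheme descend to neighbourhoods
-/

set_option autoImplicit false

universe u

open CategoryTheory Limits AlgebraicGeometry TensorProduct

namespace Groth.Agent.NeronA.StalkModel

variable {S : Scheme.{u}} (s : S)

theorem flat_fromSpecStalkOfMem (V : S.Opens) (hs : s ∈ V) : Flat (V.fromSpecStalkOfMem s hs) := by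
  delta Scheme.Opens.fromSpecStalkOfMem
  haveI := GrpSchLib.flat_fromSpecStalk (X := V.toScheme) ⟨s, hs⟩
  infer_instance

theorem isPreimmersion_fromSpecStalkOfMem (V : S.Opens) (hs : s ∈ V) :
    IsPreimmersion (V.fromSpecStalkOfMem s hs) := by
  delta Scheme.Opens.fromSpecStalkOfMem
  infer_instance

/-- a subalgebra of finite type of a local ring receives a map from a neighbourhood -/
theorem exists_nhd_to_subalgebra [IsLocallyNoetherian S] (A₀ : Subalgebra ℤ (S.presheaf.stalk s))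
    (hA₀ : A₀.FG) :
    ∃ (V : S.Opens) (hs : s ∈ V) (f : V.toScheme ⟶ Spec (CommRingCat.of A₀)), IsAffineOpen V ∧
      V.fromSpecStalkOfMem s hs ≫ f = Spec.map (CommRingCat.ofHom A₀.val.toRingHom) := by
  haveI : Algebra.FiniteType ℤ A₀ := (Subalgebra.fg_iff_finiteType A₀).mp hA₀
  let c : CommRingCat.of (ULift.{u} ℤ) ⟶ CommRingCat.of A₀ :=
    CommRingCat.ofHom ((algebraMap ℤ A₀).comp ULift.ringEquiv.toRingHom)
  haveI : LocallyOfFiniteType (Spec.map c) := by
    rw [HasRingHomProperty.Spec_iff (P := @LocallyOfFiniteType)]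
    exact RingHom.FiniteType.comp (RingHom.finiteType_algebraMap.2 inferInstance)
      (RingHom.FiniteType.of_surjective _ ULift.ringEquiv.surjective)
  obtain ⟨V₀, hs₀, f, hf, -⟩ := spread_out_of_isGermInjective' (specULiftZIsTerminal.from S) (Spec.map c)
    (x := s) (Spec.map (CommRingCat.ofHom A₀.val.toRingHom)) (specULiftZIsTerminal.hom_ext _ _)
  obtain ⟨V, hV, hsV, hVV⟩ := exists_isAffineOpen_mem_and_subset (U := V₀) hs₀
  have hle : V ≤ V₀ := hVV
  refine ⟨V, hsV, S.homOfLE hle ≫ f, hV, ?_⟩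
  refine Eq.trans ?_ hf.symm
  rw [← Category.assoc]
  congr 1
  rw [← cancel_mono V₀.ι, Category.assoc, Scheme.homOfLE_ι, Scheme.Opens.fromSpecStalkOfMem_ι,
    Scheme.Opens.fromSpecStalkOfMem_ι]

/-- affine smooth schemes over a local ring have models over a neighbourhood -/
theorem exists_model [IsLocallyNoetherian S] {W : Scheme.{u}} [IsAffine W]
    (π : W ⟶ Spec (S.presheaf.stalk s)) [Smooth π] :
    ∃ (X : Scheme.{u}) (sX : X ⟶ S) (ι : W ⟶ X), IsNoetherian X ∧ Smooth sX ∧ Flat ι ∧ IsPreimmersion ι ∧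
      ι ≫ sX = π ≫ S.fromSpecStalk s := by
  let O := S.presheaf.stalk s
  let φB : O ⟶ Γ(W, ⊤) := (Scheme.ΓSpecIso O).inv ≫ π.appTop
  letI : Algebra O Γ(W, ⊤) := φB.hom.toAlgebra
  haveI : Algebra.Smooth O Γ(W, ⊤) := by
    have hφ : φB.hom.Smooth :=
      (RingHom.Smooth.respectsIso.cancel_left_isIso (Scheme.ΓSpecIso O).inv π.appTop).2
        (HasRingHomProperty.appTop (P := @Smooth) π inferInstance)
    exact RingHom.smooth_algebraMap.1 hφ
  obtain ⟨A₀, B₀, _, _, hA₀, _, ⟨e⟩⟩ := Algebra.Smooth.exists_subalgebra_fg ℤ O Γ(W, ⊤)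
  obtain ⟨V, hsV, f, hV, hf⟩ := exists_nhd_to_subalgebra s A₀ hA₀
  let p₀ : Spec (CommRingCat.of B₀) ⟶ Spec (CommRingCat.of A₀) :=
    Spec.map (CommRingCat.ofHom (algebraMap A₀ B₀))
  haveI : Smooth p₀ := by
    rw [HasRingHomProperty.Spec_iff (P := @Smooth)]
    exact RingHom.smooth_algebraMap.2 inferInstance
  let σ := V.fromSpecStalkOfMem s hsV
  haveI : Flat σ := flat_fromSpecStalkOfMem s V hsV
  haveI : IsPreimmersion σ := isPreimmersion_fromSpecStalkOfMem s V hsV
  have hg : σ ≫ f = Spec.map (CommRingCat.ofHom (algebraMap A₀ O)) := hf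
  let w : W ≅ pullback (σ ≫ f) p₀ :=
    W.isoSpec ≪≫ Scheme.Spec.mapIso (e.symm.toRingEquiv.toCommRingCatIso.op) ≪≫
      (pullbackSpecIso A₀ O B₀).symm ≪≫ pullback.congrHom hg.symm rfl
  have hw : w.hom ≫ pullback.fst _ _ = π := by
    have hπ : W.isoSpec.hom ≫ Spec.map φB = π := by
      rw [Spec.map_comp, ← Category.assoc, Scheme.isoSpec_hom_naturality, Category.assoc]
      rw [Scheme.isoSpec_Spec_hom, ← Spec.map_comp, Iso.inv_hom_id, Spec.map_id, Category.comp_id]
    have hc : (pullback.congrHom hg.symm (rfl : p₀ = p₀)).hom ≫ pullback.fst (σ ≫ f) p₀ =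
        pullback.fst (Spec.map (CommRingCat.ofHom (algebraMap A₀ O))) p₀ :=
      (pullback.lift_fst _ _ _).trans (Category.comp_id _)
    refine Eq.trans ?_ hπ
    simp only [w, Iso.trans_hom, Category.assoc, Iso.symm_hom]
    rw [hc]
    congr 1
    refine (congrArg (_ ≫ ·) (pullbackSpecIso_inv_fst A₀ O B₀)).trans ?_
    show Spec.map _ ≫ Spec.map _ = _
    rw [← Spec.map_comp]
    congr 1
    ext a
    show e.symm (a ⊗ₜ[A₀] (1 : B₀)) = _
    exact e.symm.commutes a
  let ι : W ⟶ pullback f p₀ :=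
    (w ≪≫ (pullbackRightPullbackFstIso f p₀ σ).symm).hom ≫ pullback.snd σ (pullback.fst f p₀)
  haveI : Smooth (pullback.fst f p₀) := inferInstance
  haveI : CompactSpace V.toScheme := isCompact_iff_compactSpace.mp hV.isCompact
  haveI : IsLocallyNoetherian (pullback f p₀) := LocallyOfFiniteType.isLocallyNoetherian (pullback.fst f p₀)
  haveI : CompactSpace ↥(pullback f p₀) := QuasiCompact.compactSpace_of_compactSpace (pullback.fst f p₀)
  refine ⟨pullback f p₀, pullback.fst f p₀ ≫ V.ι, ι, { }, inferInstance, inferInstance, inferInstance, ?_⟩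
  have h1 : (pullbackRightPullbackFstIso f p₀ σ).inv ≫ pullback.snd σ (pullback.fst f p₀) ≫ pullback.fst f p₀ =
      pullback.fst (σ ≫ f) p₀ ≫ σ := by
    rw [← pullback.condition, pullbackRightPullbackFstIso_inv_fst_assoc]
  simp only [ι, Iso.trans_hom, Iso.symm_hom, Category.assoc]
  rw [reassoc_of% h1, reassoc_of% hw, Scheme.Opens.fromSpecStalkOfMem_ι]

end Groth.Agent.NeronA.StalkModel
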