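import Groth.Agent.NeronA.FlatMonoSpread
import Groth.Agent.NeronA.StalkModel
import Groth.Agent.Neron6.Over

/-!
# The Neron mapping property over a local ring
-/

set_option autoImplicit false

universe u

open CategoryTheory Limits AlgebraicGeometry TopologicalSpace

namespace Groth.Agent.NeronA.StalkNMP

/-- the mapping property in terms of morphisms of schemes -/
structure HasExt {S N : Scheme.{u}} (U : S.Opens) (sN : N ⟶ S) {X : Scheme.{u}} (π : X ⟶ S) : Prop where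
  inj : ∀ a b : X ⟶ N, a ≫ sN = π → b ≫ sN = π → (π ⁻¹ᵁ U).ι ≫ a = (π ⁻¹ᵁ U).ι ≫ b → a = b
  surj : ∀ h : (π ⁻¹ᵁ U).toScheme ⟶ N, h ≫ sN = (π ⁻¹ᵁ U).ι ≫ π →
    ∃ H : X ⟶ N, H ≫ sN = π ∧ (π ⁻¹ᵁ U).ι ≫ H = h

variable {S : Scheme.{u}}

theorem hasExt_of_bijective (U : S.Opens) (N : Over S) {X : Scheme.{u}} (π : X ⟶ S)
    (h : Function.Bijective (fun f : Over.mk π ⟶ N => (Over.pullback U.ι).map f)) :
    HasExt U N.hom π := by
  let e := pullbackRestrictIsoRestrict π U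
  have he : e.hom ≫ (π ⁻¹ᵁ U).ι = pullback.fst π U.ι := pullbackRestrictIsoRestrict_hom_ι π U
  refine ⟨fun a b ha hb hab => ?_, fun k hk => ?_⟩
  · have := @h.1 (Over.homMk a ha) (Over.homMk b hb) ((Neron6.pullback_map_eq_iff U.ι _ _).2 (by
      show pullback.fst π U.ι ≫ a = pullback.fst π U.ι ≫ b
      rw [← he, Category.assoc, hab, Category.assoc]))
    exact congrArg (fun f => CommaMorphism.left f) this
  · let k' : (Over.pullback U.ι).obj (Over.mk π) ⟶ (Over.pullback U.ι).obj N :=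
      Over.homMk (pullback.lift (e.hom ≫ k) (pullback.snd π U.ι) (by
        rw [Category.assoc, hk, ← Category.assoc, he, pullback.condition])) (pullback.lift_snd _ _ _)
    obtain ⟨F, hF⟩ := h.2 k'
    refine ⟨F.left, Over.w F, ?_⟩
    rw [← cancel_epi e.hom, ← Category.assoc, he]
    refine (Neron6.pullback_map_fst U.ι F).symm.trans ?_
    dsimp only at hF
    rw [hF]
    exact pullback.lift_fst _ _ _

variable [IsLocallyNoetherian S] (U : S.Opens) (N : Over S) [LocallyOfFiniteType N.hom]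
  (hN : ∀ Y : Over S, Smooth Y.hom →
    Function.Bijective (fun f : Y ⟶ N => (Over.pullback U.ι).map f))
  (s : S)

include hN in
theorem hasExt_affine {W : Scheme.{u}} [IsAffine W] (π : W ⟶ Spec (S.presheaf.stalk s)) [Smooth π] :
    HasExt U N.hom (π ≫ S.fromSpecStalk s) := by
  obtain ⟨X, sX, ι, _, _, _, _, hι⟩ := StalkModel.exists_model s π
  haveI : IsLocallyNoetherian W := LocallyOfFiniteType.isLocallyNoetherian π
  have hX : ∀ X₁ : X.Opens, HasExt U N.hom (X₁.ι ≫ sX) := fun X₁ =>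
    hasExt_of_bijective U N _ (hN (Over.mk (X₁.ι ≫ sX)) (inferInstanceAs (Smooth (X₁.ι ≫ sX))))
  obtain ⟨h1, h2⟩ := FlatMonoSpread.bijective_of_model ι U sX N.hom
    (fun X₁ => (hX X₁).inj) (fun X₁ => (hX X₁).surj)
  generalize π ≫ S.fromSpecStalk s = sW at hι
  subst hι
  exact ⟨h1, h2⟩

include hN in
theorem inj_of_smooth {P : Scheme.{u}} (π : P ⟶ Spec (S.presheaf.stalk s)) [Smooth π] (a b : P ⟶ N.left)
    (ha : a ≫ N.hom = π ≫ S.fromSpecStalk s) (hb : b ≫ N.hom = π ≫ S.fromSpecStalk s)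
    (hab : ((π ≫ S.fromSpecStalk s) ⁻¹ᵁ U).ι ≫ a = ((π ≫ S.fromSpecStalk s) ⁻¹ᵁ U).ι ≫ b) : a = b := by
  refine FlatDescExt.hom_ext_locally _ _ fun x => ?_
  obtain ⟨W, hW, hxW, -⟩ := exists_isAffineOpen_mem_and_subset (show x ∈ (⊤ : P.Opens) from trivial)
  haveI : IsAffine W.toScheme := hW
  refine ⟨W, hxW, (hasExt_affine U N hN s (W.ι ≫ π)).inj _ _
    (by rw [Category.assoc, Category.assoc, ha]) (by rw [Category.assoc, Category.assoc, hb]) ?_⟩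
  let V := (π ≫ S.fromSpecStalk s) ⁻¹ᵁ U
  show (W.ι ⁻¹ᵁ V).ι ≫ W.ι ≫ a = (W.ι ⁻¹ᵁ V).ι ≫ W.ι ≫ b
  rw [← morphismRestrict_ι_assoc W.ι V, ← morphismRestrict_ι_assoc W.ι V]
  exact congrArg (_ ≫ ·) hab

include hN in
theorem surj_of_smooth {Y : Scheme.{u}} (π : Y ⟶ Spec (S.presheaf.stalk s)) [Smooth π]
    (h : ((π ≫ S.fromSpecStalk s) ⁻¹ᵁ U).toScheme ⟶ N.left)
    (hh : h ≫ N.hom = ((π ≫ S.fromSpecStalk s) ⁻¹ᵁ U).ι ≫ π ≫ S.fromSpecStalk s) :
    ∃ H : Y ⟶ N.left, H ≫ N.hom = π ≫ S.fromSpecStalk s ∧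
      ((π ≫ S.fromSpecStalk s) ⁻¹ᵁ U).ι ≫ H = h := by
  let t := π ≫ S.fromSpecStalk s
  let V := t ⁻¹ᵁ U
  have key : ∀ y : Y, ∃ (W : Y.Opens) (m : W.toScheme ⟶ N.left), y ∈ W ∧ m ≫ N.hom = W.ι ≫ t ∧
      (W.ι ⁻¹ᵁ V).ι ≫ m = (W.ι ∣_ V) ≫ h := by
    intro y
    obtain ⟨W, hW, hyW, -⟩ := exists_isAffineOpen_mem_and_subset (show y ∈ (⊤ : Y.Opens) from trivial)
    haveI : IsAffine W.toScheme := hW
    obtain ⟨m, hm, hm'⟩ := (hasExt_affine U N hN s (W.ι ≫ π)).surj ((W.ι ∣_ V) ≫ h) (by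
      refine (Category.assoc _ _ _).trans ((congrArg (_ ≫ ·) hh).trans ?_)
      refine (morphismRestrict_ι_assoc W.ι V t).trans ?_
      exact congrArg (_ ≫ ·) (Category.assoc _ _ _).symm)
    exact ⟨W, m, hyW, hm.trans (Category.assoc _ _ _), hm'⟩
  choose W m hyW hm hmV using key
  let 𝒲 := Y.openCoverOfIsOpenCover W
    (Opens.coe_eq_univ.1 (Set.eq_univ_of_forall fun x => Opens.mem_iSup.2 ⟨x, hyW x⟩))
  have hcompat : ∀ i j : Y, pullback.fst (W i).ι (W j).ι ≫ m i = pullback.snd (W i).ι (W j).ι ≫ m j := by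
    intro i j
    let a := pullback.fst (W i).ι (W j).ι
    let b := pullback.snd (W i).ι (W j).ι
    refine inj_of_smooth U N hN s ((a ≫ (W i).ι) ≫ π) _ _ ?_ ?_ ?_
    · rw [Category.assoc, hm]; simp [a, t]
    · rw [Category.assoc, hm]; simp [a, t, pullback.condition_assoc]
    · let P₀ : (pullback (W i).ι (W j).ι).Opens := (((a ≫ (W i).ι) ≫ π) ≫ S.fromSpecStalk s) ⁻¹ᵁ U
      show P₀.ι ≫ a ≫ m i = P₀.ι ≫ b ≫ m j
      have hia : P₀ ≤ a ⁻¹ᵁ ((W i).ι ⁻¹ᵁ V) := fun _ hp => hp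
      have hjb : P₀ ≤ b ⁻¹ᵁ ((W j).ι ⁻¹ᵁ V) := by
        intro p hp
        have : (b ≫ (W j).ι) p = (a ≫ (W i).ι) p := by rw [pullback.condition]
        show (W j).ι (b p) ∈ V
        rw [← Scheme.Hom.comp_apply, this]
        exact hp
      have ea : (pullback (W i).ι (W j).ι).homOfLE hia ≫ (a ∣_ _) ≫ ((W i).ι ⁻¹ᵁ V).ι = P₀.ι ≫ a := by simp
      have eb : (pullback (W i).ι (W j).ι).homOfLE hjb ≫ (b ∣_ _) ≫ ((W j).ι ⁻¹ᵁ V).ι = P₀.ι ≫ b := by simp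
      rw [← reassoc_of% ea, ← reassoc_of% eb, hmV, hmV]
      simp only [← Category.assoc]
      congr 1
      rw [← cancel_mono V.ι]
      simp [a, b, pullback.condition]
  refine ⟨𝒲.glueMorphisms m hcompat, ?_, ?_⟩
  · refine 𝒲.hom_ext _ _ fun i => ?_
    rw [Scheme.Cover.ι_glueMorphisms_assoc]
    exact hm i
  · refine FlatDescExt.hom_ext_locally _ _ fun x => ?_
    let y := V.ι x
    let l : (V.ι ⁻¹ᵁ W y).toScheme ⟶ (W y).toScheme := V.ι ∣_ W y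
    have hl : l ≫ (W y).ι = (V.ι ⁻¹ᵁ W y).ι ≫ V.ι := morphismRestrict_ι _ _
    refine ⟨V.ι ⁻¹ᵁ W y, hyW _, ?_⟩
    rw [← Category.assoc, ← hl, Category.assoc]
    refine (congrArg (l ≫ ·) (Scheme.Cover.ι_glueMorphisms 𝒲 m hcompat y)).trans ?_
    have hr : Set.range l ⊆ Set.range ((W y).ι ⁻¹ᵁ V).ι := by
      rintro _ ⟨p, rfl⟩
      rw [Scheme.Opens.range_ι]
      show (W y).ι (l p) ∈ V
      rw [← Scheme.Hom.comp_apply, hl, Scheme.Hom.comp_apply]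
      exact ((V.ι ⁻¹ᵁ W y).ι p).2
    let l' := IsOpenImmersion.lift ((W y).ι ⁻¹ᵁ V).ι l hr
    have hl' : l' ≫ ((W y).ι ⁻¹ᵁ V).ι = l := IsOpenImmersion.lift_fac _ _ _
    rw [← hl', Category.assoc, hmV, ← Category.assoc]
    congr 1
    rw [← cancel_mono V.ι, Category.assoc, morphismRestrict_ι, reassoc_of% hl', hl]

end Groth.Agent.NeronA.StalkNMP
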