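import Groth.Agent.FlatMisc.Fibrewise
import Groth.Agent.GrpSchLib.HomFibre
import Groth.Agent.H23.MulEtale
import Groth.Agent.EtFound.Henselian
import Groth.Agent.S4112
import Mathlib

/-!
Powers by invertible integers on smooth commutative group schemes are etale; torsion lifts uniquely
over henselian local rings.
-/

set_option autoImplicit false
set_option linter.style.haveILetI false
set_option backward.isDefEq.respectTransparency.types false

universe u

open CategoryTheory CategoryTheory.Limits AlgebraicGeometry MonoidalCategory CartesianMonoidalCategory MonObj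
open Groth.Agent.H23

namespace Groth.Agent.NeronA.TorsionLift

theorem etale_pow {S : Scheme.{u}} (X : Over S) [GrpObj X] [IsCommMonObj X] [Smooth X.hom] [QuasiCompact X.hom]
    (n : ℕ) (hn : IsUnit (n : Γ(S, ⊤))) : Etale (𝟙 X ^ n : X ⟶ X).left := by
  set f := (𝟙 X ^ n : X ⟶ X).left
  have hfw : f ≫ X.hom = X.hom := Over.w _
  haveI : LocallyOfFinitePresentation (f ≫ X.hom) := by rw [hfw]; infer_instance
  haveI : Flat (f ≫ X.hom) := by rw [hfw]; infer_instance
  refine FlatMisc.etale_of_etale_fibres X.hom f fun s => ?_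
  let σ := S.fromSpecResidueField s
  let Xk := (Over.pullback σ).obj X
  letI : GrpObj Xk := Functor.grpObjObj
  haveI : IsCommMonObj Xk := by infer_instance
  haveI : LocallyOfFiniteType Xk.hom := inferInstanceAs (LocallyOfFiniteType (pullback.snd X.hom σ))
  haveI : QuasiCompact Xk.hom := inferInstanceAs (QuasiCompact (pullback.snd X.hom σ))
  have hnk : (n : S.residueField s) ≠ 0 := by
    have h := hn.map ((σ.appTop ≫ (Scheme.ΓSpecIso (S.residueField s)).hom).hom)
    rw [map_natCast] at h
    exact h.ne_zero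
  have hE : Etale ((Over.pullback σ).map (𝟙 X ^ n)).left := by
    rw [MulEtale.map_pow σ n]
    exact Groth.Agent.S4112.result (S.residueField s) Xk n hnk
  have h1 := MulEtale.isPullback_map σ (𝟙 X ^ n)
  show Etale (pullback.snd f (pullback.fst X.hom σ))
  rw [← h1.isoPullback_inv_snd]
  exact (MorphismProperty.cancel_left_of_respectsIso @Etale _ _).2 hE

theorem pow_left {S : Scheme.{u}} {X T : Over S} [GrpObj X] (x : T ⟶ X) (n : ℕ) :
    (x ^ n).left = x.left ≫ (𝟙 X ^ n : X ⟶ X).left := by
  rw [← Over.comp_left, MonObj.comp_pow, Category.comp_id]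

theorem one_left {S : Scheme.{u}} {X T : Over S} [GrpObj X] :
    (1 : T ⟶ X).left = T.hom ≫ η[X].left := by
  rw [Hom.one_def, Over.comp_left]
  rfl

theorem existsUnique_lift {R : Type u} [CommRing R] [HenselianLocalRing R]
    (G : Over (Spec (CommRingCat.of R))) [GrpObj G] [IsCommMonObj G] [Smooth G.hom] [QuasiCompact G.hom]
    (N : ℕ) (hN : IsUnit (N : R))
    (τ : Over.mk (Spec.map (CommRingCat.ofHom (IsLocalRing.residue R))) ⟶ G) (hτ : τ ^ N = 1) :
    ∃! σ : Over.mk (𝟙 (Spec (CommRingCat.of R))) ⟶ G,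
      σ ^ N = 1 ∧ Over.homMk (Spec.map (CommRingCat.ofHom (IsLocalRing.residue R))) (Category.comp_id _) ≫ σ = τ := by
  have hn : IsUnit (N : Γ(Spec (CommRingCat.of R), ⊤)) := by
    have h := hN.map (Scheme.ΓSpecIso (CommRingCat.of R)).inv.hom
    rwa [map_natCast] at h
  set f := (𝟙 G ^ N : G ⟶ G).left
  haveI := etale_pow G N hn
  have hfw : f ≫ G.hom = G.hom := Over.w _
  let e : Spec (CommRingCat.of R) ⟶ G.left := η[G].left
  have he : e ≫ G.hom = 𝟙 _ := Over.w η[G]
  let p := pullback.snd f e
  haveI : Etale p := MorphismProperty.pullback_snd _ _ ‹_›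
  have hτ' : τ.left ≫ f = EtFound.cpt R ≫ e := by
    rw [← pow_left, hτ]
    exact one_left
  obtain ⟨s, ⟨hs1, hs2⟩, huniq⟩ := EtFound.existsUnique_section R p (pullback.lift τ.left (EtFound.cpt R) hτ') (pullback.lift_snd _ _ _)
  have hsf : (s ≫ pullback.fst f e) ≫ f = e := by
    rw [Category.assoc, pullback.condition, ← Category.assoc]
    show (s ≫ p) ≫ e = e
    rw [hs1, Category.id_comp]
  let σ : Over.mk (𝟙 (Spec (CommRingCat.of R))) ⟶ G := Over.homMk (s ≫ pullback.fst f e) (by
    show (s ≫ pullback.fst f e) ≫ G.hom = 𝟙 _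
    rw [← hfw, ← Category.assoc, hsf, he])
  have key : ∀ σ' : Over.mk (𝟙 (Spec (CommRingCat.of R))) ⟶ G, σ' ^ N = 1 ↔ σ'.left ≫ f = e := by
    intro σ'
    constructor
    · intro h
      rw [← pow_left, h, one_left]
      exact Category.id_comp _
    · intro h
      refine Over.OverMorphism.ext ?_
      rw [pow_left, one_left]
      exact h.trans (Category.id_comp _).symm
  refine ⟨σ, ⟨(key σ).2 hsf, ?_⟩, ?_⟩
  · refine Over.OverMorphism.ext ?_
    show EtFound.cpt R ≫ s ≫ pullback.fst f e = τ.left
    rw [← Category.assoc, hs2, pullback.lift_fst]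
  · rintro σ' ⟨h1, h2⟩
    have h1' := (key σ').1 h1
    have h1'' : σ'.left ≫ f = 𝟙 _ ≫ e := h1'.trans (Category.id_comp _).symm
    have := huniq (pullback.lift σ'.left (𝟙 _) h1'') ⟨pullback.lift_snd _ _ _, by
      apply pullback.hom_ext
      · rw [Category.assoc, pullback.lift_fst, pullback.lift_fst]
        exact congrArg CommaMorphism.left h2
      · rw [Category.assoc, pullback.lift_snd, pullback.lift_snd, Category.comp_id]⟩
    refine Over.OverMorphism.ext ?_
    show σ'.left = s ≫ pullback.fst f e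
    rw [← this, pullback.lift_fst]

end Groth.Agent.NeronA.TorsionLift
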