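import Groth.Agent.NMP.Basic

/-!
A group scheme with a pseudo-torsor having the mapping property of Neron models has it.
-/

set_option autoImplicit false

universe u

open CategoryTheory Limits AlgebraicGeometry MonoidalCategory CartesianMonoidalCategory

open scoped MonObj

namespace Groth.Agent.NeronA.TorsorConverse

open Groth.Agent.NMP

variable {S : Scheme.{u}} {J G P : Over S} [GrpObj G] {a : AlgGrp.Action G P}

theorem bijective (ha : NonAbH1.IsPseudoTorsorSch a) [Smooth P.hom] [Surjective P.hom]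
    (hP : ∀ Y : Over S, Smooth Y.hom → Function.Bijective (Restr J P Y))
    (Y : Over S) (hY : Smooth Y.hom) : Function.Bijective (Restr J G Y) := by
  have hinj : ∀ Z : Over S, Smooth Z.hom → Function.Injective (Restr J G Z) := by
    intro Z hZ d d' h
    haveI := hZ
    let π : Z ⊗ P ⟶ Z := fst Z P
    haveI : Smooth π.left := inferInstanceAs (Smooth (pullback.fst Z.hom P.hom))
    haveI : Surjective π.left := inferInstanceAs (Surjective (pullback.fst Z.hom P.hom))
    haveI : Smooth (Z ⊗ P).hom := inferInstanceAs (Smooth (pullback.fst Z.hom P.hom ≫ Z.hom))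
    refine epi_of_cover π (SchTorsor.act_free ha (y := snd Z P) ((hP (Z ⊗ P) inferInstance).1 ?_))
    change fst Z J ≫ d = fst Z J ≫ d' at h
    show fst (Z ⊗ P) J ≫ lift (π ≫ d) (snd Z P) ≫ a.act = fst (Z ⊗ P) J ≫ lift (π ≫ d') (snd Z P) ≫ a.act
    rw [← Category.assoc, ← Category.assoc (fst (Z ⊗ P) J), comp_lift, comp_lift, ← whiskerRight_fst_assoc,
      h, whiskerRight_fst_assoc]
  refine ⟨hinj Y hY, fun h => ?_⟩
  haveI := hY
  let π : Y ⊗ P ⟶ Y := fst Y P
  haveI : Smooth π.left := inferInstanceAs (Smooth (pullback.fst Y.hom P.hom))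
  haveI : Surjective π.left := inferInstanceAs (Surjective (pullback.fst Y.hom P.hom))
  haveI : Smooth (Y ⊗ P).hom := inferInstanceAs (Smooth (pullback.fst Y.hom P.hom ≫ Y.hom))
  obtain ⟨g₁, hg₁⟩ := (hP (Y ⊗ P) inferInstance).2
    (lift ((π ▷ J) ≫ h) (fst (Y ⊗ P) J ≫ snd Y P) ≫ a.act)
  obtain ⟨d, hd⟩ := SchTorsor.exists_div ha g₁ (snd Y P)
  refine exists_of_cover hinj π h d ?_ ?_
  · refine SchTorsor.act_free ha (y := fst (Y ⊗ P) J ≫ snd Y P) ?_
    rw [← comp_lift, Category.assoc, hd]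
    exact hg₁
  · intro u v huv
    let σ : (Y ⊗ J) ⊗ P ⟶ (Y ⊗ P) ⊗ J :=
      lift (lift (fst (Y ⊗ J) P ≫ fst Y J) (snd (Y ⊗ J) P)) (fst (Y ⊗ J) P ≫ snd Y J)
    have hσ : σ ≫ (π ▷ J) = fst (Y ⊗ J) P := by
      apply CartesianMonoidalCategory.hom_ext <;> simp [σ, π]
    haveI : Flat (fst (Y ⊗ J) P).left := inferInstanceAs (Flat (pullback.fst (Y ⊗ J).hom P.hom))
    haveI : LocallyOfFinitePresentation (fst (Y ⊗ J) P).left :=
      inferInstanceAs (LocallyOfFinitePresentation (pullback.fst (Y ⊗ J).hom P.hom))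
    haveI : Surjective (fst (Y ⊗ J) P).left := inferInstanceAs (Surjective (pullback.fst (Y ⊗ J).hom P.hom))
    refine epi_of_cover (fst (Y ⊗ J) P) ?_
    rw [← hσ, Category.assoc, huv, Category.assoc]

/-- An action whose translation map is an isomorphism over `J` is a pseudo-torsor, if both the group
and the scheme acted on have the mapping property. -/
theorem isPseudoTorsor (hG : ∀ Y : Over S, Smooth Y.hom → Function.Bijective (Restr J G Y))
    (hP : ∀ Y : Over S, Smooth Y.hom → Function.Bijective (Restr J P Y))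
    [Smooth G.hom] [Smooth P.hom]
    (i : (P ⊗ P) ⊗ J ⟶ (G ⊗ P) ⊗ J) (hi₁ : i ≫ (lift a.act (snd G P) ▷ J) = 𝟙 _)
    (hi₂ : (lift a.act (snd G P) ▷ J) ≫ i = 𝟙 _) : NonAbH1.IsPseudoTorsorSch a := by
  haveI : Smooth (P ⊗ P).hom := inferInstanceAs (Smooth (pullback.fst P.hom P.hom ≫ P.hom))
  haveI : Smooth (G ⊗ P).hom := inferInstanceAs (Smooth (pullback.fst G.hom P.hom ≫ G.hom))
  obtain ⟨g, hg⟩ := (hG (P ⊗ P) inferInstance).2 (i ≫ fst (G ⊗ P) J ≫ fst G P)
  obtain ⟨q, hq⟩ := (hP (P ⊗ P) inferInstance).2 (i ≫ fst (G ⊗ P) J ≫ snd G P)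
  let θ := lift a.act (snd G P)
  change fst (P ⊗ P) J ≫ g = _ at hg
  change fst (P ⊗ P) J ≫ q = _ at hq
  have hgq : fst (P ⊗ P) J ≫ lift g q = i ≫ fst (G ⊗ P) J := by
    apply CartesianMonoidalCategory.hom_ext
    · rw [Category.assoc, lift_fst, hg, Category.assoc]
    · rw [Category.assoc, lift_snd, hq, Category.assoc]
  have hθ : fst (P ⊗ P) J ≫ lift g q ≫ θ = fst (P ⊗ P) J := by
    rw [← Category.assoc, hgq, Category.assoc, ← whiskerRight_fst, ← Category.assoc, hi₁, Category.id_comp]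
  refine ⟨lift g q, ?_, ?_⟩
  · apply CartesianMonoidalCategory.hom_ext
    · refine (hG (G ⊗ P) inferInstance).1 ?_
      show fst (G ⊗ P) J ≫ (θ ≫ lift g q) ≫ fst G P = fst (G ⊗ P) J ≫ 𝟙 _ ≫ fst G P
      rw [Category.assoc, ← whiskerRight_fst_assoc, reassoc_of% hgq, reassoc_of% hi₂, Category.id_comp]
    · refine (hP (G ⊗ P) inferInstance).1 ?_
      show fst (G ⊗ P) J ≫ (θ ≫ lift g q) ≫ snd G P = fst (G ⊗ P) J ≫ 𝟙 _ ≫ snd G P
      rw [Category.assoc, ← whiskerRight_fst_assoc, reassoc_of% hgq, reassoc_of% hi₂, Category.id_comp]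
  · apply CartesianMonoidalCategory.hom_ext
    · refine (hP (P ⊗ P) inferInstance).1 ?_
      show fst (P ⊗ P) J ≫ (lift g q ≫ θ) ≫ fst P P = fst (P ⊗ P) J ≫ 𝟙 _ ≫ fst P P
      rw [Category.id_comp, Category.assoc, reassoc_of% hθ]
    · refine (hP (P ⊗ P) inferInstance).1 ?_
      show fst (P ⊗ P) J ≫ (lift g q ≫ θ) ≫ snd P P = fst (P ⊗ P) J ≫ 𝟙 _ ≫ snd P P
      rw [Category.id_comp, Category.assoc, reassoc_of% hθ]

end Groth.Agent.NeronA.TorsorConverse
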