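import Mathlib

/-!
Infinitesimal deformations over `C ⊗[R] R'` for a finite local extension with trivial residue extension,
as used for the special fibre of a Weil restriction.
-/

set_option autoImplicit false
set_option linter.style.haveILetI false

universe u

open IsLocalRing TensorProduct Polynomial

attribute [local instance] Algebra.TensorProduct.rightAlgebra

namespace Groth.Agent.NeronA.WeilResAlg

variable {R : Type u} [CommRing R] [IsLocalRing R] {R' : Type u} [CommRing R'] [IsLocalRing R'] [Algebra R R']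

/-- The data: a residue map of `R'` onto the residue field of `R`, with nilpotent fibre. -/
structure Data (R : Type u) [CommRing R] [IsLocalRing R] (R' : Type u) [CommRing R'] [IsLocalRing R']
    [Algebra R R'] where
  θ : R' →ₐ[R] ResidueField R
  mem_max : ∀ r, θ r = 0 → r ∈ maximalIdeal R'
  nilp : ∃ e, maximalIdeal R' ^ e ≤ (maximalIdeal R).map (algebraMap R R')

variable (d : Data R R')

theorem Data.ker_iff (r : R') : d.θ r = 0 ↔ r ∈ maximalIdeal R' := by
  refine ⟨d.mem_max r, fun hr => by_contra fun h => ?_⟩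
  obtain ⟨t, ht⟩ := residue_surjective (d.θ r)⁻¹
  have h1 : d.θ (r * algebraMap R R' t - 1) = 0 := by
    rw [map_sub, map_mul, AlgHom.commutes, map_one, ResidueField.algebraMap_eq, ht, mul_inv_cancel₀ h, sub_self]
  have h2 := d.mem_max _ h1
  exact (maximalIdeal.isMaximal R').ne_top ((Ideal.eq_top_iff_one _).2 (by
    simpa using sub_mem (Ideal.mul_mem_right (algebraMap R R' t) _ hr) h2))

section ring

variable {C : Type u} [CommRing C] [Algebra R C] [Algebra (ResidueField R) C] [IsScalarTower R (ResidueField R) C]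

/-- Reduction `C ⊗ R' → C`. -/
noncomputable def pi : C ⊗[R] R' →ₐ[R] C :=
  Algebra.TensorProduct.lift (AlgHom.id R C)
    ((IsScalarTower.toAlgHom R (ResidueField R) C).comp d.θ) fun _ _ => mul_comm _ _

@[simp] theorem pi_tmul (c : C) (r : R') : pi d (c ⊗ₜ r) = c * algebraMap (ResidueField R) C (d.θ r) := rfl

theorem pi_surjective : Function.Surjective (pi (C := C) d) := fun c => ⟨c ⊗ₜ 1, by simp⟩

variable (C) in
/-- The ideal of the maximal ideal of `R'`. -/
noncomputable def J : Ideal (C ⊗[R] R') :=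
  (maximalIdeal R').map (Algebra.TensorProduct.includeRight : R' →ₐ[R] C ⊗[R] R')

theorem sub_mem_J (x : C ⊗[R] R') : x - pi d x ⊗ₜ 1 ∈ J C := by
  induction x using TensorProduct.induction_on with
  | zero => simp
  | add a b ha hb =>
    rw [map_add, TensorProduct.add_tmul]
    convert add_mem ha hb using 1
    abel
  | tmul c r =>
    obtain ⟨t, ht⟩ := residue_surjective (d.θ r)
    have hm : r - algebraMap R R' t ∈ maximalIdeal R' := d.mem_max _ (by
      rw [map_sub, AlgHom.commutes, ResidueField.algebraMap_eq, ht, sub_self])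
    have h : c ⊗ₜ[R] r - pi d (c ⊗ₜ r) ⊗ₜ 1 = (c ⊗ₜ 1) * (1 ⊗ₜ (r - algebraMap R R' t)) := by
      rw [Algebra.TensorProduct.tmul_mul_tmul, mul_one, one_mul, TensorProduct.tmul_sub, pi_tmul, ← ht,
        ← ResidueField.algebraMap_eq, ← IsScalarTower.algebraMap_apply, Algebra.algebraMap_eq_smul_one t,
        Algebra.algebraMap_eq_smul_one t, TensorProduct.tmul_smul, mul_smul_comm, mul_one, TensorProduct.smul_tmul']
    rw [h]
    exact Ideal.mul_mem_left _ _ (Ideal.mem_map_of_mem _ hm)

theorem J_le_ker : J C ≤ RingHom.ker (pi (C := C) d).toRingHom := by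
  refine Ideal.map_le_iff_le_comap.2 fun r hr => ?_
  show pi d (1 ⊗ₜ r) = 0
  simp [(d.ker_iff r).2 hr]

theorem mem_J_iff (x : C ⊗[R] R') : x ∈ J C ↔ pi d x = 0 := by
  refine ⟨fun h => J_le_ker d h, fun h => ?_⟩
  have := sub_mem_J d x
  rwa [h, TensorProduct.zero_tmul, sub_zero] at this

variable (C) in
include d in
theorem isNilpotent_J : IsNilpotent (J (R := R) (R' := R') C) := by
  obtain ⟨e, he⟩ := d.nilp
  refine ⟨e, eq_bot_iff.2 ?_⟩
  rw [J, ← Ideal.map_pow]
  refine (Ideal.map_mono he).trans (Ideal.map_le_iff_le_comap.2 (Ideal.map_le_iff_le_comap.2 fun t ht => ?_))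
  show Algebra.TensorProduct.includeRight (R := R) (A := C) (algebraMap R R' t) = 0
  rw [AlgHom.commutes, IsScalarTower.algebraMap_apply R C (C ⊗[R] R'), IsScalarTower.algebraMap_apply R (ResidueField R) C,
    ResidueField.algebraMap_eq, (residue_eq_zero_iff t).2 ht, map_zero, map_zero]

/-- A point over `C` lifts to a point over `C ⊗ R'`. -/
theorem exists_lift {B : Type u} [CommRing B] [Algebra R' B] [Algebra.FormallySmooth R' B] (φ : B →+* C)
    (hφ : ∀ r, φ (algebraMap R' B r) = algebraMap (ResidueField R) C (d.θ r)) :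
    ∃ ψ : B →ₐ[R'] C ⊗[R] R', ∀ b, pi d (ψ b) = φ b := by
  letI : Algebra R' C := ((algebraMap (ResidueField R) C).comp d.θ.toRingHom).toAlgebra
  let g : C ⊗[R] R' →ₐ[R'] C :=
    { toRingHom := (pi d).toRingHom
      commutes' := fun r => by
        show pi d (1 ⊗ₜ r) = algebraMap (ResidueField R) C (d.θ r)
        simp }
  have hker : RingHom.ker (g : C ⊗[R] R' →+* C) = J C := by
    ext x
    rw [mem_J_iff d]
    rfl
  have hn : IsNilpotent (RingHom.ker (g : C ⊗[R] R' →+* C)) := hker ▸ isNilpotent_J d C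
  let f : B →ₐ[R'] C := { toRingHom := φ, commutes' := hφ }
  refine ⟨Algebra.FormallySmooth.liftOfSurjective f g (pi_surjective d) hn, fun b => ?_⟩
  exact Algebra.FormallySmooth.liftOfSurjective_apply f g (pi_surjective d) hn b

variable {C' : Type u} [CommRing C'] [Algebra R C'] [Algebra (ResidueField R) C'] [IsScalarTower R (ResidueField R) C']

/-- Functoriality in `C`. -/
noncomputable def mapD (γ : C →ₐ[ResidueField R] C') : C ⊗[R] R' →ₐ[R'] C' ⊗[R] R' :=
  { toRingHom := (Algebra.TensorProduct.map (γ.restrictScalars R) (AlgHom.id R R')).toRingHom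
    commutes' := fun r => by
      show Algebra.TensorProduct.map (γ.restrictScalars R) (AlgHom.id R R') (1 ⊗ₜ r) = 1 ⊗ₜ r
      simp }

@[simp] theorem mapD_tmul (γ : C →ₐ[ResidueField R] C') (c : C) (r : R') :
    mapD γ (c ⊗ₜ r) = γ c ⊗ₜ r := rfl

theorem pi_mapD (γ : C →ₐ[ResidueField R] C') (x : C ⊗[R] R') : pi d (mapD γ x) = γ (pi d x) := by
  induction x using TensorProduct.induction_on with
  | zero => simp
  | add a b ha hb => simp [ha, hb]
  | tmul c r => simp

theorem map_J_le (γ : C →ₐ[ResidueField R] C') : (J (R' := R') C).map (mapD γ) ≤ J C' := by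
  rw [J, Ideal.map_le_iff_le_comap, Ideal.map_le_iff_le_comap]
  intro r hr
  show mapD γ (1 ⊗ₜ r) ∈ J C'
  rw [mapD_tmul, map_one]
  exact Ideal.mem_map_of_mem _ hr

theorem mapD_comp {C'' : Type u} [CommRing C''] [Algebra R C''] [Algebra (ResidueField R) C'']
    [IsScalarTower R (ResidueField R) C''] (γ : C →ₐ[ResidueField R] C') (γ' : C' →ₐ[ResidueField R] C'')
    (x : C ⊗[R] R') : mapD γ' (mapD γ x) = mapD (γ'.comp γ) x := by
  induction x using TensorProduct.induction_on with
  | zero => simp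
  | add a b ha hb => simp [ha, hb]
  | tmul c r => simp

theorem mapD_id (x : C ⊗[R] R') : mapD (AlgHom.id (ResidueField R) C) x = x := by
  induction x using TensorProduct.induction_on with
  | zero => simp
  | add a b ha hb => simp [ha, hb]
  | tmul c r => simp

end ring

include d in
/-- Homotopy: points congruent modulo `J ^ i` are linked by a line modulo `J ^ (i+1)`. -/
theorem exists_line {B : Type u} [CommRing B] [Algebra R' B] [Algebra.FormallySmooth R' B]
    {i : ℕ} (hi : 1 ≤ i) (ψ₀ ψ₁ : B →ₐ[R'] ResidueField R ⊗[R] R')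
    (h : ∀ b, ψ₁ b - ψ₀ b ∈ J (ResidueField R) ^ i) :
    ∃ Ψ : B →ₐ[R'] (ResidueField R)[X] ⊗[R] R',
      (∀ b, mapD (Polynomial.aeval (R := ResidueField R) 0) (Ψ b) - ψ₀ b ∈ J (ResidueField R) ^ (i + 1)) ∧
      ∀ b, mapD (Polynomial.aeval (R := ResidueField R) 1) (Ψ b) - ψ₁ b ∈ J (ResidueField R) ^ (i + 1) := by
  let k := ResidueField R
  let ι : k ⊗[R] R' →ₐ[R'] k[X] ⊗[R] R' := mapD (Algebra.ofId k k[X])
  let t : k[X] ⊗[R] R' := X ⊗ₜ 1
  let I : Ideal (k[X] ⊗[R] R') := J k[X] ^ (i + 1)
  let δ : B → k[X] ⊗[R] R' := fun b => ι (ψ₁ b) - ι (ψ₀ b)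
  have hδ : ∀ b, δ b ∈ J k[X] ^ i := fun b => by
    have h1 := Ideal.mem_map_of_mem ι (h b)
    rw [Ideal.map_pow, map_sub] at h1
    exact Ideal.pow_right_mono (map_J_le _) i h1
  let F : B → k[X] ⊗[R] R' := fun b => ι (ψ₀ b) + t * δ b
  let f : B →ₐ[R'] (k[X] ⊗[R] R') ⧸ I :=
    { toFun := fun b => Ideal.Quotient.mk I (F b)
      map_one' := by simp [F, δ]
      map_mul' := fun a b => by
        rw [← map_mul, Ideal.Quotient.eq]
        have e : F (a * b) - F a * F b = (t - t * t) * (δ a * δ b) := by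
          simp only [F, δ, map_mul]; ring
        rw [e]
        refine Ideal.mul_mem_left _ _ (Ideal.pow_le_pow_right (by omega : i + 1 ≤ i + i) ?_)
        rw [Ideal.IsTwoSided.pow_add]
        exact Ideal.mul_mem_mul (hδ a) (hδ b)
      map_zero' := by simp [F, δ]
      map_add' := fun a b => by
        rw [← map_add]; congr 1; simp only [F, δ, map_add]; ring
      commutes' := fun r => by
        show Ideal.Quotient.mk I (F _) = Ideal.Quotient.mk I (algebraMap R' _ r)
        congr 1
        simp only [F, δ, AlgHom.commutes, sub_self, mul_zero, add_zero]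
        exact ι.commutes r }
  have hnil : IsNilpotent I := (isNilpotent_J d k[X]).pow_of_pos (Nat.succ_ne_zero i)
  refine ⟨Algebra.FormallySmooth.lift I hnil f, ?_⟩
  have key : ∀ (c : k) b, mapD (Polynomial.aeval c) (Algebra.FormallySmooth.lift I hnil f b) -
      (ψ₀ b + (c ⊗ₜ 1) * (ψ₁ b - ψ₀ b)) ∈ J k ^ (i + 1) := by
    intro c b
    have h1 := Ideal.mem_map_of_mem (mapD (R' := R') (Polynomial.aeval c : k[X] →ₐ[k] k))
      (Ideal.Quotient.eq.1 (Algebra.FormallySmooth.mk_lift I hnil f b) : _ ∈ J k[X] ^ (i + 1))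
    rw [Ideal.map_pow] at h1
    have h2 := Ideal.pow_right_mono (map_J_le _) _ h1
    have hι : ∀ x, mapD (Polynomial.aeval c) (ι x) = x := fun x => by
      show mapD _ (mapD _ x) = x
      rw [mapD_comp, show (Polynomial.aeval c).comp (Algebra.ofId k k[X]) = AlgHom.id k k from Subsingleton.elim _ _, mapD_id]
    simpa only [F, δ, t, map_sub, map_add, map_mul, hι, mapD_tmul, Polynomial.aeval_X] using h2
  refine ⟨fun b => ?_, fun b => ?_⟩
  · simpa [TensorProduct.zero_tmul] using key 0 b
  · simpa [← Algebra.TensorProduct.one_def] using key 1 b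

end Groth.Agent.NeronA.WeilResAlg
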