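import Groth.Agent.NeronA.WeilResSpecial

/-!
Component groups of Weil restrictions: the residue extension of a finite extension of discrete valuation
rings, and congruences of rational points modulo the neutral component.
-/

set_option autoImplicit false
set_option linter.style.haveILetI false
set_option backward.isDefEq.respectTransparency.types false

universe u

open CategoryTheory CategoryTheory.Limits MonoidalCategory CartesianMonoidalCategory AlgebraicGeometry MonObj
open IsLocalRing
open Groth.Agent.NeronA.WeilResAlg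
open Groth.Agent.SGA7X

namespace Groth.Agent.NeronA.WeilResComponents

theorem exists_data (R : Type u) [CommRing R] [IsDomain R] [IsDiscreteValuationRing R] [IsAlgClosed (ResidueField R)]
    (R' : Type u) [CommRing R'] [IsDomain R'] [IsDiscreteValuationRing R'] [Algebra R R'] [Module.Finite R R']
    [FaithfulSMul R R'] : Nonempty (Data R R') := by
  haveI : IsLocalHom (algebraMap R R') :=
    (algebraMap_isIntegral_iff.2 inferInstance).isLocalHom (FaithfulSMul.algebraMap_injective R R')
  let e := AlgEquiv.ofBijective (IsScalarTower.toAlgHom R (ResidueField R) (ResidueField R'))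
    (IsAlgClosed.algebraMap_bijective_of_isIntegral (k := ResidueField R) (K := ResidueField R'))
  refine ⟨{ θ := e.symm.toAlgHom.comp (IsScalarTower.toAlgHom R R' (ResidueField R')), mem_max := ?_, nilp := ?_ }⟩
  · intro r hr
    have h : (residue R') r = 0 := e.symm.injective (hr.trans (map_zero e.symm).symm)
    exact (residue_eq_zero_iff r).1 h
  · obtain ⟨ϖ, hϖ⟩ := IsDiscreteValuationRing.exists_irreducible R
    have hne : (maximalIdeal R).map (algebraMap R R') ≠ ⊥ := by
      rw [hϖ.maximalIdeal_eq, Ideal.map_span, Set.image_singleton, Ne, Ideal.span_singleton_eq_bot]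
      exact fun h => hϖ.ne_zero (FaithfulSMul.algebraMap_injective R R' (h.trans (map_zero _).symm))
    obtain ⟨π, hπ⟩ := IsDiscreteValuationRing.exists_irreducible R'
    obtain ⟨n, hn⟩ := IsDiscreteValuationRing.ideal_eq_span_pow_irreducible hne hπ
    exact ⟨n, by rw [hn, hπ.maximalIdeal_eq, Ideal.span_singleton_pow]⟩

section Translate

variable {A : Type u} [CommRing A] [IsLocalRing A] {N : Over (Spec (CommRingCat.of A))} [GrpObj N]

theorem secComp_mul_left {b b' : 𝟙_ (Over (Spec (CommRingCat.of A))) ⟶ N}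
    (h : SGA7.secComp A N b = SGA7.secComp A N b') (c : 𝟙_ (Over (Spec (CommRingCat.of A))) ⟶ N) :
    SGA7.secComp A N (c * b) = SGA7.secComp A N (c * b') := by
  let m : N ⟶ N := (toUnit N ≫ c) * 𝟙 N
  have hm : ∀ x : 𝟙_ (Over (Spec (CommRingCat.of A))) ⟶ N, secPt (c * x) = m.left.base (secPt x) := by
    intro x
    have h1 : c * x = x ≫ m := by
      rw [MonObj.comp_mul, Category.comp_id, ← Category.assoc, toUnit_unique (x ≫ toUnit N) (𝟙 _), Category.id_comp]
    rw [h1]
    rfl
  rw [secComp_eq_iff_mem, hm]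
  refine (isPreconnected_connectedComponentIn.image _ m.left.continuous.continuousOn).subset_connectedComponentIn
    ⟨_, mem_connectedComponentIn (secPt_mem b'), (hm b').symm⟩ ?_ ⟨_, (secComp_eq_iff_mem b b').1 h, rfl⟩
  rintro _ ⟨p, hp, rfl⟩
  show N.hom.base (m.left.base p) = closedPoint A
  rw [← Scheme.Hom.comp_apply, Over.w m]
  exact connectedComponentIn_subset (SGA7.specialFibreSet A N) _ hp

theorem secComp_pow {b b' : 𝟙_ (Over (Spec (CommRingCat.of A))) ⟶ N}
    (h : SGA7.secComp A N b = SGA7.secComp A N b') : ∀ n : ℕ, SGA7.secComp A N (b ^ n) = SGA7.secComp A N (b' ^ n)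
  | 0 => by rw [pow_zero, pow_zero]
  | n + 1 => by rw [pow_succ, pow_succ, secComp_mul_right (secComp_pow h n) b, secComp_mul_left h]

end Translate

/-- Congruence modulo the neutral component for residue points. -/
theorem pow_mem_neutral {A : Type u} [CommRing A] [IsLocalRing A] {k : Type u} [Field k] (φ : A →+* k)
    (hφ : Function.Surjective φ) (hker : ∀ a, φ a = 0 ↔ a ∈ maximalIdeal A) (N : Over (Spec (CommRingCat.of A))) [GrpObj N]
    (x y : Over.mk (Spec.map (CommRingCat.ofHom φ)) ⟶ N)
    (h : (x * y⁻¹).left.base (closedPoint k) ∈ SGA3x.neutralSet N) (n : ℕ) (hy : y ^ n = 1) :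
    (x ^ n).left.base (closedPoint k) ∈ SGA3x.neutralSet N := by
  let σ := Spec.map (CommRingCat.ofHom φ)
  let T : Over (Spec (CommRingCat.of A)) := Over.mk σ
  let G := Red.bc σ N
  let d0 : 𝟙_ (Over (Spec (CommRingCat.of k))) ⟶ Red.bc σ T :=
    Over.homMk (pullback.lift (𝟙 _) (𝟙 _) rfl) (pullback.lift_snd _ _ _)
  let kpt : (T ⟶ N) →* (𝟙_ (Over (Spec (CommRingCat.of k))) ⟶ G) :=
    { toFun := fun w => d0 ≫ (Over.pullback σ).map w
      map_one' := by
        show d0 ≫ (Over.pullback σ).homMonoidHom (1 : T ⟶ N) = 1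
        rw [_root_.map_one, MonObj.comp_one]
      map_mul' := fun w w' => by
        show d0 ≫ (Over.pullback σ).homMonoidHom (w * w') = _
        rw [_root_.map_mul, MonObj.comp_mul]
        rfl }
  have hsp : ∀ p : Spec (CommRingCat.of k), σ.base p = closedPoint A := fun p => by
    refine PrimeSpectrum.ext ?_
    show p.asIdeal.comap φ = maximalIdeal A
    rw [show p.asIdeal = ⊥ from (Ideal.eq_bot_or_top p.asIdeal).resolve_right p.2.ne_top]
    ext a
    exact Ideal.mem_bot.trans (hker a)
  have hfst : ∀ w : T ⟶ N, (pullback.fst N.hom σ).base (secPt (kpt w)) = w.left.base (closedPoint k) := by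
    intro w
    show (pullback.fst N.hom σ).base ((d0 ≫ (Over.pullback σ).map w).left.base _) = _
    rw [← Scheme.Hom.comp_apply]
    refine congrArg (fun φ : Spec (CommRingCat.of k) ⟶ N.left => φ.base (closedPoint k)) ?_
    show (d0.left ≫ ((Over.pullback σ).map w).left) ≫ pullback.fst N.hom σ = w.left
    rw [Category.assoc, show ((Over.pullback σ).map w).left ≫ pullback.fst N.hom σ = pullback.fst T.hom σ ≫ w.left from
      pullback.lift_fst _ _ _, ← Category.assoc, show d0.left ≫ pullback.fst T.hom σ = 𝟙 _ from pullback.lift_fst _ _ _]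
    exact Category.id_comp _
  haveI : IsClosedImmersion σ := IsClosedImmersion.spec_of_surjective _ hφ
  have hrange : Set.range (pullback.fst N.hom σ).base = SGA7.specialFibreSet A N := by
    rw [Scheme.Pullback.range_fst]
    ext w
    exact ⟨fun ⟨p, hp⟩ => hp.symm.trans (hsp p), fun hw => ⟨closedPoint k, (hsp _).trans (Eq.symm hw)⟩⟩
  have hSF : SGA7.specialFibreSet k G = Set.univ :=
    Set.eq_univ_of_forall fun _ => Subsingleton.elim (α := PrimeSpectrum k) _ _
  have hone : (1 : T ⟶ N).left.base (closedPoint k) = η[N].left.base (closedPoint A) := by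
    rw [Hom.one_def, Over.comp_left, Scheme.Hom.comp_apply]
    exact congrArg _ (hsp _)
  have key : ∀ w : T ⟶ N, SGA7.secComp k G (kpt w) = SGA7.secComp k G 1 ↔
      w.left.base (closedPoint k) ∈ SGA3x.neutralSet N := by
    intro w
    have hw : w.left.base (closedPoint k) ∈ SGA7.specialFibreSet A N := by
      show N.hom.base _ = _
      rw [← Scheme.Hom.comp_apply, Over.w w]
      exact hsp _
    rw [secComp_eq_iff_mem, WeilResSpecial.mem_neutralSet_iff N hw, ← hone, ← hfst w, ← hfst 1, map_one]
    show secPt (kpt w) ∈ connectedComponentIn _ _ ↔ _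
    rw [hSF]
    constructor
    · intro hmem
      refine (isPreconnected_connectedComponentIn.image _ (pullback.fst N.hom σ).continuous.continuousOn).subset_connectedComponentIn
        ⟨_, mem_connectedComponentIn (Set.mem_univ (secPt (1 : 𝟙_ (Over (Spec (CommRingCat.of k))) ⟶ G))), rfl⟩ ?_ ⟨_, hmem, rfl⟩
      rw [← hrange]
      exact Set.image_subset_range _ _
    · intro hmem
      have hpre : _root_.IsPreconnected ((pullback.fst N.hom σ).base ⁻¹'
          connectedComponentIn (SGA7.specialFibreSet A N) ((pullback.fst N.hom σ).base (secPt (1 : 𝟙_ _ ⟶ G)))) := by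
        refine (pullback.fst N.hom σ).isEmbedding.isInducing.isPreconnected_image.1 ?_
        rw [Set.image_preimage_eq_of_subset (by rw [hrange]; exact connectedComponentIn_subset _ _)]
        exact isPreconnected_connectedComponentIn
      refine hpre.subset_connectedComponentIn ?_ (Set.subset_univ _) hmem
      exact mem_connectedComponentIn (hrange.subset ⟨_, rfl⟩)
  have h1 : SGA7.secComp k G (kpt x) = SGA7.secComp k G (kpt y) := by
    have h2 := secComp_mul_right ((key _).2 h) (kpt y)
    rwa [map_mul, map_inv, inv_mul_cancel_right, _root_.one_mul] at h2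
  refine (key _).1 ?_
  rw [map_pow, secComp_pow h1 n, ← map_pow, hy, map_one]

section Main

open WeilResSpecial

variable {R : Type u} [CommRing R] [IsLocalRing R] [IsAlgClosed (ResidueField R)] {R' : Type u} [CommRing R'] [IsLocalRing R']
  [Algebra R R'] (d : Data R R')

theorem exists_resHom : ∃ i : Over.mk (Spec.map (CommRingCat.ofHom (residue R'))) ⟶ Tk' d, IsIso i := by
  let l : ResidueField R' →+* ResidueField R :=
    Ideal.Quotient.lift (maximalIdeal R') d.θ.toRingHom fun r hr => (d.ker_iff r).2 hr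
  have hs : Function.Surjective l := fun a => by
    obtain ⟨t, rfl⟩ := residue_surjective a
    exact ⟨residue R' (algebraMap R R' t), d.θ.commutes t⟩
  let e := RingEquiv.ofBijective l ⟨l.injective, hs⟩
  have he : e.symm.toRingHom.comp d.θ.toRingHom = residue R' :=
    RingHom.ext fun r => e.symm_apply_eq.2 rfl
  let i : Over.mk (Spec.map (CommRingCat.ofHom (residue R'))) ⟶ Tk' d :=
    Over.homMk (Spec.map e.symm.toCommRingCatIso.hom) (by
      show Spec.map _ ≫ Spec.map (CommRingCat.ofHom d.θ.toRingHom) = _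
      rw [← Spec.map_comp]
      exact congrArg (fun φ : R' →+* ResidueField R' => Spec.map (CommRingCat.ofHom φ)) he)
  haveI : IsIso ((Over.forget _).map i) := inferInstanceAs (IsIso (Spec.map e.symm.toCommRingCatIso.hom))
  exact ⟨i, isIso_of_reflects_iso i (Over.forget _)⟩

variable {N' : Over (Spec (CommRingCat.of R'))} {W : Over (Spec (CommRingCat.of R))}
  {q : Red.bc (Spec.map (CommRingCat.ofHom (algebraMap R R'))) W ⟶ N'}
  (hW : WeilRes.IsWeilRes (Spec.map (CommRingCat.ofHom (algebraMap R R'))) N' W q)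

omit [IsAlgClosed (ResidueField R)] in
theorem comp_base (i : Over.mk (Spec.map (CommRingCat.ofHom (residue R'))) ⟶ Tk' d) (w : Tk' d ⟶ N') :
    (i ≫ w).left.base (closedPoint (ResidueField R')) = w.left.base (closedPoint (ResidueField R)) := by
  rw [Over.comp_left, Scheme.Hom.comp_apply]
  exact congrArg _ (Subsingleton.elim (α := PrimeSpectrum (ResidueField R)) _ _)

variable [Smooth N'.hom] [GrpObj N'] [GrpObj W] [IsMonHom q]

include d hW

theorem components_iff (z : (Red.bc (Spec.map (CommRingCat.ofHom (algebraMap R R')))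
      (Over.mk (Spec.map (CommRingCat.ofHom (residue R))))).left) :
    (∀ x : Over.mk (Spec.map (CommRingCat.ofHom (residue R))) ⟶ W,
        x.left.base (closedPoint (ResidueField R)) ∈ SGA3x.neutralSet W ↔
          (WeilRes.restr (Spec.map (CommRingCat.ofHom (algebraMap R R'))) q
            (Over.mk (Spec.map (CommRingCat.ofHom (residue R)))) x).left.base z ∈ SGA3x.neutralSet N') ∧
      ∀ y ∈ SGA7.specialFibreSet R' N', ∃ x : Over.mk (Spec.map (CommRingCat.ofHom (residue R))) ⟶ W,
        (WeilRes.restr (Spec.map (CommRingCat.ofHom (algebraMap R R'))) q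
          (Over.mk (Spec.map (CommRingCat.ofHom (residue R)))) x).left.base z ∈
            connectedComponentIn (SGA7.specialFibreSet R' N') y := by
  refine ⟨fun x => ?_, fun y hy => ?_⟩
  · exact (mem_neutral_iff hW d x).trans (iff_of_eq (congrArg (· ∈ SGA3x.neutralSet N') (restr_base d x z).symm))
  · obtain ⟨x, hx⟩ := exists_rpt_mem hW d y hy
    refine ⟨x, ?_⟩
    exact (restr_base d x z).symm ▸ component_specializes_mem N' hy hx

theorem split
    (hsplit : ∀ x : Over.mk (Spec.map (CommRingCat.ofHom (residue R))) ⟶ W,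
      ∃ y : Over.mk (Spec.map (CommRingCat.ofHom (residue R))) ⟶ W,
      (x * y⁻¹).left.base (closedPoint (ResidueField R)) ∈ SGA3x.neutralSet W ∧
        ∀ n : ℕ, y ^ n = 1 ↔ (x ^ n).left.base (closedPoint (ResidueField R)) ∈ SGA3x.neutralSet W)
    (x' : Over.mk (Spec.map (CommRingCat.ofHom (residue R'))) ⟶ N') :
    ∃ y' : Over.mk (Spec.map (CommRingCat.ofHom (residue R'))) ⟶ N',
      (x' * y'⁻¹).left.base (closedPoint (ResidueField R')) ∈ SGA3x.neutralSet N' ∧
        ∀ n : ℕ, y' ^ n = 1 ↔ (x' ^ n).left.base (closedPoint (ResidueField R')) ∈ SGA3x.neutralSet N' := by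
  obtain ⟨i, hi⟩ := exists_resHom d
  obtain ⟨x, hx⟩ : ∃ x : Over.mk (Spec.map (CommRingCat.ofHom (residue R))) ⟶ W, red d q x = inv i ≫ x' :=
    exists_red_eq hW d (inv i ≫ x')
  obtain ⟨y, hy, hn⟩ := hsplit x
  have hx' : x' = i ≫ red d q x := by rw [hx, IsIso.hom_inv_id_assoc]
  have hmul : (x' * (i ≫ red d q y)⁻¹).left.base (closedPoint (ResidueField R')) ∈ SGA3x.neutralSet N' := by
    rw [hx', ← GrpObj.comp_inv, ← MonObj.comp_mul, comp_base, ← red_inv, ← red_mul]
    exact (mem_neutral_iff hW d (x * y⁻¹)).1 hy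
  refine ⟨i ≫ red d q y, hmul, fun n => ⟨fun h => ?_, fun h => ?_⟩⟩
  · exact pow_mem_neutral (residue R') residue_surjective (fun r => residue_eq_zero_iff r) N' x' _ hmul n h
  · rw [hx', ← MonObj.comp_pow, comp_base, ← red_pow] at h
    have hy1 := (hn n).2 ((mem_neutral_iff hW d (x ^ n)).2 h)
    rw [← MonObj.comp_pow, ← red_pow]
    exact (congrArg (fun w => i ≫ w) ((congrArg (red d q) hy1).trans (red_one d))).trans (MonObj.comp_one i)

theorem totallyNotSplit (p : ℕ)
    (htns : ∀ x' : Over.mk (Spec.map (CommRingCat.ofHom (residue R'))) ⟶ N',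
      (x' ^ p).left.base (closedPoint (ResidueField R')) ∈ SGA3x.neutralSet N' →
      x'.left.base (closedPoint (ResidueField R')) ∉ SGA3x.neutralSet N' →
        ∀ y' : Over.mk (Spec.map (CommRingCat.ofHom (residue R'))) ⟶ N',
          (x' * y'⁻¹).left.base (closedPoint (ResidueField R')) ∈ SGA3x.neutralSet N' → y' ^ p ≠ 1)
    (x : Over.mk (Spec.map (CommRingCat.ofHom (residue R))) ⟶ W)
    (hxp : (x ^ p).left.base (closedPoint (ResidueField R)) ∈ SGA3x.neutralSet W)
    (hx : x.left.base (closedPoint (ResidueField R)) ∉ SGA3x.neutralSet W)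
    (y : Over.mk (Spec.map (CommRingCat.ofHom (residue R))) ⟶ W)
    (hy : (x * y⁻¹).left.base (closedPoint (ResidueField R)) ∈ SGA3x.neutralSet W) : y ^ p ≠ 1 := by
  intro hy1
  obtain ⟨i, hi⟩ := exists_resHom d
  refine htns (i ≫ red d q x) ?_ ?_ (i ≫ red d q y) ?_ ?_
  · rw [← MonObj.comp_pow, comp_base, ← red_pow]
    exact (mem_neutral_iff hW d (x ^ p)).1 hxp
  · rw [comp_base]
    exact fun h => hx ((mem_neutral_iff hW d x).2 h)
  · rw [← GrpObj.comp_inv, ← MonObj.comp_mul, comp_base, ← red_inv, ← red_mul]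
    exact (mem_neutral_iff hW d (x * y⁻¹)).1 hy
  · rw [← MonObj.comp_pow, ← red_pow]
    exact (congrArg (fun w => i ≫ w) ((congrArg (red d q) hy1).trans (red_one d))).trans (MonObj.comp_one i)

end Main

end Groth.Agent.NeronA.WeilResComponents
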