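import Groth.Agent.NeronA.WeilResAlg
import Groth.Agent.SGA7X.Components
import Groth.Prelude.Def_WeilRes
import Groth.Prelude.Def_SGA3x
import Mathlib

/-!
The special fibre of a Weil restriction of a smooth scheme along a finite local extension with trivial
residue extension: connected components.
-/

set_option autoImplicit false
set_option linter.style.haveILetI false
set_option backward.isDefEq.respectTransparency.types false

universe u

open CategoryTheory CategoryTheory.Limits MonoidalCategory CartesianMonoidalCategory AlgebraicGeometry MonObj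
open IsLocalRing TensorProduct
open Groth.Agent.NeronA.WeilResAlg

attribute [local instance] Algebra.TensorProduct.rightAlgebra

namespace Groth.Agent.NeronA.WeilResSpecial

/-- The part of the neutral set in the closed fibre. -/
theorem mem_neutralSet_iff {A : Type u} [CommRing A] [IsLocalRing A] (G : Over (Spec (CommRingCat.of A))) [GrpObj G]
    {w : G.left} (hw : w ∈ SGA7.specialFibreSet A G) :
    w ∈ SGA3x.neutralSet G ↔
      w ∈ connectedComponentIn (SGA7.specialFibreSet A G) (η[G].left.base (closedPoint A)) := by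
  constructor
  · intro h
    obtain ⟨p, hp⟩ := Set.mem_iUnion.1 h
    have h1 := connectedComponentIn_subset _ _ hp
    have hp' : p = closedPoint A := by
      have h2 : G.hom.base w = (𝟙_ (Over (Spec (CommRingCat.of A)))).hom.base p := h1
      have hw' : G.hom.base w = closedPoint A := hw
      rw [hw'] at h2
      exact h2.symm
    subst hp'
    exact hp
  · intro h
    exact Set.mem_iUnion.2 ⟨closedPoint A, h⟩

variable {R : Type u} [CommRing R] [IsLocalRing R] {R' : Type u} [CommRing R'] [IsLocalRing R'] [Algebra R R']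

local notation "k₀" => ResidueField R
local notation "ff" => Spec.map (CommRingCat.ofHom (algebraMap R R'))

variable (C : Type u) [CommRing C] [Algebra R C]

/-- The test object of a ring. -/
noncomputable abbrev TC : Over (Spec (CommRingCat.of R)) := Over.mk (Spec.map (CommRingCat.ofHom (algebraMap R C)))

/-- Its base change. -/
noncomputable abbrev bcIso : (Red.bc ff (TC C)).left ≅ Spec (CommRingCat.of (C ⊗[R] R')) := pullbackSpecIso R C R'

variable {C}

local notation "Tk" => TC (R := R) (ResidueField R)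

theorem hom_base_eq_closed [Algebra (ResidueField R) C] [IsScalarTower R (ResidueField R) C] (p : (TC (R := R) C).left) :
    (TC (R := R) C).hom.base p = closedPoint R := by
  show (Spec.map (CommRingCat.ofHom (algebraMap R C))).base p = _
  rw [IsScalarTower.algebraMap_eq R (ResidueField R) C, CommRingCat.ofHom_comp, Spec.map_comp, Scheme.Hom.comp_apply]
  exact PrimeSpectrum.comap_residue R _

/-- A chart of a scheme over `R'`. -/
structure Chart (N' : Over (Spec (CommRingCat.of R'))) where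
  B : Type u
  [cr : CommRing B]
  [alg : Algebra R' B]
  [smooth : Algebra.Smooth R' B]
  j : Spec (CommRingCat.of B) ⟶ N'.left
  [openImm : IsOpenImmersion j]
  w : j ≫ N'.hom = Spec.map (CommRingCat.ofHom (algebraMap R' B))

attribute [instance] Chart.cr Chart.alg Chart.smooth Chart.openImm

variable {N' : Over (Spec (CommRingCat.of R'))}

theorem exists_chart [Smooth N'.hom] {y : N'.left} {U : Set N'.left} (hU : IsOpen U) (hy : y ∈ U) :
    ∃ c : Chart N', y ∈ Set.range c.j.base ∧ Set.range c.j.base ⊆ U := by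
  obtain ⟨V, hV, hyV, hVU⟩ := exists_isAffineOpen_mem_and_subset (x := y) (U := (⟨U, hU⟩ : N'.left.Opens)) hy
  obtain ⟨φ, hφ⟩ := Spec.map_surjective (hV.fromSpec ≫ N'.hom)
  letI : Algebra R' Γ(N'.left, V) := φ.hom.toAlgebra
  haveI : Algebra.Smooth R' Γ(N'.left, V) := by
    have h : Smooth (hV.fromSpec ≫ N'.hom) := inferInstance
    rw [← hφ, HasRingHomProperty.Spec_iff (P := @Smooth)] at h
    exact h
  refine ⟨{ B := Γ(N'.left, V), j := hV.fromSpec, w := hφ.symm }, ?_, ?_⟩
  · rw [hV.range_fromSpec]; exact hyV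
  · rw [hV.range_fromSpec]; exact hVU

variable (c : Chart N')

/-- The morphism out of the base change given by a point of a chart. -/
noncomputable def homOf (ψ : c.B →ₐ[R'] C ⊗[R] R') : Red.bc ff (TC C) ⟶ N' :=
  Over.homMk ((bcIso C).hom ≫ Spec.map (CommRingCat.ofHom ψ.toRingHom) ≫ c.j) (by
    rw [Category.assoc, Category.assoc, c.w, ← Spec.map_comp, ← CommRingCat.ofHom_comp]
    have e : ψ.toRingHom.comp (algebraMap R' c.B) = algebraMap R' (C ⊗[R] R') := ψ.comp_algebraMap
    rw [e]
    exact pullbackSpecIso_hom_snd R C R')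

variable {W : Over (Spec (CommRingCat.of R))}
  {q : Red.bc (Spec.map (CommRingCat.ofHom (algebraMap R R'))) W ⟶ N'}
  (hW : WeilRes.IsWeilRes (Spec.map (CommRingCat.ofHom (algebraMap R R'))) N' W q)

/-- The point of the Weil restriction given by a point of a chart. -/
noncomputable def pt (ψ : c.B →ₐ[R'] C ⊗[R] R') : TC C ⟶ W := hW.lift (TC C) (homOf c ψ)

theorem restr_pt (ψ : c.B →ₐ[R'] C ⊗[R] R') : WeilRes.restr ff q (TC C) (pt c hW ψ) = homOf c ψ :=
  (Equiv.ofBijective _ (hW (TC C))).apply_symm_apply _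

variable [Algebra (ResidueField R) C] [IsScalarTower R (ResidueField R) C]
variable {C' : Type u} [CommRing C'] [Algebra R C'] [Algebra (ResidueField R) C'] [IsScalarTower R (ResidueField R) C']

/-- Functoriality of the test objects. -/
noncomputable def TCmap (ev : C →ₐ[ResidueField R] C') : TC (R := R) C' ⟶ TC C :=
  Over.homMk (Spec.map (CommRingCat.ofHom ev.toRingHom)) (by
    show Spec.map (CommRingCat.ofHom ev.toRingHom) ≫ Spec.map (CommRingCat.ofHom (algebraMap R C)) = _
    rw [← Spec.map_comp, ← CommRingCat.ofHom_comp]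
    congr 2
    exact (ev.restrictScalars R).comp_algebraMap)

theorem TCmap_pt (ev : C →ₐ[ResidueField R] C') (ψ : c.B →ₐ[R'] C ⊗[R] R') :
    TCmap ev ≫ pt c hW ψ = pt c hW ((mapD ev).comp ψ) := by
  refine (hW (TC C')).injective ?_
  rw [WeilRes.restr_comp, restr_pt, restr_pt]
  refine Over.OverMorphism.ext ?_
  have key : ((Over.pullback ff).map (TCmap ev)).left ≫ (bcIso C).hom =
      (bcIso C').hom ≫ Spec.map (CommRingCat.ofHom (mapD (R' := R') ev).toRingHom) := by
    rw [← Iso.eq_comp_inv, Category.assoc]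
    refine pullback.hom_ext ?_ ?_
    · refine (pullback.lift_fst _ _ _).trans ?_
      show pullback.fst _ _ ≫ Spec.map (CommRingCat.ofHom ev.toRingHom) =
        ((pullbackSpecIso R C' R').hom ≫ Spec.map _ ≫ (pullbackSpecIso R C R').inv) ≫
          pullback.fst (Spec.map (CommRingCat.ofHom (algebraMap R C))) ff
      rw [Category.assoc, Category.assoc, pullbackSpecIso_inv_fst, ← Spec.map_comp, ← CommRingCat.ofHom_comp,
        show (mapD (R' := R') ev).toRingHom.comp Algebra.TensorProduct.includeLeftRingHom =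
          Algebra.TensorProduct.includeLeftRingHom.comp ev.toRingHom from RingHom.ext fun _ => rfl,
        CommRingCat.ofHom_comp, Spec.map_comp, pullbackSpecIso_hom_fst_assoc]
    · refine (pullback.lift_snd _ _ _).trans ?_
      show pullback.snd _ _ =
        ((pullbackSpecIso R C' R').hom ≫ Spec.map _ ≫ (pullbackSpecIso R C R').inv) ≫
          pullback.snd (Spec.map (CommRingCat.ofHom (algebraMap R C))) ff
      rw [Category.assoc, Category.assoc, pullbackSpecIso_inv_snd, ← Spec.map_comp, ← CommRingCat.ofHom_comp]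
      refine (pullbackSpecIso_hom_snd R C' R').symm.trans
        (congrArg (fun φ : R' →+* C' ⊗[R] R' => (pullbackSpecIso R C' R').hom ≫ Spec.map (CommRingCat.ofHom φ)) ?_)
      exact (mapD ev).comp_algebraMap.symm
  show ((Over.pullback ff).map (TCmap ev)).left ≫ (bcIso C).hom ≫ _ = (bcIso C').hom ≫ _
  rw [reassoc_of% key, ← Spec.map_comp_assoc, ← CommRingCat.ofHom_comp]
  rfl

variable (d : Data R R')

/-- The residue object of `R'`, read through `d`. -/
noncomputable abbrev Tk' : Over (Spec (CommRingCat.of R')) := Over.mk (Spec.map (CommRingCat.ofHom d.θ.toRingHom))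

theorem θ_point (p : Spec (CommRingCat.of (ResidueField R))) :
    (Spec.map (CommRingCat.ofHom d.θ.toRingHom)).base p = closedPoint R' := by
  refine PrimeSpectrum.ext ?_
  show p.asIdeal.comap d.θ.toRingHom = maximalIdeal R'
  rw [show p.asIdeal = ⊥ from (Ideal.eq_bot_or_top p.asIdeal).resolve_right p.2.ne_top]
  ext r
  exact (Ideal.mem_bot).trans (d.ker_iff r)

/-- The point of the one-point scheme `k ×_R R'`. -/
noncomputable def zk : Tk' d ⟶ Red.bc ff Tk :=
  Over.homMk (Spec.map (CommRingCat.ofHom (WeilResAlg.pi (C := k₀) d).toRingHom) ≫ (bcIso (R := R) (R' := R') k₀).inv) (by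
    show (_ ≫ (pullbackSpecIso R k₀ R').inv) ≫ pullback.snd _ _ = Spec.map _
    rw [Category.assoc, pullbackSpecIso_inv_snd, ← Spec.map_comp, ← CommRingCat.ofHom_comp]
    congr 2
    ext r
    show WeilResAlg.pi d (1 ⊗ₜ r) = d.θ r
    simp)

/-- Reduction of rational points of the Weil restriction. -/
noncomputable def red (q : Red.bc ff W ⟶ N') (x : Tk ⟶ W) : Tk' d ⟶ N' := zk d ≫ WeilRes.restr ff q Tk x

include d in
theorem subsingleton_bc (a b : (Red.bc ff Tk).left) : a = b := by
  have : Subsingleton (PrimeSpectrum (k₀ ⊗[R] R')) := by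
    refine ⟨fun p p' => ?_⟩
    have h : ∀ p : PrimeSpectrum (k₀ ⊗[R] R'), p.asIdeal = RingHom.ker (WeilResAlg.pi (C := k₀) d).toRingHom := fun p => by
      refine ((RingHom.ker_isMaximal_of_surjective (WeilResAlg.pi (C := k₀) d).toRingHom (pi_surjective d)).eq_of_le p.2.ne_top ?_).symm
      intro x hx
      obtain ⟨e, he⟩ := isNilpotent_J d k₀
      refine p.2.mem_of_pow_mem e ?_
      have h1 : x ^ e ∈ J (R' := R') k₀ ^ e := Ideal.pow_mem_pow ((mem_J_iff d x).2 hx) e
      rw [he] at h1
      rw [show x ^ e = 0 from h1]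
      exact zero_mem _
    exact PrimeSpectrum.ext ((h p).trans (h p').symm)
  exact (bcIso (R := R) (R' := R') k₀).hom.homeomorph.injective (this.elim _ _)

/-- The value of a rational point in the special fibre of `N'`. -/
noncomputable abbrev rpt (q : Red.bc ff W ⟶ N') (x : Tk ⟶ W) : N'.left := (red d q x).left.base (closedPoint k₀)

theorem restr_base (x : Tk ⟶ W) (z : (Red.bc ff Tk).left) :
    (WeilRes.restr ff q Tk x).left.base z = rpt d q x := by
  show _ = ((zk d).left ≫ _).base _
  rw [Scheme.Hom.comp_apply]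
  exact congrArg _ (subsingleton_bc d _ _)

theorem rpt_mem (x : Tk ⟶ W) : rpt d q x ∈ SGA7.specialFibreSet R' N' := by
  show N'.hom.base ((red d q x).left.base (closedPoint k₀)) = closedPoint R'
  rw [← Scheme.Hom.comp_apply, Over.w (red d q x)]
  exact θ_point d _

/-- The value of a rational point of `W`. -/
noncomputable abbrev wpt (x : Tk ⟶ W) : W.left := x.left.base (closedPoint k₀)

theorem wpt_mem (x : Tk ⟶ W) : wpt x ∈ SGA7.specialFibreSet R W := by
  show W.hom.base (x.left.base (closedPoint k₀)) = closedPoint R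
  rw [← Scheme.Hom.comp_apply, Over.w x]
  exact PrimeSpectrum.comap_residue R _

/-- Two rational points of `W` in the same component of the special fibre. -/
def Conn (x y : Tk ⟶ W) : Prop := wpt y ∈ connectedComponentIn (SGA7.specialFibreSet R W) (wpt x)

theorem Conn.trans {x y z : Tk ⟶ W} (h : Conn x y) (h' : Conn y z) : Conn x z := by
  unfold Conn at *; rwa [connectedComponentIn_eq h]

theorem Conn.symm {x y : Tk ⟶ W} (h : Conn x y) : Conn y x := by
  unfold Conn at *
  rw [← connectedComponentIn_eq h]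
  exact mem_connectedComponentIn (wpt_mem x)

theorem wpt_TCmap (ev : C →ₐ[ResidueField R] k₀) (Φ : TC C ⟶ W) :
    wpt (TCmap ev ≫ Φ) = Φ.left.base (PrimeSpectrum.comap ev.toRingHom (closedPoint k₀)) := rfl

theorem conn_of_preconnected {S : Set (Spec (CommRingCat.of C))} (hS : _root_.IsPreconnected S) (Φ : TC C ⟶ W)
    (ev ev' : C →ₐ[ResidueField R] k₀) (hev : PrimeSpectrum.comap ev.toRingHom (closedPoint k₀) ∈ S)
    (hev' : PrimeSpectrum.comap ev'.toRingHom (closedPoint k₀) ∈ S) :
    Conn (TCmap ev ≫ Φ) (TCmap ev' ≫ Φ) := by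
  refine (hS.image _ Φ.left.continuous.continuousOn).subset_connectedComponentIn ⟨_, hev, rfl⟩ ?_ ⟨_, hev', rfl⟩
  rintro _ ⟨p, -, rfl⟩
  show W.hom.base (Φ.left.base p) = closedPoint R
  rw [← Scheme.Hom.comp_apply, Over.w Φ]
  exact hom_base_eq_closed p

include d in
/-- Points with the same reduction are in the same component. -/
theorem conn_of_pi_eq (ψ₀ ψ₁ : c.B →ₐ[R'] k₀ ⊗[R] R') (h : ∀ b, WeilResAlg.pi d (ψ₀ b) = WeilResAlg.pi d (ψ₁ b)) :
    Conn (pt c hW ψ₀) (pt c hW ψ₁) := by
  obtain ⟨e, he⟩ := isNilpotent_J d k₀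
  suffices H : ∀ n i, 1 ≤ i → e ≤ i + n → ∀ φ₀ φ₁ : c.B →ₐ[R'] k₀ ⊗[R] R',
      (∀ b, φ₁ b - φ₀ b ∈ J (R' := R') k₀ ^ i) → Conn (pt c hW φ₀) (pt c hW φ₁) by
    refine H e 1 le_rfl (by omega) ψ₀ ψ₁ fun b => ?_
    rw [pow_one, mem_J_iff d, map_sub, h, sub_self]
  intro n
  induction n with
  | zero =>
    intro i _ hei φ₀ φ₁ hφ
    have : φ₁ = φ₀ := AlgHom.ext fun b => sub_eq_zero.1 (by
      have h1 := Ideal.pow_le_pow_right (I := J (R' := R') k₀) hei (hφ b)
      rw [he] at h1
      exact h1)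
    subst this
    exact mem_connectedComponentIn (wpt_mem _)
  | succ n ih =>
    intro i hi hei φ₀ φ₁ hφ
    obtain ⟨Ψ, h0, h1⟩ := exists_line d hi φ₀ φ₁ hφ
    have e0 := ih (i + 1) (by omega) (by omega) ((mapD (Polynomial.aeval (R := k₀) 0)).comp Ψ) φ₀ fun b => by
      have := neg_mem (h0 b); rw [neg_sub] at this; exact this
    have e1 := ih (i + 1) (by omega) (by omega) ((mapD (Polynomial.aeval (R := k₀) 1)).comp Ψ) φ₁ fun b => by
      have := neg_mem (h1 b); rw [neg_sub] at this; exact this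
    refine (e0.symm.trans ?_).trans e1
    rw [← TCmap_pt, ← TCmap_pt]
    exact conn_of_preconnected PreconnectedSpace.isPreconnected_univ _ _ _ trivial trivial

theorem red_pt (ψ : c.B →ₐ[R'] k₀ ⊗[R] R') :
    (red d q (pt c hW ψ)).left = Spec.map (CommRingCat.ofHom ((WeilResAlg.pi d).toRingHom.comp ψ.toRingHom)) ≫ c.j := by
  show (zk d).left ≫ (WeilRes.restr ff q (TC k₀) (pt c hW ψ)).left = _
  rw [restr_pt]
  show (Spec.map _ ≫ (bcIso k₀).inv) ≫ (bcIso k₀).hom ≫ _ ≫ c.j = _
  rw [Category.assoc, Iso.inv_hom_id_assoc, ← Spec.map_comp_assoc, ← CommRingCat.ofHom_comp]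

include d in
theorem exists_psi (x : Tk ⟶ W) (hx : rpt d q x ∈ Set.range c.j.base) :
    ∃ ψ : c.B →ₐ[R'] k₀ ⊗[R] R', x = pt c hW ψ := by
  let a := WeilRes.restr ff q Tk x
  have hr : Set.range a.left.base ⊆ Set.range c.j.base := by
    rintro _ ⟨z, rfl⟩
    rw [restr_base d]
    exact hx
  let l := IsOpenImmersion.lift c.j a.left hr
  obtain ⟨g, hg⟩ := Spec.map_surjective ((bcIso (R := R) (R' := R') k₀).inv ≫ l)
  have hcomm : g.hom.comp (algebraMap R' c.B) = algebraMap R' (k₀ ⊗[R] R') := by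
    have h1 : Spec.map g ≫ Spec.map (CommRingCat.ofHom (algebraMap R' c.B)) =
        Spec.map (CommRingCat.ofHom (algebraMap R' (k₀ ⊗[R] R'))) := by
      rw [hg, ← c.w, Category.assoc, ← Category.assoc l, show l ≫ c.j = a.left from IsOpenImmersion.lift_fac _ _ _, Over.w a]
      exact pullbackSpecIso_inv_snd R k₀ R'
    rw [← Spec.map_comp] at h1
    exact congrArg CommRingCat.Hom.hom (Spec.map_injective h1)
  let ψ : c.B →ₐ[R'] k₀ ⊗[R] R' := { toRingHom := g.hom, commutes' := fun r => RingHom.congr_fun hcomm r }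
  refine ⟨ψ, (hW Tk).injective ((Over.OverMorphism.ext ?_).trans (restr_pt c hW ψ).symm)⟩
  show a.left = (bcIso k₀).hom ≫ Spec.map g ≫ c.j
  rw [hg, Category.assoc, Iso.hom_inv_id_assoc]
  exact (IsOpenImmersion.lift_fac _ _ _).symm

theorem comap_closedPoint_of_mem (g : PrimeSpectrum c.B)
    (hg : c.j.base g ∈ SGA7.specialFibreSet R' N') (r : R') (hr : r ∈ maximalIdeal R') :
    algebraMap R' c.B r ∈ g.asIdeal := by
  have h1 : N'.hom.base (c.j.base g) = closedPoint R' := hg
  rw [← Scheme.Hom.comp_apply, c.w] at h1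
  have h2 := congrArg PrimeSpectrum.asIdeal h1
  exact h2.ge hr

theorem kappa {A : Type u} [CommRing A] [Algebra R' A] (h : ∀ r, d.θ r = 0 → algebraMap R' A r = 0) :
    ∃ κ : k₀ →+* A, ∀ r, κ (d.θ r) = algebraMap R' A r := by
  have hs : Function.Surjective d.θ.toRingHom := fun a => by
    obtain ⟨t, rfl⟩ := residue_surjective a
    exact ⟨algebraMap R R' t, d.θ.commutes t⟩
  exact ⟨RingHom.liftOfSurjective d.θ.toRingHom hs ⟨algebraMap R' A, fun r hr => h r hr⟩,
    fun r => RingHom.liftOfSurjective_comp_apply _ _ _ r⟩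

include d in
/-- Rational points of a chart above a point of the special fibre. -/
theorem exists_kpoint [IsAlgClosed k₀] (g : PrimeSpectrum c.B)
    (hg : c.j.base g ∈ SGA7.specialFibreSet R' N') :
    ∃ χ : c.B →+* k₀, (∀ r, χ (algebraMap R' c.B r) = d.θ r) ∧
      g ⤳ PrimeSpectrum.comap χ (closedPoint k₀) := by
  obtain ⟨M, hM, hgM⟩ := Ideal.exists_le_maximal g.asIdeal g.2.ne_top
  letI := Ideal.Quotient.field M
  obtain ⟨κ, hκ⟩ := kappa d (A := c.B ⧸ M) fun r hr => Ideal.Quotient.eq_zero_iff_mem.2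
    (hgM (comap_closedPoint_of_mem c g hg r (d.mem_max r hr)))
  letI : Algebra R' k₀ := d.θ.toRingHom.toAlgebra
  letI : Algebra k₀ (c.B ⧸ M) := κ.toAlgebra
  haveI : IsScalarTower R' k₀ (c.B ⧸ M) := IsScalarTower.of_algebraMap_eq fun r => (hκ r).symm
  haveI : Algebra.FiniteType R' (c.B ⧸ M) :=
    Algebra.FiniteType.of_surjective (Ideal.Quotient.mkₐ R' M) Ideal.Quotient.mk_surjective
  haveI : Algebra.FiniteType k₀ (c.B ⧸ M) := Algebra.FiniteType.of_restrictScalars_finiteType R' k₀ (c.B ⧸ M)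
  haveI : Module.Finite k₀ (c.B ⧸ M) := finite_of_finite_type_of_isJacobsonRing k₀ (c.B ⧸ M)
  let e := RingEquiv.ofBijective (algebraMap k₀ (c.B ⧸ M))
    (IsAlgClosed.algebraMap_bijective_of_isIntegral (k := k₀) (K := c.B ⧸ M))
  refine ⟨e.symm.toRingHom.comp (Ideal.Quotient.mk M), fun r => ?_, ?_⟩
  · show e.symm (Ideal.Quotient.mk M (algebraMap R' c.B r)) = d.θ r
    rw [RingEquiv.symm_apply_eq]
    exact (hκ r).symm
  · refine (PrimeSpectrum.le_iff_specializes _ _).1 (hgM.trans fun b hb => ?_)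
    show e.symm (Ideal.Quotient.mk M b) ∈ (closedPoint k₀).asIdeal
    rw [Ideal.Quotient.eq_zero_iff_mem.2 hb, map_zero]
    exact zero_mem _

include d hW in
theorem conn_of_specializes (g : N'.left) (hg : g ∈ SGA7.specialFibreSet R' N') (x x' : Tk ⟶ W)
    (hx : rpt d q x ∈ Set.range c.j.base) (hx' : rpt d q x' ∈ Set.range c.j.base)
    (hgx : g ⤳ rpt d q x) (hgx' : g ⤳ rpt d q x') : Conn x x' := by
  obtain ⟨ψ, rfl⟩ := exists_psi c hW d x hx
  obtain ⟨ψ', rfl⟩ := exists_psi c hW d x' hx'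
  obtain ⟨g₀, rfl⟩ : g ∈ Set.range c.j.base := hgx.mem_open c.j.opensRange.2 hx
  let χ := (WeilResAlg.pi (C := k₀) d).toRingHom.comp ψ.toRingHom
  let χ' := (WeilResAlg.pi (C := k₀) d).toRingHom.comp ψ'.toRingHom
  have hle : ∀ φ : c.B →ₐ[R'] k₀ ⊗[R] R', c.j.base g₀ ⤳ rpt d q (pt c hW φ) →
      g₀.asIdeal ≤ RingHom.ker ((WeilResAlg.pi (C := k₀) d).toRingHom.comp φ.toRingHom) := by
    intro φ h b hb
    rw [show rpt d q (pt c hW φ) = c.j.base (PrimeSpectrum.comap ((WeilResAlg.pi (C := k₀) d).toRingHom.comp φ.toRingHom) (closedPoint k₀)) by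
      show (red d q (pt c hW φ)).left.base _ = _
      rw [red_pt]
      rfl] at h
    have h1 := (PrimeSpectrum.le_iff_specializes g₀ _).2 (c.j.isEmbedding.isInducing.specializes_iff.1 h) hb
    have h2 : (WeilResAlg.pi (C := k₀) d).toRingHom.comp φ.toRingHom b ∈ maximalIdeal k₀ := h1
    rwa [maximalIdeal_eq_bot, Ideal.mem_bot] at h2
  let A := c.B ⧸ g₀.asIdeal
  obtain ⟨κ, hκ⟩ := kappa d (A := A) fun r hr => Ideal.Quotient.eq_zero_iff_mem.2
    (comap_closedPoint_of_mem c g₀ hg r (d.mem_max r hr))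
  letI : Algebra k₀ A := κ.toAlgebra
  letI : Algebra R A := (κ.comp (residue R)).toAlgebra
  haveI : IsScalarTower R k₀ A := IsScalarTower.of_algebraMap_eq fun _ => rfl
  obtain ⟨Ψ, hΨ⟩ := exists_lift d (C := A) (Ideal.Quotient.mk g₀.asIdeal) fun r => (hκ r).symm
  have mk : ∀ φ : c.B →ₐ[R'] k₀ ⊗[R] R', g₀.asIdeal ≤ RingHom.ker ((WeilResAlg.pi (C := k₀) d).toRingHom.comp φ.toRingHom) →
      ∃ ev : A →ₐ[k₀] k₀, Conn (pt c hW φ) (TCmap ev ≫ pt c hW Ψ) := by
    intro φ hφ
    let ev : A →ₐ[k₀] k₀ :=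
      { toRingHom := Ideal.Quotient.lift g₀.asIdeal ((WeilResAlg.pi (C := k₀) d).toRingHom.comp φ.toRingHom) hφ
        commutes' := fun a => by
          obtain ⟨r, hr⟩ := residue_surjective a
          show Ideal.Quotient.lift g₀.asIdeal _ hφ (κ a) = a
          have ha : a = d.θ (algebraMap R R' r) := by rw [AlgHom.commutes]; exact hr.symm
          rw [ha, hκ]
          show WeilResAlg.pi d (φ (algebraMap R' c.B _)) = _
          rw [AlgHom.commutes]
          show WeilResAlg.pi d (1 ⊗ₜ algebraMap R R' r) = _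
          simp }
    refine ⟨ev, ?_⟩
    rw [TCmap_pt]
    refine conn_of_pi_eq c hW d _ _ fun b => ?_
    show WeilResAlg.pi d (φ b) = WeilResAlg.pi d (mapD ev (Ψ b))
    rw [pi_mapD, hΨ]
    rfl
  obtain ⟨ev, hev⟩ := mk ψ (hle ψ hgx)
  obtain ⟨ev', hev'⟩ := mk ψ' (hle ψ' hgx')
  refine (hev.trans ?_).trans hev'.symm
  haveI : IrreducibleSpace (Spec (CommRingCat.of A)) := inferInstanceAs (IrreducibleSpace (PrimeSpectrum A))
  exact conn_of_preconnected (IrreducibleSpace.isIrreducible_univ _).isPreirreducible.isPreconnected _ _ _ trivial trivial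

/-- Connected components are preserved by reduction. -/
theorem rpt_conn {x y : Tk ⟶ W} (h : Conn x y) :
    rpt d q y ∈ connectedComponentIn (SGA7.specialFibreSet R' N') (rpt d q x) := by
  let σ := Spec.map (CommRingCat.ofHom (residue R))
  let P := pullback W.hom σ
  let TP : Over (Spec (CommRingCat.of R)) := Over.mk (pullback.snd W.hom σ ≫ σ)
  let v : TP ⟶ W := Over.homMk (pullback.fst W.hom σ) pullback.condition
  have hσ : σ = Spec.map (CommRingCat.ofHom d.θ.toRingHom) ≫ ff := by
    rw [← Spec.map_comp, ← CommRingCat.ofHom_comp]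
    refine congrArg (fun φ : R →+* k₀ => Spec.map (CommRingCat.ofHom φ)) ?_
    exact d.θ.comp_algebraMap.symm
  let s : P ⟶ (Red.bc ff TP).left :=
    pullback.lift (𝟙 P) (pullback.snd W.hom σ ≫ Spec.map (CommRingCat.ofHom d.θ.toRingHom)) (by
      show 𝟙 P ≫ pullback.snd W.hom σ ≫ σ = _
      rw [Category.id_comp, Category.assoc, ← hσ])
  let ρ : P ⟶ N'.left := s ≫ (WeilRes.restr ff q TP v).left
  have hρSF : ∀ p, ρ.base p ∈ SGA7.specialFibreSet R' N' := by
    intro p
    show N'.hom.base (ρ.base p) = closedPoint R'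
    rw [← Scheme.Hom.comp_apply, Category.assoc, Over.w (WeilRes.restr ff q TP v)]
    show (s ≫ pullback.snd _ _).base p = _
    rw [pullback.lift_snd, Scheme.Hom.comp_apply]
    exact θ_point d _
  have hpt : ∀ x : Tk ⟶ W, ∃ p : P, (pullback.fst W.hom σ).base p = wpt x ∧ ρ.base p = rpt d q x := by
    intro x
    let xP : Spec (CommRingCat.of k₀) ⟶ P := pullback.lift x.left (𝟙 _) (by rw [Category.id_comp]; exact Over.w x)
    let xo : Tk ⟶ TP := Over.homMk xP (by
      show xP ≫ pullback.snd W.hom σ ≫ σ = σ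
      rw [pullback.lift_snd_assoc, Category.id_comp])
    have hxo : xo ≫ v = x := Over.OverMorphism.ext (pullback.lift_fst _ _ _)
    refine ⟨xP.base (closedPoint k₀), by rw [← Scheme.Hom.comp_apply, pullback.lift_fst], ?_⟩
    show (xP ≫ ρ).base (closedPoint k₀) = (zk d ≫ WeilRes.restr ff q Tk x).left.base (closedPoint k₀)
    rw [← hxo, WeilRes.restr_comp, Over.comp_left, Over.comp_left]
    refine congrArg (fun φ : Spec (CommRingCat.of k₀) ⟶ N'.left => φ.base (closedPoint k₀)) ?_
    show xP ≫ s ≫ _ = (zk d).left ≫ _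
    rw [← Category.assoc, ← Category.assoc (zk d).left]
    congr 1
    refine pullback.hom_ext ?_ ?_
    · show (xP ≫ s) ≫ pullback.fst TP.hom ff = _
      rw [Category.assoc, pullback.lift_fst, Category.comp_id, Category.assoc]
      show xP = (zk d).left ≫ pullback.lift (pullback.fst _ _ ≫ xo.left) (pullback.snd _ _) _ ≫ pullback.fst TP.hom ff
      rw [pullback.lift_fst]
      show xP = (Spec.map _ ≫ (pullbackSpecIso R k₀ R').inv) ≫ pullback.fst _ _ ≫ xP
      rw [Category.assoc, ← Category.assoc (pullbackSpecIso R k₀ R').inv, pullbackSpecIso_inv_fst, ← Spec.map_comp_assoc,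
        ← CommRingCat.ofHom_comp]
      rw [show (WeilResAlg.pi (C := k₀) d).toRingHom.comp Algebra.TensorProduct.includeLeftRingHom = RingHom.id k₀ from
        RingHom.ext fun a => by show WeilResAlg.pi d (a ⊗ₜ 1) = a; simp]
      rw [CommRingCat.ofHom_id, Spec.map_id, Category.id_comp]
    · show (xP ≫ s) ≫ pullback.snd TP.hom ff = _
      rw [Category.assoc, pullback.lift_snd, pullback.lift_snd_assoc, Category.id_comp]
      exact (Over.w (zk d ≫ (Over.pullback ff).map xo)).symm
  haveI : IsClosedImmersion σ := IsClosedImmersion.spec_of_surjective _ residue_surjective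
  have hrange : Set.range (pullback.fst W.hom σ).base = SGA7.specialFibreSet R W := by
    rw [Scheme.Pullback.range_fst]
    ext w
    constructor
    · rintro ⟨p, hp⟩
      show W.hom.base w = closedPoint R
      rw [← hp]
      exact PrimeSpectrum.comap_residue R p
    · intro hw
      exact ⟨closedPoint k₀, (PrimeSpectrum.comap_residue R _).trans (Eq.symm hw)⟩
  let K := (pullback.fst W.hom σ).base ⁻¹' connectedComponentIn (SGA7.specialFibreSet R W) (wpt x)
  have hK : _root_.IsPreconnected K := by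
    refine (pullback.fst W.hom σ).isEmbedding.isInducing.isPreconnected_image.1 ?_
    rw [Set.image_preimage_eq_of_subset (by rw [hrange]; exact connectedComponentIn_subset _ _)]
    exact isPreconnected_connectedComponentIn
  obtain ⟨p, hp, hp'⟩ := hpt x
  obtain ⟨p₁, hp₁, hp₁'⟩ := hpt y
  refine (hK.image _ ρ.continuous.continuousOn).subset_connectedComponentIn ⟨p, ?_, hp'⟩ ?_ ⟨p₁, ?_, hp₁'⟩
  · show _ ∈ connectedComponentIn _ _
    rw [hp]; exact mem_connectedComponentIn (wpt_mem x)
  · rintro _ ⟨p, -, rfl⟩; exact hρSF p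
  · show _ ∈ connectedComponentIn _ _
    rw [hp₁]; exact h

variable [Smooth N'.hom]

include hW in
/-- Every residue point of `N'` is the reduction of a rational point of `W`. -/
theorem exists_red_eq (x' : Tk' d ⟶ N') : ∃ x : Tk ⟶ W, red d q x = x' := by
  obtain ⟨c, hc, -⟩ := exists_chart (N' := N') isOpen_univ (Set.mem_univ (x'.left.base (closedPoint k₀)))
  have hr : Set.range x'.left.base ⊆ Set.range c.j.base := by
    rintro _ ⟨p, rfl⟩
    rw [Subsingleton.elim (α := PrimeSpectrum k₀) p (closedPoint k₀)]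
    exact hc
  obtain ⟨g, hg⟩ := Spec.map_surjective (IsOpenImmersion.lift c.j x'.left hr)
  have hθ : ∀ r, g.hom (algebraMap R' c.B r) = d.θ r := by
    have h1 : Spec.map g ≫ Spec.map (CommRingCat.ofHom (algebraMap R' c.B)) = Spec.map (CommRingCat.ofHom d.θ.toRingHom) := by
      rw [hg, ← c.w, IsOpenImmersion.lift_fac_assoc]
      exact Over.w x'
    rw [← Spec.map_comp] at h1
    intro r
    exact RingHom.congr_fun (congrArg CommRingCat.Hom.hom (Spec.map_injective h1)) r
  obtain ⟨ψ, hψ⟩ := exists_lift d (C := k₀) g.hom hθ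
  refine ⟨pt c hW ψ, Over.OverMorphism.ext ?_⟩
  rw [red_pt, show (WeilResAlg.pi (C := k₀) d).toRingHom.comp ψ.toRingHom = g.hom from RingHom.ext hψ]
  show Spec.map (CommRingCat.ofHom g.hom) ≫ c.j = _
  rw [CommRingCat.ofHom_hom, hg, IsOpenImmersion.lift_fac]

include hW in
/-- Every component of the special fibre of `N'` contains a reduction. -/
theorem exists_rpt_mem [IsAlgClosed k₀] (y : N'.left) (hy : y ∈ SGA7.specialFibreSet R' N') :
    ∃ x : Tk ⟶ W, y ⤳ rpt d q x := by
  obtain ⟨c, ⟨g, rfl⟩, -⟩ := exists_chart (N' := N') isOpen_univ (Set.mem_univ y)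
  obtain ⟨χ, hχ, hgχ⟩ := exists_kpoint c d g hy
  obtain ⟨ψ, hψ⟩ := exists_lift d (C := k₀) χ hχ
  refine ⟨pt c hW ψ, ?_⟩
  show c.j.base g ⤳ (red d q (pt c hW ψ)).left.base _
  rw [red_pt, show (WeilResAlg.pi (C := k₀) d).toRingHom.comp ψ.toRingHom = χ from RingHom.ext hψ]
  exact hgχ.map c.j.continuous

theorem specialFibreSet_isClosed {A : Type u} [CommRing A] [IsLocalRing A] (G : Over (Spec (CommRingCat.of A))) :
    IsClosed (SGA7.specialFibreSet A G) :=
  ((PrimeSpectrum.isClosed_singleton_iff_isMaximal (closedPoint A)).2 (maximalIdeal.isMaximal A)).preimage G.hom.continuous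

theorem component_specializes_mem {A : Type u} [CommRing A] [IsLocalRing A] (G : Over (Spec (CommRingCat.of A)))
    {a b : G.left} (ha : a ∈ SGA7.specialFibreSet A G) (hab : a ⤳ b) :
    b ∈ connectedComponentIn (SGA7.specialFibreSet A G) a :=
  (isIrreducible_singleton.closure.isPreirreducible.isPreconnected).subset_connectedComponentIn
    (subset_closure rfl) (closure_minimal (Set.singleton_subset_iff.2 ha) (specialFibreSet_isClosed G)) hab.mem_closure

variable [GrpObj N'] [GrpObj W] [IsMonHom q]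

theorem red_one : red d q (1 : Tk ⟶ W) = 1 := by
  rw [red, WeilRes.restr_one, MonObj.comp_one]

theorem rpt_one : rpt d q (1 : Tk ⟶ W) = η[N'].left.base (closedPoint R') := by
  show (red d q (1 : Tk ⟶ W)).left.base _ = _
  rw [red_one, Hom.one_def, Over.comp_left, Scheme.Hom.comp_apply]
  exact congrArg _ (θ_point d _)

theorem red_mul (x y : Tk ⟶ W) : red d q (x * y) = red d q x * red d q y := by
  rw [red, WeilRes.restr_mul, MonObj.comp_mul]
  rfl

theorem red_pow (x : Tk ⟶ W) : ∀ n : ℕ, red d q (x ^ n) = red d q x ^ n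
  | 0 => by rw [pow_zero, pow_zero]; exact red_one d
  | n + 1 => by rw [pow_succ, pow_succ, red_mul, red_pow x n]

theorem red_inv (x : Tk ⟶ W) : red d q x⁻¹ = (red d q x)⁻¹ := by
  refine eq_inv_of_mul_eq_one_left ?_
  rw [← red_mul, inv_mul_cancel, red_one]

include hW in
/-- Reduction detects the identity component. -/
theorem mem_neutral_iff [IsAlgClosed k₀] (x : Tk ⟶ W) :
    wpt x ∈ SGA3x.neutralSet W ↔ rpt d q x ∈ SGA3x.neutralSet N' := by
  rw [mem_neutralSet_iff W (wpt_mem x), mem_neutralSet_iff N' (rpt_mem d x), ← rpt_one (W := W) (q := q) d]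
  have hone : η[W].left.base (closedPoint R) = wpt (1 : Tk ⟶ W) := by
    show _ = ((1 : Tk ⟶ W)).left.base _
    rw [Hom.one_def, Over.comp_left, Scheme.Hom.comp_apply]
    exact (congrArg _ (PrimeSpectrum.comap_residue R _)).symm
  rw [hone]
  refine ⟨fun h => rpt_conn d h, fun h => ?_⟩
  set C₀ := connectedComponentIn (SGA7.specialFibreSet R' N') (rpt d q (1 : Tk ⟶ W))
  have hC₀ : C₀ = SGA7.secComp R' N' 1 := by
    rw [SGA7X.secComp_one, ← rpt_one (W := W) (q := q) d]
  have hirr : IsIrreducible C₀ := hC₀ ▸ SGA7X.isIrreducible_secComp_one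
  have hC₀cl : IsClosed C₀ := closure_subset_iff_isClosed.1 ((isPreconnected_connectedComponentIn.closure).subset_connectedComponentIn
    (subset_closure (mem_connectedComponentIn (rpt_mem d _)))
    ((closure_mono (connectedComponentIn_subset _ _)).trans (specialFibreSet_isClosed N').closure_subset))
  obtain ⟨g, hg⟩ := QuasiSober.sober hirr hC₀cl
  have hgs : ∀ {a}, a ∈ C₀ → g ⤳ a := fun ha => IsGenericPoint.specializes hg ha
  have hgSF : g ∈ SGA7.specialFibreSet R' N' := connectedComponentIn_subset _ _ (IsGenericPoint.mem hg)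
  obtain ⟨c, hc, -⟩ := exists_chart (N' := N') isOpen_univ (Set.mem_univ (rpt d q x))
  obtain ⟨c₀, hc₀, -⟩ := exists_chart (N' := N') isOpen_univ (Set.mem_univ (rpt d q (1 : Tk ⟶ W)))
  have hgc : g ∈ Set.range c.j.base := (hgs h).mem_open c.j.opensRange.2 hc
  have hgc₀ : g ∈ Set.range c₀.j.base := (hgs (mem_connectedComponentIn (rpt_mem d _))).mem_open c₀.j.opensRange.2 hc₀
  obtain ⟨c₁, ⟨g₁, hg₁⟩, hc₁⟩ := exists_chart (N' := N') (c.j.opensRange.2.inter c₀.j.opensRange.2) ⟨hgc, hgc₀⟩
  obtain ⟨χ, hχ, hgχ⟩ := exists_kpoint c₁ d g₁ (hg₁ ▸ hgSF)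
  obtain ⟨ψ, hψ⟩ := exists_lift d (C := k₀) χ hχ
  have hsp : g ⤳ rpt d q (pt c₁ hW ψ) := by
    show g ⤳ (red d q (pt c₁ hW ψ)).left.base _
    rw [red_pt, show (WeilResAlg.pi (C := k₀) d).toRingHom.comp ψ.toRingHom = χ from RingHom.ext hψ, ← hg₁]
    exact hgχ.map c₁.j.continuous
  have hmem : rpt d q (pt c₁ hW ψ) ∈ Set.range c₁.j.base := by
    show (red d q (pt c₁ hW ψ)).left.base _ ∈ _
    rw [red_pt]
    exact ⟨_, rfl⟩
  exact (conn_of_specializes c₀ hW d g hgSF 1 _ hc₀ (hc₁ hmem).2 (hgs (mem_connectedComponentIn (rpt_mem d _))) hsp).trans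
    (conn_of_specializes c hW d g hgSF x _ hc (hc₁ hmem).1 (hgs h) hsp).symm

end Groth.Agent.NeronA.WeilResSpecial
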